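import Mathlib
import Cfsg.Agent.H17.Alt3
import Cfsg.Agent.H10.PSL2Max
import Cfsg.Agent.H10.SmallIso
import Cfsg.Agent.H10.FourGroups
import Cfsg.Agent.S3820

/-! Pronormality of subgroups of odd index. -/

set_option autoImplicit false
set_option linter.unusedSectionVars false

open Cfsg Equiv Sum MulAction
open Cfsg.FusionSystem hiding inv_mem
open scoped MatrixGroups

namespace Cfsg.Agent.H17

section gen
variable {G G' : Type*} [Group G] [Group G'] {S H M : Subgroup G} {g x : G}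

/-- Conjugate subgroup. -/
abbrev cjs (H : Subgroup G) (g : G) : Subgroup G := H.map (MulAut.conj g).toMonoidHom

theorem cjs_mul (g h : G) : cjs H (g * h) = cjs (cjs H h) g := by
  rw [cjs, cjs, cjs, Subgroup.map_map]; congr 1; ext; simp [mul_assoc]

theorem cjs_eq_of_conj_mem [Finite G] (h : ∀ x ∈ H, g * x * g⁻¹ ∈ H) : cjs H g = H :=
  Subgroup.eq_of_le_of_card_ge (by rintro _ ⟨x, hx, rfl⟩; exact h x hx)
    (Subgroup.card_map_of_injective (MulAut.conj g).injective).ge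

theorem cjs_eq_of_mem [Finite G] (h : g ∈ H) : cjs H g = H :=
  cjs_eq_of_conj_mem fun _ hx => H.mul_mem (H.mul_mem h hx) (H.inv_mem h)

theorem exists_odd_part [Finite G] (g : G) : ∃ a b : ℕ, Odd (orderOf (g ^ a)) ∧ PEl 2 (g ^ b) ∧ g = g ^ a * g ^ b := by
  obtain ⟨k, m, hm, e⟩ := Nat.exists_eq_two_pow_mul_odd (orderOf_pos g).ne'
  have hc : Nat.Coprime (2 ^ k) m := (Nat.coprime_two_left.2 hm).pow_left k
  obtain ⟨a, h1, h2⟩ := Nat.chineseRemainder hc 0 1
  obtain ⟨b, h3, h4⟩ := Nat.chineseRemainder hc 1 0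
  refine ⟨a, b, hm.of_dvd_nat (orderOf_dvd_of_pow_eq_one ?_), ⟨k, ?_⟩, ?_⟩
  · rw [← pow_mul, ← orderOf_dvd_iff_pow_eq_one, e]
    exact Nat.mul_dvd_mul_right ((Nat.modEq_zero_iff_dvd).1 h1) m
  · rw [← pow_mul, ← orderOf_dvd_iff_pow_eq_one, e, mul_comm]
    exact Nat.mul_dvd_mul_right ((Nat.modEq_zero_iff_dvd).1 h4) _
  · rw [← pow_add, ← pow_one g, ← pow_mul, one_mul, pow_eq_pow_iff_modEq, e]
    exact ((Nat.modEq_and_modEq_iff_modEq_mul hc).1 ⟨h1.add h3, h2.add h4⟩).symm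

theorem mem_of_pEl_normalizer {p : ℕ} [Fact p.Prime] (hS : H18.SylIn p S M) (hg : g ∈ M) (h : PEl p g)
    (hn : g ∈ Subgroup.normalizer (S : Set G)) : g ∈ S :=
  hS.max _ (sup_le hS.le (Subgroup.zpowers_le.2 hg)) (isPGroup_sup_zpowers hS.isP h hn) le_sup_left ▸
    Subgroup.mem_sup_right (Subgroup.mem_zpowers g)

theorem eq_one_of_odd (h : PEl 2 g) (h1 : Odd (orderOf g)) : g = 1 :=
  h.eq_one_of_pow (Nat.coprime_two_right.2 h1) (pow_orderOf_eq_one g)

theorem odd_pow_orderOf (h : Odd (orderOf g)) (n : ℕ) : Odd (orderOf (g ^ n)) := h.of_dvd_nat (orderOf_pow_dvd n)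

/-- If all elements of odd order of `N_M(S)` lie in `H`, so do all elements. -/
theorem mem_of_odd [Finite G] (hS : H18.SylIn 2 S M) (hSH : S ≤ H) {N : Subgroup G} (hN : N ≤ M ⊓ Subgroup.normalizer (S : Set G))
    (h : ∀ g ∈ N, Odd (orderOf g) → g ∈ H) : N ≤ H := fun g hg => by
  obtain ⟨a, b, h1, h2, e⟩ := exists_odd_part g
  have k := hN (N.pow_mem hg b)
  exact e ▸ H.mul_mem (h _ (N.pow_mem hg a) h1) (hSH (mem_of_pEl_normalizer hS k.1 h2 k.2))

/-- Every subgroup of odd index is pronormal. -/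
def AllPron (G : Type*) [Group G] : Prop := ∀ H : Subgroup G, Odd H.index → IsPronormal H

theorem allPron_of [Finite G] (h : ∀ S H : Subgroup G, H18.SylIn 2 S ⊤ → S ≤ H →
    ∀ g ∈ Subgroup.normalizer (S : Set G), Odd (orderOf g) → ∃ w ∈ H ⊔ cjs H g, cjs H g = cjs H w) : AllPron G := fun H hH => by
  obtain ⟨S, hS, -⟩ := H18.exists_sylIn_ge (p := 2) IsPGroup.of_bot (bot_le : ⊥ ≤ H)
  have hS' : H18.SylIn 2 S ⊤ := H18.sylIn_of_not_dvd_relIndex le_top hS.isP (by
    rw [Subgroup.relIndex_top_right, ← Subgroup.relIndex_mul_index hS.le, Nat.prime_two.dvd_mul, not_or]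
    exact ⟨hS.not_dvd_relIndex, by rwa [← even_iff_two_dvd, Nat.not_even_iff_odd]⟩)
  refine (S3820.result S H hS.le fun g => ?_).2 fun g hg => ?_
  · obtain ⟨x, hx, k⟩ := (hS'.mono le_sup_left le_top).exists_conj_iff
      ((hS'.conj (g := g) (Subgroup.le_normalizer trivial)).mono (le_sup_right : _ ≤ S ⊔ cjs S g) le_top)
    refine ⟨x, hx, Subgroup.ext fun y => ?_⟩
    rw [H10.mem_map_conj (g := x), k]
    simp [mul_assoc]
  · obtain ⟨a, b, h1, h2, e⟩ := exists_odd_part g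
    have k : cjs H g = cjs H (g ^ a) := by
      rw [e, cjs_mul, cjs_eq_of_mem (hS.le (mem_of_pEl_normalizer hS' trivial h2 (pow_mem hg b))), ← e]
    have := h S H hS' hS.le _ (pow_mem hg a) h1
    rwa [← k] at this

theorem allPron_of_normalizes [Finite G] (hS : H18.SylIn 2 S ⊤) (h : ∀ H : Subgroup G, S ≤ H →
    ∀ g ∈ Subgroup.normalizer (S : Set G), Odd (orderOf g) → ∀ x ∈ H, g * x * g⁻¹ ∈ H) : AllPron G :=
  allPron_of fun S' H hS' hH g hg ho => ⟨1, one_mem _, by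
    obtain ⟨y, -, k⟩ := hS.exists_conj_iff hS'
    rw [cjs_eq_of_mem H.one_mem]
    refine cjs_eq_of_conj_mem fun x hx => ?_
    have := h (cjs H y⁻¹) (fun s hs => H10.mem_map_conj.2 (by simpa using hH ((k s).1 hs))) (y⁻¹ * g * y)
      (H18.mem_normalizer_of_conj_mem fun s hs => (k _).2 (by
        simpa [mul_assoc] using conj_mem_of_mem_normalizer hg ((k s).1 hs)))
      (by simpa using (show Odd (orderOf (MulAut.conj y⁻¹ g)) by rwa [MulEquiv.orderOf_eq])) (y⁻¹ * x * y)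
      (H10.mem_map_conj.2 (by simpa [mul_assoc]))
    simpa [mul_assoc] using H10.mem_map_conj.1 this⟩

theorem AllPron.of_surjective (h : AllPron G) (f : G →* G') (hf : Function.Surjective f) : AllPron G' := fun H hH g => by
  obtain ⟨g, rfl⟩ := hf g
  have k : ∀ x, (cjs (H.comap f) x).map f = cjs H (f x) := fun x => by
    conv_rhs => rw [← Subgroup.map_comap_eq_self_of_surjective hf H]
    simp only [cjs, Subgroup.map_map]; congr 1; ext; simp
  obtain ⟨x, hx, e⟩ := h (H.comap f) (by rwa [Subgroup.index_comap_of_surjective _ hf]) g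
  refine ⟨f x, ?_, (k g).symm.trans ((congrArg (Subgroup.map f) e).trans (k x))⟩
  have := Subgroup.mem_map_of_mem f hx
  rwa [Subgroup.map_sup, k, Subgroup.map_comap_eq_self_of_surjective hf] at this

end gen

section perm
variable {I R : Type} [Fintype I] [Fintype R] [DecidableEq I] [DecidableEq R] [Subsingleton R]
  {S : Subgroup (Perm (I × ZMod 2 ⊕ R))} {g : Perm (I × ZMod 2 ⊕ R)}

theorem exists_wr_of_normalizer_two (h1 : (trl R).range ≤ S) (h2 : S ≤ Wt I 2 R)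
    (hg : g ∈ Subgroup.normalizer (S : Set _)) : ∃ σ a b, g = wr R σ a b := by
  refine exists_eq_wr fun i => ?_
  obtain ⟨τ, d, k1⟩ := h2 (conj_mem_of_mem_normalizer hg (h1 (tl_mem (b := Pi.single i 1))))
  have k2 : ∀ y, wr R τ 1 d (g (inl (i, y))) = g (inl (i, y + 1)) := fun y => by simp [← k1]
  rcases e : g (inl (i, 0)) with ⟨j, c⟩ | r
  · have k3 : g (inl (i, 1)) = inl (τ j, c + d j) := by simpa [e] using (k2 0).symm
    have k4 : τ j = j := by
      by_contra hj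
      obtain ⟨w, hw⟩ := g.surjective (inl (j, c + 1))
      have k5 : tl R (Pi.single i 1) w = w := by
        rcases w with ⟨l, y⟩ | r
        · by_cases hl : l = i
          · rcases zmod_two y with rfl | rfl
            · simp [hl, e] at hw
            · simp [hl, k3, hj] at hw
          · simp [hl]
        · rfl
      have : g w = wr R τ 1 d (g w) := by simp [← k1, k5]
      simp [hw, Ne.symm hj] at this
    have k5 : d j = 1 := (zmod_two (d j)).resolve_left fun h => by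
      simpa using g.injective (k3.trans (by simp [e, h, k4] : _ = g (inl (i, 0))))
    refine ⟨j, 1, c, fun y => ?_⟩
    rcases zmod_two y with rfl | rfl
    · simp [e]
    · simp [k3, k4, k5, add_comm]
  · exact absurd ((e ▸ k2 0).symm.trans e.symm : g (inl (i, 0 + 1)) = g (inl (i, 0))) (by simp)

theorem wr_mem_of_normalizes (hS : H18.SylIn 2 S ⊤) (h1 : (trl R).range ≤ S) (h2 : S ≤ Wt I 2 R)
    (ih : ∀ T : Subgroup (Perm I), H18.SylIn 2 T ⊤ → Subgroup.normalizer (T : Set (Perm I)) ≤ T) {σ a b}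
    (hg : ∀ x ∈ S, x ∈ alternatingGroup _ → wr R σ a b * x * (wr R σ a b)⁻¹ ∈ S) : wr R σ a b ∈ S := by
  obtain rfl : a = 1 := Subsingleton.elim _ _
  have k : ∀ τ c, wr R τ 1 c ∈ S ↔ τ ∈ S.comap (dlt 2 R) := fun τ c => by
    rw [wr_eq', S.mul_mem_cancel_left (h1 tl_mem), Subgroup.mem_comap]
  have hi : Function.Injective (dlt (I := I) 2 R) := fun _ _ e => (wr_inj e).1
  refine (k _ _).2 (ih _ ⟨le_top, hS.isP.comap_of_injective _ hi, fun T _ hT hle => le_antisymm (fun τ hτ => ?_) hle⟩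
    (H18.mem_normalizer_of_conj_mem fun τ hτ => ?_))
  · have := hS.max _ le_top (IsPGroup.to_sup_of_normal_left' (isPGroup_trl (I := I) (R := R) (p := 2)) (hT.map (dlt 2 R))
      (by rintro _ ⟨ρ, -, rfl⟩; exact wr_mem_normalizer)) fun x hx => by
        obtain ⟨ρ, c, rfl⟩ := h2 hx
        rw [wr_eq']
        exact Subgroup.mul_mem_sup tl_mem (Subgroup.mem_map_of_mem _ (hle ((k _ _).1 hx)))
    exact Subgroup.mem_comap.2 (this ▸ Subgroup.mem_sup_right (Subgroup.mem_map_of_mem _ hτ))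
  · have := hg _ hτ (by simp [Perm.mem_alternatingGroup, sign_dlt])
    rw [dlt_eq, wr_inv, wr_mul, wr_mul] at this
    exact (k _ _).1 (by convert this using 2; exact Subsingleton.elim _ _)

/-- Self-normalising Sylow `2`-subgroups. -/
def SN (G : Type*) [Group G] : Prop :=
  ∀ T : Subgroup G, H18.SylIn 2 T ⊤ → Subgroup.normalizer (T : Set G) ≤ T

theorem SN.of_one {G G' : Type*} [Group G] [Finite G] [Group G'] {H S : Subgroup G} (hS : H18.SylIn 2 S H)
    (h2 : ∀ g ∈ H, g ∈ Subgroup.normalizer (S : Set G) → g ∈ S) (e : H ≃* G') : SN G' := fun S' hS' => by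
  haveI : Finite G' := Finite.of_equiv _ e.toEquiv
  have k1 := (H18.sylIn_top_iff.2 hS.exists_sylow).map e.toMonoidHom
  rw [← MonoidHom.range_eq_map, MonoidHom.range_eq_top.2 e.surjective] at k1
  obtain ⟨g, -, hg⟩ := k1.exists_conj_iff hS'
  obtain ⟨f, hf⟩ : ∃ f : G' ≃* H, ∀ x, x ∈ S' ↔ (f x : G) ∈ S := ⟨(e.trans (MulAut.conj g)).symm, fun x => by
    obtain ⟨x, rfl⟩ := (e.trans (MulAut.conj g)).surjective x
    rw [MulEquiv.symm_apply_apply]
    exact (hg _).symm.trans (Subgroup.mem_map_iff_mem e.injective)⟩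
  exact fun x hx => (hf x).2 (h2 _ (f x).2 (H18.mem_normalizer_of_conj_mem fun y hy => by
    simpa using (hf _).1 (conj_mem_of_mem_normalizer hx ((hf (f.symm ⟨y, hS.le hy⟩)).2 (by simpa)))))

theorem sn_perm (n : ℕ) : ∀ {α : Type} [Fintype α] [DecidableEq α], Fintype.card α = n → SN (Perm α) := by
  induction n using Nat.strong_induction_on with | _ n ih => ?_
  intro α _ _ hn
  rcases Nat.eq_zero_or_pos n with rfl | h0
  · haveI := Fintype.card_eq_zero_iff.1 hn
    exact fun T _ g _ => Subsingleton.elim 1 g ▸ T.one_mem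
  obtain ⟨e⟩ := nonempty_equiv_om 2 α
  haveI := Fin.subsingleton_iff_le_one.2 (show Fintype.card α % 2 ≤ 1 by omega)
  obtain ⟨S, h1, h2, h3⟩ := exists_sylow_le_Wt (I := Fin (Fintype.card α / 2)) (R := Fin (Fintype.card α % 2))
    (p := 2) (by simp; omega)
  refine SN.of_one h1 (fun g _ hg => ?_) (Subgroup.topEquiv.trans e.permCongrHom.symm)
  obtain ⟨σ, a, b, rfl⟩ := exists_wr_of_normalizer_two h2 h3 hg
  exact wr_mem_of_normalizes h1 h2 h3 (ih _ (by simp; omega) rfl) fun x hx _ => conj_mem_of_mem_normalizer hg hx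

theorem sn_alt {α : Type} [Fintype α] [DecidableEq α] (h6 : 6 ≤ Fintype.card α) : SN (alternatingGroup α) := by
  obtain ⟨e⟩ := nonempty_equiv_om 2 α
  haveI := Fin.subsingleton_iff_le_one.2 (show Fintype.card α % 2 ≤ 1 by omega)
  obtain ⟨S, h1, h2, h3⟩ := exists_sylow_le_Wt (I := Fin (Fintype.card α / 2)) (R := Fin (Fintype.card α % 2))
    (p := 2) (by simp; omega)
  refine SN.of_one (h1.inf_normal (N := alternatingGroup _)) (fun g h hg => ?_) e.symm.altCongrHom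
  obtain ⟨σ, a, b, rfl⟩ := exists_wr_of_normalizer (by simp; omega) (inf_le_inf_right _ h2) (inf_le_left.trans h3) hg
  exact ⟨wr_mem_of_normalizes h1 h2 h3 (sn_perm _ rfl) fun x hx h' => (conj_mem_of_mem_normalizer hg ⟨hx, h'⟩).1, h⟩

theorem SN.allPron {G : Type*} [Group G] [Finite G] (h : SN G) : AllPron G :=
  allPron_of fun _ _ hS hH g hg _ => ⟨g, Subgroup.mem_sup_left (hH (h _ hS hg)), rfl⟩

end perm

section line
variable {G X : Type*} [Group G] [Finite G] [MulAction G X] {p : ℕ} [hp : Fact p.Prime] {S K : Subgroup G}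

theorem isCyclic_of_fix (h : H10.LineAct p K X) (hK : ¬ p ∣ Nat.card K) {x : X} (hx : ∀ g : K, g • x = x) : IsCyclic K := by
  have k : stabilizer K x = ⊤ := eq_top_iff.2 fun g _ => hx g
  rcases subsingleton_or_nontrivial K with _ | _
  · infer_instance
  obtain ⟨c, -, -, -, -, e⟩ := h.exists_partner (h.U_eq_bot_of_not_dvd hK x) (k ▸ top_ne_bot)
  exact ⟨c, fun g => (k.symm.trans e).le trivial⟩

theorem allPron_line (h2 : p ≠ 2) (h0 : H10.LineAct p G X) (h : ∀ K : Subgroup G, H10.LineAct p K X)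
    (hc : ∀ S : Subgroup G, H18.SylIn 2 S ⊤ → ¬ IsCyclic S) : AllPron G := by
  classical
  refine allPron_of fun S H hS hH g hg ho => ?_
  obtain ⟨m, hm⟩ := IsPGroup.iff_card.1 hS.isP
  have hpS : ¬ p ∣ Nat.card S := fun k =>
    h2 ((Nat.prime_dvd_prime_iff_eq hp.out Nat.prime_two).1 (hp.out.dvd_of_dvd_pow (hm ▸ k)))
  have h3 : ¬ 3 ∣ Nat.card S := fun k => absurd (Nat.prime_three.dvd_of_dvd_pow (hm ▸ k)) (by omega)
  have hfix : ∀ x : X, ¬ ∀ s : S, s • x = x := fun x k => hc S hS (isCyclic_of_fix (h S) hpS k)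
  obtain ⟨z, z', hz, hP⟩ : ∃ z z' : X, z ≠ z' ∧ S ≤ H10.pairStab G z z' := by
    rcases (h S).classify with ⟨x, k⟩ | ⟨z, k⟩ | ⟨-, -, k⟩ | ⟨-, -, k⟩ | ⟨x, k, -⟩
    · exact absurd k (hfix x)
    · exact ⟨z, H10.le_pairStab_of_orbit_two k⟩
    · omega
    · omega
    · simp [(h S).U_eq_bot_of_not_dvd hpS x] at k
  obtain ⟨s, hs, s1, s2⟩ := (H10.le_torus_or_swap hP).resolve_left fun k => hfix z fun s => (k s.2).1
  have sq : ∀ x ∈ H10.pairStab G z z', x ∉ H10.torus G z z' → x * x = 1 := fun x hx k =>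
    h0.swap_mul_self hz (hx.resolve_left k).1 (hx.resolve_left k).2
  have k1 : H10.pairStab G z z' ⊓ Subgroup.normalizer (S : Set G) ≤ S :=
    mem_of_odd hS le_rfl (le_inf le_top inf_le_right) fun x hx ox => by
      have k : x ∈ H10.torus G z z' := by_contra fun k => k (eq_one_of_odd (pEl_of_pow (by rw [pow_two, sq x hx.1 k])) ox ▸ one_mem _)
      have k' := S.mul_mem (conj_mem_of_mem_normalizer hx.2 hs) (S.inv_mem hs)
      rw [mul_assoc, mul_assoc, ← mul_assoc s, h0.swap_inverts hz s1 s2 (inv_mem k).1 (inv_mem k).2, inv_inv, ← pow_two] at k'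
      have := eq_one_of_odd (pEl_of_mem hS.isP k') (odd_pow_orderOf ox 2)
      exact eq_one_of_odd (pEl_of_pow this) ox ▸ one_mem _
  have k2 : ∀ c ∈ H10.torus G z z', c ≠ 1 → ∀ x ∈ Subgroup.normalizer (S : Set G), x * c * x⁻¹ ∈ H10.torus G z z' → x ∈ S :=
    fun c hc c1 x hx k => k1 ⟨h0.mem_pairStab_of_conj hz c1 hc k, hx⟩
  by_cases hgK : g ∈ H ⊔ cjs H g
  · exact ⟨g, hgK, rfl⟩
  have hgS : g ∉ S := fun k => hgK (Subgroup.mem_sup_left (hH k))
  have k3 : ∀ x ∈ S, x * x = 1 := fun x hx => by_contra fun k =>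
    hgS (k2 x (by_contra fun e => k (sq x (hP hx) e)) (fun e => k (by simp [e])) g hg (by_contra fun e =>
      k (by simpa using (conj_mul ..).symm.trans (sq _ (hP (conj_mem_of_mem_normalizer hg hx)) e))))
  obtain ⟨t, ht, tT, t1⟩ : ∃ t ∈ S, t ∈ H10.torus G z z' ∧ t ≠ 1 := by
    by_contra! k
    refine hc S hS ⟨⟨s, hs⟩, fun x => ?_⟩
    rcases hP x.2 with e | e
    · exact ⟨0, (zpow_zero _).trans (Subtype.ext (k _ x.2 e) : x = 1).symm⟩
    · exact ⟨-1, by simpa using (Subtype.ext (eq_inv_of_mul_eq_one_left (k _ (S.mul_mem x.2 hs) ⟨by simp [mul_smul, s1, e.2], by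
        simp [mul_smul, s2, e.1]⟩)) : x = ⟨s, hs⟩⁻¹).symm⟩
  have k4 : ∀ x ∈ S, x ∈ H10.torus G z z' → x = 1 ∨ x = t := fun x hx xT => by
    haveI := h0.isCyclic_of_le_torus hz le_rfl
    refine or_iff_not_imp_left.2 fun x1 => ?_
    have o : ∀ y ∈ S, y ≠ 1 → orderOf y = 2 := fun y hy y1 => orderOf_eq_prime (by rw [pow_two, k3 y hy]) y1
    have e := H10.eq_of_card_eq_of_isCyclic (Subgroup.zpowers_le.2 xT) (Subgroup.zpowers_le.2 tT)
      (by rw [Nat.card_zpowers, Nat.card_zpowers, o x hx x1, o t ht t1])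
    obtain ⟨n, hn, rfl⟩ := (mem_zpowers_iff_mem_range_orderOf.1 (e ▸ Subgroup.mem_zpowers x) |> Finset.mem_image.1)
    rw [o t ht t1, Finset.mem_range] at hn
    interval_cases n
    · exact absurd (pow_zero t) x1
    · exact pow_one t
  have k5 : ∀ x ∈ Subgroup.normalizer (S : Set G), x ∉ S → x * t * x⁻¹ = s ∨ x * t * x⁻¹ = t * s := fun x hx xS => by
    have e := conj_mem_of_mem_normalizer hx ht
    have e' := (hP e).resolve_left fun k => xS (k2 t tT t1 x hx k)
    have := k4 _ (S.mul_mem e (S.inv_mem hs)) (H10.mem_torus.2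
      ⟨by rw [mul_smul _ s⁻¹, inv_smul_eq_iff.2 s2.symm, e'.2], by rw [mul_smul _ s⁻¹, inv_smul_eq_iff.2 s1.symm, e'.1]⟩)
    exact this.imp mul_inv_eq_one.1 mul_inv_eq_iff_eq_mul.1
  have k6 : ∀ x ∈ H ⊔ cjs H g, x ∈ Subgroup.normalizer (S : Set G) → x ∈ S := fun x hx xN => by_contra fun xS => by
    have key : ∀ y ∈ H ⊔ cjs H g, y ∈ Subgroup.normalizer (S : Set G) → y * t * y⁻¹ ≠ g * t * g⁻¹ := fun y hy yN e =>
      hgK (by simpa using mul_mem hy (Subgroup.mem_sup_left (hH (k2 t tT t1 (y⁻¹ * g) (mul_mem (inv_mem yN) hg) (by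
        rw [show y⁻¹ * g * t * (y⁻¹ * g)⁻¹ = y⁻¹ * (g * t * g⁻¹) * y by group, ← e]; simpa [mul_assoc])))))
    have a1 := key x hx xN
    have a2 := key _ (inv_mem hx) (inv_mem xN)
    have a3 : x * t * x⁻¹ = x⁻¹ * t * x⁻¹⁻¹ := by
      rcases k5 g hg hgS with b | b <;> rcases k5 x xN xS with c | c <;>
        rcases k5 _ (inv_mem xN) (fun k => xS (by simpa using inv_mem k)) with d | d <;> simp_all
    obtain ⟨n, hn⟩ := pEl_of_mem hS.isP (k2 t tT t1 (x * x) (mul_mem xN xN) (by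
      rw [show x * x * t * (x * x)⁻¹ = x * (x * t * x⁻¹) * x⁻¹ by group, a3]; simpa [mul_assoc]))
    exact xS (mem_of_pEl_normalizer hS trivial ⟨n + 1, by rw [pow_succ', pow_mul, pow_two, hn]⟩ xN)
  obtain ⟨P, hP'⟩ := (hS.mono (hH.trans le_sup_left) le_top : H18.SylIn 2 S (H ⊔ cjs H g)).exists_sylow
  have hPS : ∀ x, x ∈ (P : Subgroup ↥(H ⊔ cjs H g)) ↔ (x : G) ∈ S := fun x => by rw [hP', Subgroup.mem_subgroupOf]
  have hB : Subgroup.normalizer (P : Set ↥(H ⊔ cjs H g)) ≤ Subgroup.centralizer (P : Set ↥(H ⊔ cjs H g)) := fun x hx y hy => by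
    have hx' := k6 x x.2 (H18.mem_normalizer_of_conj_mem fun y hy =>
      (hPS _).1 (conj_mem_of_mem_normalizer hx ((hPS ⟨y, le_sup_left.trans' hH hy⟩).2 hy)))
    have hy' := (hPS y).1 hy
    refine Subtype.ext (?_ : (y : G) * x = x * y)
    rw [← inv_eq_of_mul_eq_one_left (k3 _ (S.mul_mem hy' hx')), mul_inv_rev, inv_eq_of_mul_eq_one_left (k3 _ hx'),
      inv_eq_of_mul_eq_one_left (k3 _ hy')]
  have hO := MonoidHom.ker_transferSylow_isComplement' P hB
  have hO2 := MonoidHom.not_dvd_card_ker_transferSylow P hB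
  generalize hN : (MonoidHom.transferSylow P hB).ker = N at hO hO2
  haveI : N.Normal := hN ▸ inferInstance
  obtain ⟨O, hOm⟩ : ∃ O : Subgroup G, O = N.map (H ⊔ cjs H g).subtype := ⟨_, rfl⟩
  have c0 : Nat.card O = Nat.card N := hOm ▸ Subgroup.card_map_of_injective Subtype.val_injective
  have c1 : ∀ x ∈ O, ∀ y ∈ S, y * x * y⁻¹ ∈ O := by
    subst hOm
    rintro _ ⟨x, hx, rfl⟩ y hy
    exact ⟨_, ‹N.Normal›.conj_mem x hx ⟨y, le_sup_left.trans' hH hy⟩, rfl⟩
  have c2 : ∀ x : X, Odd (Nat.card (orbit O x)) := fun x => Odd.of_dvd_nat (by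
    rwa [c0, ← Nat.not_even_iff_odd, even_iff_two_dvd]) (Dvd.intro _ (H10.card_orbit_mul_card_stabilizer x))
  haveI : IsCyclic O := by
    rcases (h O).classify with ⟨x, k⟩ | ⟨z, k⟩ | ⟨-, -, k⟩ | ⟨-, -, k⟩ | ⟨x, -, k, -⟩
    · refine isCyclic_of_fix (h O) (fun e => ?_) k
      obtain ⟨u, hu⟩ := exists_prime_orderOf_dvd_card' p e
      refine hfix x fun y => (h0.fix_unique (t := u) (fun e => hp.out.ne_one (by rw [← hu, orderOf_eq_one_iff]; exact Subtype.ext e))
        (by simpa [hu] using congrArg Subtype.val (pow_orderOf_eq_one u)) (k u) ?_).symm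
      have := k ⟨_, c1 _ u.2 _ (S.inv_mem y.2)⟩
      simp only [Subgroup.smul_def, mul_smul, inv_inv, inv_smul_eq_iff] at this
      exact this
    · exact absurd (k ▸ c2 z) (by decide)
    · omega
    · omega
    · obtain ⟨n, hn⟩ := IsPGroup.iff_card.1 ((h O).isPGroup_U x)
      have := c2 x
      rw [k, hn] at this
      exact absurd ((hp.out.odd_of_ne_two h2).pow.add_one) (Nat.not_even_iff_odd.2 this)
  refine ⟨1, one_mem _, (cjs_eq_of_conj_mem fun x hx => ?_).trans (cjs_eq_of_mem H.one_mem).symm⟩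
  obtain ⟨⟨a, b⟩, e⟩ := hO.2 ⟨x, Subgroup.mem_sup_left hx⟩
  have e' : (a : G) * b = x := congrArg Subtype.val e
  have hb := (hPS _).1 b.2
  have ha : ((a : ↥(H ⊔ cjs H g)) : G) ∈ H := (H.mul_mem_cancel_right (hH hb)).1 (e' ▸ hx)
  have hy : g * a * g⁻¹ ∈ H ⊔ cjs H g := Subgroup.mem_sup_right ⟨_, ha, rfl⟩
  have o1 : orderOf (⟨_, hy⟩ : ↥(H ⊔ cjs H g)) = orderOf a := by
    rw [← Subgroup.orderOf_coe, ← Subgroup.orderOf_coe a, ← Subgroup.orderOf_coe (a : ↥(H ⊔ cjs H g))]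
    exact MulEquiv.orderOf_eq (MulAut.conj g) _
  have hyN : (⟨_, hy⟩ : ↥(H ⊔ cjs H g)) ∈ N := by
    obtain ⟨n, hn⟩ := IsPGroup.iff_card.1 P.2
    refine (QuotientGroup.eq_one_iff _).1 (eq_one_of_odd ⟨n, by rw [← hn, ← hO.symm.index_eq_card, Subgroup.index, pow_card_eq_one']⟩
      (Odd.of_dvd_nat ?_ (((orderOf_map_dvd (QuotientGroup.mk' N) _).trans o1.dvd).trans (orderOf_dvd_natCard a))))
    rwa [← Nat.not_even_iff_odd, even_iff_two_dvd]
  have e2 := H10.eq_of_card_eq_of_isCyclic (C := O) (Subgroup.zpowers_le.2 (hOm.ge ⟨_, hyN, rfl⟩ : g * a * g⁻¹ ∈ O))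
    (Subgroup.zpowers_le.2 (hOm.ge ⟨_, a.2, rfl⟩ : ((a : ↥(H ⊔ cjs H g)) : G) ∈ O)) (by
      rw [Nat.card_zpowers, Nat.card_zpowers]; exact MulEquiv.orderOf_eq (MulAut.conj g) _)
  rw [← e', show g * (a * b) * g⁻¹ = g * a * g⁻¹ * (g * b * g⁻¹) by group]
  exact H.mul_mem (Subgroup.zpowers_le.2 ha (e2 ▸ Subgroup.mem_zpowers _)) (hH (conj_mem_of_mem_normalizer hg hb))

theorem allPron_psl2 {F : Type*} [Field F] [Finite F] (h2 : (2 : F) ≠ 0) : AllPron PSL(2, F) := by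
  obtain ⟨p, _⟩ := CharP.exists F
  haveI := Fact.mk (CharP.char_is_prime F p)
  refine allPron_line (p := p) (fun e => h2 (by subst e; exact CharP.cast_eq_zero F 2)) (H10.lineAct_psl F p) (fun K =>
    letI : MulAction K (H10.PL (AlgebraicClosure F)) := (inferInstance : MulAction K (H10.PLbar F))
    H10.lineAct_of_injective (K := AlgebraicClosure F)
      (((Matrix.ProjGenLinGroup.map (algebraMap F (AlgebraicClosure F))).comp (H10.pslPi F)).comp K.subtype)
      (((H10.pglMap_injective _).comp H10.pslPi_injective).comp K.subtype_injective) fun _ _ => rfl) fun S hS hc => ?_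
  obtain ⟨P⟩ : Nonempty (Sylow 2 SL(2, F)) := inferInstance
  have k := (H18.sylIn_top P).map (QuotientGroup.mk' (Subgroup.center SL(2, F)))
  rw [← MonoidHom.range_eq_map, MonoidHom.range_eq_top.2 (QuotientGroup.mk'_surjective _)] at k
  obtain ⟨g, -, hg⟩ := hS.exists_conj_mem le_top k.isP
  refine H10.not_isCyclic_sylow_two h2 P (H10.isCyclic_of_map_slPi ?_)
  refine isCyclic_of_injective ((((MulAut.conj g).toMonoidHom.comp (H10.pslEquiv F).symm.toMonoidHom).comp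
    (Subgroup.inclusion (by rintro _ ⟨x, -, rfl⟩; exact ⟨_, rfl⟩))).codRestrict S ?_) ?_
  · rintro ⟨_, x, hx, rfl⟩
    exact hg _ ⟨x, hx, (H10.pslEquiv F).eq_symm_apply.2 rfl⟩
  · exact (MonoidHom.injective_codRestrict ..).2 (((MulAut.conj g).injective.comp (H10.pslEquiv F).symm.injective).comp
      (Subgroup.inclusion_injective _))

theorem allPron_alt {n : ℕ} (hn : 5 ≤ n) : AllPron (alternatingGroup (Fin n)) := by
  rcases hn.eq_or_lt with rfl | h
  · haveI := Fact.mk Nat.prime_five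
    obtain ⟨e⟩ := H10.PSL2_five_equiv (F := ZMod 5) (by simp)
    exact (allPron_psl2 (H10.two_ne_zero_of_odd (by simp; decide))).of_surjective e.toMonoidHom e.surjective
  · exact (sn_alt (by simpa)).allPron

end line

end Cfsg.Agent.H17
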