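import Mathlib
import Cfsg.Agent.H12.Ae0

/-!
Finite computations in `A₈` for the Sylow `2`-subgroup step, through numerical codes.
-/

set_option autoImplicit false
set_option linter.unusedVariables false

namespace Cfsg.Agent.H12.Ae

open Subgroup Equiv

/-- code of an element of `A₈` -/
def pD1_c (x : alternatingGroup (Fin 8)) : ℕ :=
  (x.1 0).val + 8 * ((x.1 1).val + 8 * ((x.1 2).val + 8 * ((x.1 3).val + 8 * ((x.1 4).val +
    8 * ((x.1 5).val + 8 * ((x.1 6).val + 8 * (x.1 7).val))))))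

def pD1_ap (a i : ℕ) : ℕ := a / 8 ^ i % 8

def pD1_m (a b : ℕ) : ℕ :=
  pD1_ap a (pD1_ap b 0) + 8 * (pD1_ap a (pD1_ap b 1) + 8 * (pD1_ap a (pD1_ap b 2) +
    8 * (pD1_ap a (pD1_ap b 3) + 8 * (pD1_ap a (pD1_ap b 4) + 8 * (pD1_ap a (pD1_ap b 5) +
    8 * (pD1_ap a (pD1_ap b 6) + 8 * pD1_ap a (pD1_ap b 7)))))))

theorem pD1_ap_c (x : alternatingGroup (Fin 8)) (i : Fin 8) :
    pD1_ap (pD1_c x) i.val = (x.1 i).val := by
  have h0 := (x.1 0).isLt
  have h1 := (x.1 1).isLt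
  have h2 := (x.1 2).isLt
  have h3 := (x.1 3).isLt
  have h4 := (x.1 4).isLt
  have h5 := (x.1 5).isLt
  have h6 := (x.1 6).isLt
  have h7 := (x.1 7).isLt
  have k : pD1_ap (pD1_c x) 0 = (x.1 0).val ∧ pD1_ap (pD1_c x) 1 = (x.1 1).val ∧
      pD1_ap (pD1_c x) 2 = (x.1 2).val ∧ pD1_ap (pD1_c x) 3 = (x.1 3).val ∧
      pD1_ap (pD1_c x) 4 = (x.1 4).val ∧ pD1_ap (pD1_c x) 5 = (x.1 5).val ∧
      pD1_ap (pD1_c x) 6 = (x.1 6).val ∧ pD1_ap (pD1_c x) 7 = (x.1 7).val := by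
    unfold pD1_ap pD1_c
    refine ⟨?_, ?_, ?_, ?_, ?_, ?_, ?_, ?_⟩ <;> norm_num <;> omega
  obtain ⟨k0, k1, k2, k3, k4, k5, k6, k7⟩ := k
  fin_cases i
  exacts [k0, k1, k2, k3, k4, k5, k6, k7]

theorem pD1_c_inj {x y : alternatingGroup (Fin 8)} (h : pD1_c x = pD1_c y) : x = y := by
  refine Subtype.ext (Equiv.ext fun i => Fin.ext ?_)
  rw [← pD1_ap_c, ← pD1_ap_c, h]

theorem pD1_c_mul (x y : alternatingGroup (Fin 8)) :
    pD1_c (x * y) = pD1_m (pD1_c x) (pD1_c y) := by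
  have k : ∀ i : Fin 8, pD1_ap (pD1_c x) (pD1_ap (pD1_c y) i.val) = ((x * y).1 i).val := fun i => by
    rw [pD1_ap_c, pD1_ap_c]; rfl
  have k0 : pD1_ap (pD1_c x) (pD1_ap (pD1_c y) 0) = ((x * y).1 0).val := k 0
  have k1 : pD1_ap (pD1_c x) (pD1_ap (pD1_c y) 1) = ((x * y).1 1).val := k 1
  have k2 : pD1_ap (pD1_c x) (pD1_ap (pD1_c y) 2) = ((x * y).1 2).val := k 2
  have k3 : pD1_ap (pD1_c x) (pD1_ap (pD1_c y) 3) = ((x * y).1 3).val := k 3
  have k4 : pD1_ap (pD1_c x) (pD1_ap (pD1_c y) 4) = ((x * y).1 4).val := k 4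
  have k5 : pD1_ap (pD1_c x) (pD1_ap (pD1_c y) 5) = ((x * y).1 5).val := k 5
  have k6 : pD1_ap (pD1_c x) (pD1_ap (pD1_c y) 6) = ((x * y).1 6).val := k 6
  have k7 : pD1_ap (pD1_c x) (pD1_ap (pD1_c y) 7) = ((x * y).1 7).val := k 7
  rw [pD1_m, k0, k1, k2, k3, k4, k5, k6, k7, pD1_c]

/-- the 64 normal forms -/
def pD1_L : List (alternatingGroup (Fin 8)) :=
  [1, u1].flatMap fun a => [1, u2].flatMap fun b => [1, w1].flatMap fun c =>
    [1, w2].flatMap fun d => [1, r0].flatMap fun e => [1, s0].map fun g =>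
      a * (b * (c * (d * (e * g))))

def pD1_Ks : List (alternatingGroup (Fin 8)) :=
  [1, a8 (swap 3 4 * swap 6 7), a8 (swap 2 3 * swap 4 7), a8 (swap 3 5 * swap 4 6),
    a8 (swap 1 3 * swap 1 2 * swap 4 6 * swap 4 7), a8 (swap 2 4 * swap 2 6 * swap 2 7 * swap 2 3),
    a8 (swap 3 5 * swap 3 4 * swap 3 7 * swap 3 6), a8 (swap 2 3 * swap 4 5 * swap 4 6 * swap 4 7),
    a8 (swap 1 3 * swap 5 7), a8 (swap 3 4 * swap 5 6), a8 (swap 5 7 * swap 5 6),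
    a8 (swap 2 4 * swap 2 5 * swap 2 7 * swap 2 3), a8 (swap 2 3 * swap 4 6 * swap 4 5 * swap 4 7),
    a8 (swap 3 7 * swap 3 6 * swap 3 4 * swap 3 5), a8 (swap 1 3 * swap 1 2 * swap 4 7 * swap 5 6),
    a8 (swap 2 4 * swap 3 7), a8 (swap 3 6 * swap 4 5)]

def pD1_Kz : List (alternatingGroup (Fin 8)) :=
  [a8 (swap 0 5 * swap 1 6), a8 (swap 0 3 * swap 1 4 * swap 2 5 * swap 6 7),
    a8 (swap 2 3 * swap 2 5), 1, a8 (swap 0 3 * swap 1 4), a8 (swap 2 3 * swap 6 7)]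

def pD1_Kn : List (alternatingGroup (Fin 8)) :=
  [1, a8 (swap 2 7 * swap 5 6), a8 (swap 2 7 * swap 4 5), a8 (swap 4 6 * swap 4 5),
    a8 (swap 4 5 * swap 4 6), a8 (swap 2 7 * swap 4 6),
    a8 (swap 0 3 * swap 1 4 * swap 2 5 * swap 6 7), a8 (swap 0 3 * swap 1 4 * swap 2 6 * swap 5 7),
    a8 (swap 0 3 * swap 1 5 * swap 2 4 * swap 6 7), a8 (swap 0 3 * swap 1 6 * swap 2 4 * swap 5 7),
    a8 (swap 0 3 * swap 1 5 * swap 2 6 * swap 4 7), a8 (swap 0 3 * swap 1 6 * swap 2 5 * swap 4 7)]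

def pD1_LN : List ℕ :=
  [16434824, 14487907, 16431233, 14484316, 3851834, 12875107, 3848215, 12857180, 5949377,
    13337443, 5945800, 13341020, 1754711, 12627811, 1751162, 12645724, 15854216, 10293493,
    15850625, 10289902, 3271226, 8680693, 3267607, 8662766, 5368769, 9143029, 5365192,
    9146606, 1174103, 8433397, 1170554, 8451310, 16201864, 12390812, 16205441, 12387235,
    3618874, 10778012, 3622423, 10760099, 5716417, 11240348, 5720008, 11243939, 1521751,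
    10530716, 1525370, 10548643, 15621256, 8196398, 15624833, 8192821, 3038266, 6583598,
    3041815, 6565685, 5135809, 7045934, 5139400, 7049525, 941143, 6336302, 944762, 6354229]

def pD1_TN : List ℕ :=
  [16434824, 16431233, 3851834, 5949377, 5945800, 1754711, 15854216, 16201864, 16205441,
    5720008, 15621256]

def pD1_KsN : List ℕ :=
  [16434824, 14596232, 10155208, 15854216, 13824720, 13807304, 10345608, 14054600, 12305048,
    16201864, 12535432, 12201672, 11760840, 8284808, 9925328, 8040200, 15621256]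

def pD1_KzN : List ℕ :=
  [14960309, 14487907, 16368968, 16434824, 16421027, 14599368]

def pD1_KnN : List ℕ :=
  [16434824, 5720008, 5920712, 15947400, 16148104, 5433288, 14487907, 11243939, 14459179,
    10985779, 8974763, 8745331]

theorem pD1_gen : pD1_c 1 = 16434824 ∧ pD1_c u1 = 16201864 ∧ pD1_c u2 = 15854216 ∧
    pD1_c w1 = 5949377 ∧ pD1_c w2 = 3851834 ∧ pD1_c r0 = 16431233 ∧ pD1_c s0 = 14487907 ∧
    pD1_c z0 = 16434705 := by decide +kernel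

theorem pD1_eKs : pD1_Ks.map pD1_c = pD1_KsN := by decide +kernel
theorem pD1_eKz : pD1_Kz.map pD1_c = pD1_KzN := by decide +kernel
theorem pD1_eKn : pD1_Kn.map pD1_c = pD1_KnN := by decide +kernel
theorem pD1_eL : pD1_L.map pD1_c = pD1_LN := by decide +kernel

theorem pD1_ndN : pD1_LN.Nodup := by decide +kernel

theorem pD1_clN : ∀ g ∈ [16201864, 15854216, 5949377, 3851834, 16431233, 14487907],
    pD1_m g g = 16434824 ∧ ∀ x ∈ pD1_LN, pD1_m g x ∈ pD1_LN := by decide +kernel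

theorem pD1_exN : ∀ x ∈ pD1_LN, pD1_m (pD1_m x x) (pD1_m x x) = 16434824 := by decide +kernel

theorem pD1_F1N : ∀ x ∈ pD1_LN, pD1_m x x = 16434824 →
    x ∈ pD1_TN ∨ ∃ k ∈ pD1_KsN, pD1_m x k = pD1_m k 14487907 := by decide +kernel

theorem pD1_eZ : (pD1_Kz.map fun k => k * z0 * k⁻¹).map pD1_c =
    [15419208, 16373896, 16271017, 16434705, 16427208, 16433305] := by decide +kernel

theorem pD1_F2N : ∀ x ∈ pD1_TN, ∃ k ∈ [15419208, 16373896, 16271017, 16434705, 16427208, 16433305],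
    pD1_m k x = pD1_m x k := by decide +kernel

theorem pD1_F3N : ∀ a ∈ pD1_TN, ∀ b ∈ pD1_TN, a ≠ 16434824 → b ≠ 16434824 → a ≠ b →
    pD1_m a b ∈ pD1_TN → ∀ c ∈ pD1_TN, pD1_m c a = pD1_m a c → pD1_m c b = pD1_m b c →
    pD1_m a c ∉ pD1_TN → pD1_m b c ∉ pD1_TN → pD1_m (pD1_m a b) c ∉ pD1_TN →
    ∃ k ∈ pD1_KnN, pD1_m k 16201864 = pD1_m a k ∧ pD1_m k 15854216 = pD1_m b k := by
  decide +kernel

theorem pD1_F5 : z0 ^ 3 = 1 ∧ z0 ≠ 1 ∧ z0 * z0' = z0' * z0 ∧ s0 * s0 = 1 ∧ s0 * z0 * s0⁻¹ = z0' ∧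
    (z0 : Perm (Fin 8)) 3 = 3 ∧ (z0' : Perm (Fin 8)) 3 ≠ 3 := by
  decide +kernel

end Cfsg.Agent.H12.Ae
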