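import Mathlib
import Cfsg.Agent.H12.Ae0
import Cfsg.Agent.H17.AepD1b
import Cfsg.Agent.H1.Coprime2

/-!
The Sylow `2`-subgroups of a group containing `A₈` with the data `SD` have order at most `64`.
-/

set_option autoImplicit false
set_option linter.unusedVariables false

namespace Cfsg.Agent.H12.Ae

open Subgroup Equiv

def pD1_P : Subgroup (alternatingGroup (Fin 8)) := closure {u1, u2, w1, w2, r0, s0}

theorem pD1_mem {x : alternatingGroup (Fin 8)} (hx : x ∈ pD1_P) : pD1_c x ∈ pD1_LN := by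
  obtain ⟨e1, e2, e3, e4, e5, e6, e7, e8⟩ := pD1_gen
  have k : ∀ g ∈ ({u1, u2, w1, w2, r0, s0} : Set (alternatingGroup (Fin 8))),
      g⁻¹ = g ∧ ∀ y, pD1_c y ∈ pD1_LN → pD1_c (g * y) ∈ pD1_LN := fun g hg => by
    have h1 : pD1_c g ∈ [16201864, 15854216, 5949377, 3851834, 16431233, 14487907] := by
      rcases hg with rfl | rfl | rfl | rfl | rfl | rfl <;> simp [*]
    obtain ⟨h2, h3⟩ := pD1_clN _ h1
    refine ⟨inv_eq_of_mul_eq_one_right (pD1_c_inj (by rw [pD1_c_mul, h2, e1])), fun y hy => ?_⟩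
    rw [pD1_c_mul]; exact h3 _ hy
  induction hx using closure_induction_left with
  | one => rw [e1]; decide
  | mul_left g hg y _ ih => exact (k g hg).2 y ih
  | inv_mul_cancel g hg y _ ih => rw [(k g hg).1]; exact (k g hg).2 y ih

theorem pD1_pg : IsPGroup 2 pD1_P := fun x => ⟨2, Subtype.ext (pD1_c_inj (by
  have := pD1_exN _ (pD1_mem x.2)
  rw [← pD1_c_mul, ← pD1_c_mul, ← pD1_gen.1] at this
  rw [show ((x ^ 2 ^ 2 : pD1_P) : alternatingGroup (Fin 8)) = x.1 * x.1 * (x.1 * x.1) by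
    simp [pow_succ, mul_assoc]]
  exact this))⟩

theorem pD1_card : 64 ≤ Nat.card pD1_P := by
  have h1 : pD1_L.Nodup := List.Nodup.of_map pD1_c (pD1_eL ▸ pD1_ndN)
  have h2 : pD1_L.length = 64 := by
    rw [← List.length_map (f := pD1_c), pD1_eL]; rfl
  have h3 : ∀ x ∈ pD1_L, x ∈ pD1_P := by
    intro x hx
    simp only [pD1_L, List.mem_flatMap, List.mem_map] at hx
    obtain ⟨a, ha, b, hb, c, hc, d, hd, e, he, g, hg, rfl⟩ := hx
    have k : ∀ t ∈ ({u1, u2, w1, w2, r0, s0} : Set (alternatingGroup (Fin 8))), ∀ a ∈ [1, t],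
        a ∈ pD1_P := fun t ht a ha => by
      rcases List.mem_pair.1 ha with rfl | rfl
      · exact one_mem _
      · exact subset_closure ht
    exact mul_mem (k _ (by simp) _ ha) (mul_mem (k _ (by simp) _ hb) (mul_mem (k _ (by simp) _ hc)
      (mul_mem (k _ (by simp) _ hd) (mul_mem (k _ (by simp) _ he) (k _ (by simp) _ hg)))))
  have h4 := Nat.card_le_card_of_injective
    (fun i : Fin pD1_L.length => (⟨pD1_L.get i, h3 _ (List.get_mem _ _)⟩ : pD1_P))
    fun i j e => List.nodup_iff_injective_get.1 h1 (congrArg Subtype.val e)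
  rwa [Nat.card_eq_fintype_card, Fintype.card_fin, h2] at h4

variable {G : Type*} [Group G]

/-- commuting with a conjugate of `z` -/
def pD1_A (z x : G) : Prop := ∃ h : G, Commute (h * z * h⁻¹) x

theorem pD1_A_conj {z x : G} (g : G) (h : pD1_A z x) : pD1_A z (g * x * g⁻¹) := by
  obtain ⟨k, hk⟩ := h
  refine ⟨g * k, ?_⟩
  have := hk.map (MulAut.conj g)
  simp only [MulAut.conj_apply] at this
  rwa [show g * k * z * (g * k)⁻¹ = g * (k * z * k⁻¹) * g⁻¹ by group]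

theorem pD1_A_T (f : alternatingGroup (Fin 8) →* G) {x : alternatingGroup (Fin 8)}
    (hx : pD1_c x ∈ pD1_TN) : pD1_A (f z0) (f x) := by
  obtain ⟨n, hn, e⟩ := pD1_F2N _ hx
  rw [← pD1_eZ] at hn
  obtain ⟨_, hk, rfl⟩ := List.mem_map.1 hn
  obtain ⟨k, -, rfl⟩ := List.mem_map.1 hk
  rw [← pD1_c_mul, ← pD1_c_mul] at e
  have := (show Commute _ _ from pD1_c_inj e).map f
  simp only [map_mul, map_inv] at this
  exact ⟨f k, this⟩

theorem pD1_nA [Finite G] {f : alternatingGroup (Fin 8) →* G} (h : SD f) :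
    ¬ pD1_A (f z0) (f s0) := by
  obtain ⟨a1, a2, a3, a4, a5, a6, a7⟩ := pD1_F5
  rintro ⟨g, hg⟩
  haveI : Fact (Nat.Prime 3) := ⟨Nat.prime_three⟩
  refine not_comm (z' := f z0') ?_ ((show Commute _ _ from a3).map f) ?_
    (by rw [← map_mul, a4, map_one]) (by rw [← a5]; simp) h.cy h.cz h.syl g hg
  · rw [orderOf_injective f h.inj]; exact orderOf_eq_prime a1 a2
  · rintro ⟨n, hn⟩
    have e : z0 ^ n = z0' := h.inj (by rw [map_zpow]; exact hn)
    apply a7
    rw [← e]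
    exact Equiv.Perm.zpow_apply_eq_self_of_apply_eq_self a6 n

theorem pD1_nA' [Finite G] {f : alternatingGroup (Fin 8) →* G} (h : SD f)
    {x : alternatingGroup (Fin 8)} (hx : ∃ k ∈ pD1_KsN, pD1_m (pD1_c x) k = pD1_m k 14487907) :
    ¬ pD1_A (f z0) (f x) := fun hA => by
  obtain ⟨n, hn, e⟩ := hx
  rw [← pD1_eKs] at hn
  obtain ⟨k, -, rfl⟩ := List.mem_map.1 hn
  rw [← pD1_gen.2.2.2.2.2.2.1, ← pD1_c_mul, ← pD1_c_mul] at e
  have e' : f s0 = (f k)⁻¹ * f x * (f k)⁻¹⁻¹ := by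
    rw [inv_inv, mul_assoc, ← map_mul, pD1_c_inj e, map_mul]; group
  exact pD1_nA h (e' ▸ pD1_A_conj _ hA)

theorem pD1_norm [Finite G] {f : alternatingGroup (Fin 8) →* G} (h : SD f) {g : G}
    (hg : g ∈ normalizer ((pD1_P.map f : Subgroup G) : Set G)) : g ∈ f.range := by
  obtain ⟨e1, e2, e3, e4, e5, e6, e7, e8⟩ := pD1_gen
  have k : ∀ t ∈ ({u1, u2, w1, w2, r0, s0} : Set (alternatingGroup (Fin 8))),
      ∃ a ∈ pD1_P, f a = g * f t * g⁻¹ := fun t ht =>
    (mem_normalizer_iff.1 hg _).1 ⟨t, subset_closure ht, rfl⟩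
  obtain ⟨a, ha, ea⟩ := k u1 (by simp)
  obtain ⟨b, hb, eb⟩ := k u2 (by simp)
  obtain ⟨c, hc, ec⟩ := k w1 (by simp)
  have m : ∀ {x y s t : alternatingGroup (Fin 8)}, f x = g * f s * g⁻¹ → f y = g * f t * g⁻¹ →
      f (x * y) = g * f (s * t) * g⁻¹ := fun h1 h2 => by
    rw [map_mul, map_mul, h1, h2]; group
  have q : ∀ {x y s t : alternatingGroup (Fin 8)}, f x = g * f s * g⁻¹ → f y = g * f t * g⁻¹ →
      (pD1_c x = pD1_c y ↔ pD1_c s = pD1_c t) := fun h1 h2 =>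
    ⟨fun e => by
      have e' := pD1_c_inj e
      subst e'
      rw [h.inj (mul_left_cancel (mul_right_cancel (h1.symm.trans h2)))], fun e => by
      have e' := pD1_c_inj e
      subst e'
      rw [h.inj (h1.trans h2.symm)]⟩
  have o : f 1 = g * f 1 * g⁻¹ := by simp
  have t1 : ∀ {x s : alternatingGroup (Fin 8)}, x ∈ pD1_P → f x = g * f s * g⁻¹ →
      pD1_m (pD1_c s) (pD1_c s) = 16434824 → pD1_c s ∈ pD1_TN → pD1_c x ∈ pD1_TN :=
    fun hx h1 h2 h3 => by
      refine (pD1_F1N _ (pD1_mem hx) ?_).resolve_right fun h4 => pD1_nA' h h4 ?_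
      · rw [← pD1_c_mul, ← e1, q (m h1 h1) o, pD1_c_mul, h2, e1]
      · rw [h1]; exact pD1_A_conj _ (pD1_A_T f h3)
  have t2 : ∀ {x s : alternatingGroup (Fin 8)}, f x = g * f s * g⁻¹ →
      (∃ k ∈ pD1_KsN, pD1_m (pD1_c s) k = pD1_m k 14487907) → pD1_c x ∉ pD1_TN :=
    fun h1 h2 h3 => pD1_nA' h h2 (by
      have := pD1_A_conj g⁻¹ (pD1_A_T f h3)
      rw [h1] at this
      simpa [mul_assoc] using this)
  obtain ⟨n, hn, f1, f2⟩ := pD1_F3N (pD1_c a) (t1 ha ea (by rw [e2]; decide) (by rw [e2]; decide))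
    (pD1_c b) (t1 hb eb (by rw [e3]; decide) (by rw [e3]; decide))
    (by rw [← e1, Ne, q ea o, e1, e2]; decide) (by rw [← e1, Ne, q eb o, e1, e3]; decide)
    (by rw [Ne, q ea eb, e2, e3]; decide)
    (by
      rw [← pD1_c_mul]
      exact t1 (mul_mem ha hb) (m ea eb) (by rw [pD1_c_mul, e2, e3]; decide +kernel)
        (by rw [pD1_c_mul, e2, e3]; decide +kernel))
    (pD1_c c) (t1 hc ec (by rw [e4]; decide) (by rw [e4]; decide))
    (by rw [← pD1_c_mul, ← pD1_c_mul, q (m ec ea) (m ea ec), pD1_c_mul, pD1_c_mul, e2, e4]; decide)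
    (by rw [← pD1_c_mul, ← pD1_c_mul, q (m ec eb) (m eb ec), pD1_c_mul, pD1_c_mul, e3, e4]; decide)
    (by rw [← pD1_c_mul]; exact t2 (m ea ec) (by rw [pD1_c_mul, e2, e4]; decide +kernel))
    (by rw [← pD1_c_mul]; exact t2 (m eb ec) (by rw [pD1_c_mul, e3, e4]; decide +kernel))
    (by
      rw [← pD1_c_mul, ← pD1_c_mul]
      exact t2 (m (m ea eb) ec) (by rw [pD1_c_mul, pD1_c_mul, e2, e3, e4]; decide +kernel))
  rw [← pD1_eKn] at hn
  obtain ⟨k, -, rfl⟩ := List.mem_map.1 hn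
  rw [← e2, ← pD1_c_mul, ← pD1_c_mul] at f1
  rw [← e3, ← pD1_c_mul, ← pD1_c_mul] at f2
  have w : ∀ {x s : alternatingGroup (Fin 8)}, f x = g * f s * g⁻¹ → k * s = x * k →
      Commute ((f k)⁻¹ * g) (f s) := fun {x s} h1 h2 => by
    have h3 : f k * f s = g * f s * g⁻¹ * f k := by rw [← h1, ← map_mul, h2, map_mul]
    show _ = _
    calc (f k)⁻¹ * g * f s = (f k)⁻¹ * (g * f s * g⁻¹ * f k) * ((f k)⁻¹ * g) := by group
      _ = _ := by rw [← h3]; group
  obtain ⟨y, -, hy⟩ := h.cU _ (w ea (pD1_c_inj f1)) (w eb (pD1_c_inj f2))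
  exact ⟨k * y, by rw [map_mul, hy]; group⟩

theorem pD1 {G : Type*} [Group G] [Finite G] {f : alternatingGroup (Fin 8) →* G} (h : SD f) :
    ¬ 128 ∣ Nat.card G := by
  intro hd
  haveI : Fact (Nat.Prime 2) := ⟨Nat.prime_two⟩
  obtain ⟨S, hS⟩ := (pD1_pg.map f).exists_le_sylow
  have c8 : Nat.card f.range = 20160 := by
    rw [← Nat.card_congr (MonoidHom.ofInjective h.inj).toEquiv]
    rw [nat_card_alternatingGroup, Nat.card_eq_fintype_card, Fintype.card_fin]
    rfl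
  have cS : 128 ∣ Nat.card S := by
    have := S.pow_dvd_card_of_pow_dvd_card (n := 7) hd
    exact this
  have cP : 64 ≤ Nat.card (pD1_P.map f) := by
    rw [card_map_of_injective h.inj]; exact pD1_card
  rcases hS.eq_or_lt with e | e
  · have := card_dvd_of_le (map_le_range f pD1_P)
    rw [e, c8] at this
    exact absurd (cS.trans this) (by norm_num)
  · have h1 := H1.lt_inf_normalizer_of_isNilpotent S.isPGroup'.isNilpotent e
    have h2 := card_dvd_of_le (show (S : Subgroup G) ⊓ normalizer ((pD1_P.map f : Subgroup G) : Set G) ≤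
      f.range from fun g hg => pD1_norm h hg.2)
    obtain ⟨n, hn⟩ := IsPGroup.iff_card.1 (S.isPGroup'.to_le (inf_le_left :
      (S : Subgroup G) ⊓ normalizer ((pD1_P.map f : Subgroup G) : Set G) ≤ S))
    have h3 : Nat.card (pD1_P.map f) < 2 ^ n := by
      rw [← hn]
      refine lt_of_le_of_ne (card_le_of_le h1.le) fun e' => h1.ne ?_
      exact eq_of_le_of_card_ge h1.le e'.ge
    rw [hn, c8] at h2
    have h4 : 7 ≤ n := by
      by_contra h5
      have : 2 ^ n ≤ 2 ^ 6 := Nat.pow_le_pow_right (by norm_num) (by omega)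
      omega
    exact absurd ((pow_dvd_pow 2 h4).trans h2) (by norm_num)

end Cfsg.Agent.H12.Ae
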