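import Mathlib
import Cfsg.Agent.H17.Pron
import Cfsg.Agent.H16.Supp
import Cfsg.Agent.H20.Simple
import Cfsg.Agent.H3.Basic

/-! Maximal overgroups of Sylow `2`-subgroups of alternating and symmetric groups. -/

set_option autoImplicit false
set_option linter.unusedSectionVars false

open Cfsg Equiv Sum MulAction
open Cfsg.FusionSystem hiding inv_mem

namespace Cfsg.Agent.H17

section gen
variable {G G' : Type*} [Group G] [Group G'] {S S' H : Subgroup G}

/-- `S` lies in a unique maximal subgroup of `H`. -/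
def UMx (H S : Subgroup G) : Prop := ∃ M, S ≤ M ∧ M < H ∧ ∀ K, S ≤ K → K < H → K ≤ M

theorem umx_top [Finite G] : (∃! M, IsCoatom M ∧ S ≤ M) ↔ UMx ⊤ S := by
  refine ⟨fun ⟨M, h1, h2⟩ => ⟨M, h1.2, h1.1.1.lt_top, fun K k1 k2 => ?_⟩, fun ⟨M, h1, h2, h3⟩ =>
    ⟨M, ⟨⟨h2.ne, fun K k => by_contra fun e => k.not_ge (h3 K (h1.trans k.le) (lt_top_iff_ne_top.2 e))⟩, h1⟩,
      fun K k => (k.1.le_iff.1 (h3 K k.2 k.1.1.lt_top)).resolve_left h2.ne |>.symm⟩⟩
  obtain ⟨L, l1, l2⟩ := (eq_top_or_exists_le_coatom K).resolve_left k2.ne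
  exact h2 L ⟨l1, k1.trans l2⟩ ▸ l2

theorem umx_map (f : G →* G') (hf : Function.Injective f) : UMx (H.map f) (S.map f) ↔ UMx H S := by
  have k : ∀ K, K < H.map f → (K.comap f).map f = K := fun K h =>
    Subgroup.map_comap_eq_self (h.le.trans (Subgroup.map_le_range f H))
  refine ⟨fun ⟨M, h1, h2, h3⟩ => ⟨M.comap f, Subgroup.map_le_iff_le_comap.1 h1, (Subgroup.map_lt_map_iff_of_injective hf).1
    ((k M h2).symm ▸ h2), fun K k1 k2 => Subgroup.map_le_iff_le_comap.1 (h3 _ (Subgroup.map_mono k1)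
      ((Subgroup.map_lt_map_iff_of_injective hf).2 k2))⟩, fun ⟨M, h1, h2, h3⟩ => ⟨M.map f, Subgroup.map_mono h1,
      (Subgroup.map_lt_map_iff_of_injective hf).2 h2, fun K k1 k2 => k K k2 ▸ Subgroup.map_mono (h3 _
        (Subgroup.map_le_iff_le_comap.1 k1) ((Subgroup.map_lt_map_iff_of_injective hf).1 ((k K k2).symm ▸ k2)))⟩⟩

theorem umx_equiv [Finite G] {p : ℕ} [Fact p.Prime] (hS : H18.SylIn p S H) (e : G' ≃* H) (R : Sylow p G') :
    (∃! M, IsCoatom M ∧ (R : Subgroup G') ≤ M) ↔ UMx H S := by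
  haveI : Finite G' := Finite.of_equiv _ e.toEquiv.symm
  have k := (H18.sylIn_top R).map (H.subtype.comp e.toMonoidHom)
  have k1 : (⊤ : Subgroup G').map (H.subtype.comp e.toMonoidHom) = H := by
    rw [← Subgroup.map_map, ← MonoidHom.range_eq_map, MonoidHom.range_eq_top.2 e.surjective, ← MonoidHom.range_eq_map,
      Subgroup.range_subtype]
  rw [umx_top, ← umx_map (H.subtype.comp e.toMonoidHom) (H.subtype_injective.comp e.injective), k1]
  rw [k1] at k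
  obtain ⟨g, hg, h⟩ := hS.exists_conj_iff k
  rw [← umx_map (S := S) (MulAut.conj g).toMonoidHom (MulAut.conj g).injective, show H.map _ = H from cjs_eq_of_mem hg]
  refine iff_of_eq (congrArg _ (Subgroup.ext fun x => ?_))
  rw [H10.mem_map_conj, h]
  simp [mul_assoc]

end gen

section perm
variable {α : Type} [Fintype α] [DecidableEq α] {B : Set α} {a b c d x : α} {S M : Subgroup (Perm α)}

/-- The stabiliser of the partition `{B, Bᶜ}`. -/
def PSt (B : Set α) : Subgroup (Perm α) where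
  carrier := {g | (∀ x, g x ∈ B ↔ x ∈ B) ∨ ∀ x, g x ∈ B ↔ x ∉ B}
  mul_mem' := by rintro a b (ha | ha) (hb | hb) <;> simp [ha, hb]
  one_mem' := by simp
  inv_mem' := by
    rintro a (ha | ha)
    · exact Or.inl fun x => by simpa using (ha (a⁻¹ x)).symm
    · exact Or.inr fun x => by simpa [not_iff_comm] using (ha (a⁻¹ x)).not.symm

theorem pinv_apply (f : Perm α) (x : α) : f⁻¹ (f x) = x := f.symm_apply_apply x

theorem papply_inv (f : Perm α) (x : α) : f (f⁻¹ x) = x := f.apply_symm_apply x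

theorem swap_mem_PSt (h : a ∈ B ↔ b ∈ B) : swap a b ∈ PSt B := Or.inl fun x => by
  rw [swap_apply_def]
  split_ifs with h1 h2 <;> simp [*]

theorem le_PSt_orbit (x : α) : S ≤ PSt (orbit S x) := fun g hg => Or.inl fun y =>
  show (⟨g, hg⟩ : S) • y ∈ orbit S x ↔ y ∈ orbit S x by rw [mem_orbit_symm, orbit_smul, mem_orbit_symm]

theorem exists_PSt (hS : IsPGroup 2 S) (h : a ≠ b) : ∃ B : Set α, S ≤ PSt B ∧ ∃ x ∈ B, ∃ y, y ∉ B := by
  by_cases h1 : ∀ y, y ∈ orbit S a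
  swap
  · exact ⟨_, le_PSt_orbit a, a, mem_orbit_self a, not_forall.1 h1⟩
  obtain ⟨T, t1, t2⟩ := (eq_top_or_exists_le_coatom (stabilizer S a)).resolve_left fun e => by
    obtain ⟨s, hs⟩ := h1 b
    exact h ((e.ge trivial : s • a = a).symm.trans hs)
  have k : ∀ s : S, s • a ∈ orbit T a ↔ s ∈ T := fun s => ⟨fun ⟨t, ht⟩ => by
    simpa using T.mul_mem t.2 (t2 (show ((t : S)⁻¹ * s) • a = a by rw [mul_smul, ← ht]; exact inv_smul_smul _ _)),
    fun hs => ⟨⟨s, hs⟩, rfl⟩⟩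
  obtain ⟨u, -, hu⟩ := SetLike.exists_of_lt t1.1.lt_top
  refine ⟨orbit T a, fun g hg => ?_, a, mem_orbit_self a, _, fun e => hu ((k u).1 e)⟩
  refine (em ((⟨g, hg⟩ : S) ∈ T)).imp (fun e y => ?_) fun e y => ?_ <;> obtain ⟨s, rfl⟩ := h1 y <;>
    refine (k (⟨g, hg⟩ * s)).trans ?_ <;> rw [k, Subgroup.mul_mem_iff_of_index_two (H3.index_of_isCoatom hS t1)] <;> simp [e]

theorem three_mem : swap a b * swap c d ∈ alternatingGroup α ↔ (a = b ↔ c = d) := by
  by_cases h : a = b <;> by_cases h' : c = d <;> simp [Perm.mem_alternatingGroup, h, h']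

theorem exists_notMem (s : Finset α) (h : s.card < Fintype.card α) : ∃ x, x ∉ s :=
  (Finset.exists_mem_notMem_of_card_lt_card h).imp fun _ h => h.2

theorem exists_fourth (h : 4 ≤ Fintype.card α) (a b c : α) : ∃ d, d ≠ a ∧ d ≠ b ∧ d ≠ c := by
  simpa using exists_notMem {a, b, c} (Finset.card_le_three.trans_lt h)

theorem PSt_inf_lt {H : Subgroup (Perm α)} (hH : alternatingGroup α ≤ H) (h : 4 ≤ Fintype.card α) (ha : a ∈ B) (hb : b ∉ B) :
    PSt B ⊓ H < H := by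
  obtain ⟨c, c1, c2, -⟩ := exists_fourth h a b b
  obtain ⟨d, d1, d2, d3⟩ := exists_fourth h a b c
  have e : a ≠ b := fun e => hb (e ▸ ha)
  refine inf_le_right.lt_of_ne fun k => ?_
  rcases (k.ge (hH (three_mem.2 (by simp [e, c1.symm]) : swap a b * swap a c ∈ _))).1 with k | k
  · simpa [swap_apply_of_ne_of_ne e.symm c2.symm, ha, hb] using k b
  · simpa [swap_apply_of_ne_of_ne, d1, d2, d3] using k d

theorem two_trans_of (h1 : ∀ y z, y ≠ x → z ≠ x → ∃ m ∈ M, m x = x ∧ m y = z) (h2 : ∃ g ∈ M, g x ≠ x) : IsPreprimitive M α := by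
  obtain ⟨g, hg, h2⟩ := h2
  have k : ∀ a b, a ≠ b → ∃ m ∈ M, m a = x ∧ m b = g x := fun a b h => by
    obtain ⟨m, hm, k⟩ : ∃ m ∈ M, m a = x := by
      by_cases e : a = x
      · exact ⟨1, M.one_mem, e⟩
      · obtain ⟨m, hm, -, k⟩ := h1 a _ e h2
        exact ⟨_, M.mul_mem (M.inv_mem hg) hm, by simp [k]⟩
    obtain ⟨m', hm', k1, k2⟩ := h1 (m b) _ (fun e => h (m.injective (k.trans e.symm))) h2
    exact ⟨_, M.mul_mem hm' hm, by simp [k, k1], k2⟩
  refine isPreprimitive_of_is_two_pretransitive (is_two_pretransitive_iff.2 fun h h' => ?_)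
  obtain ⟨m, hm, k1, k2⟩ := k _ _ h
  obtain ⟨m', hm', k3, k4⟩ := k _ _ h'
  exact ⟨⟨m'⁻¹ * m, M.mul_mem (M.inv_mem hm') hm⟩, by simp [Subgroup.smul_def, k1, ← k3], by simp [Subgroup.smul_def, k2, ← k4]⟩

theorem alt_le_of_three (h : IsPreprimitive M α) (h1 : a ≠ b) (h2 : a ≠ c) (h3 : b ≠ c) (hm : swap a b * swap a c ∈ M) :
    alternatingGroup α ≤ M :=
  Perm.alternatingGroup_le_of_isPreprimitive_of_isThreeCycle_mem h (Perm.isThreeCycle_swap_mul_swap_same h1 h2 h3) hm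

theorem alt_le_of_inter (h : IsPreprimitive M α) {f g : Perm α} (hf : f ∈ M) (hg : g ∈ M) (h1 : f x ≠ x) (h2 : g x ≠ x)
    (h3 : ∀ y, f y ≠ y → g y ≠ y → y = x) : alternatingGroup α ≤ M := by
  refine H16.alt_le_of_support_le_three h (M.mul_mem (M.mul_mem (M.mul_mem hf hg) (M.inv_mem hf)) (M.inv_mem hg))
    (fun e => h2 ?_) ((Finset.card_le_card fun y hy => ?_).trans (Finset.card_le_three (a := x) (b := f x) (c := g x)))
  · have k : g (f⁻¹ x) = f⁻¹ x := by_contra fun k => h1 (by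
      have := h3 _ (fun e => h1 (by simpa using (congrArg f e).trans (by simpa using rfl))) k
      simpa using (congrArg f this).symm)
    have := Equiv.congr_fun e (g x)
    simp only [Perm.mul_apply, pinv_apply, k, papply_inv, Perm.one_apply] at this
    exact this.symm
  · by_contra k
    simp only [Finset.mem_insert, Finset.mem_singleton, not_or] at k
    refine Perm.mem_support.1 hy ?_
    by_cases e : g y = y
    · have : g (f⁻¹ y) = f⁻¹ y := by_contra fun k1 => k.2.1 (by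
        have := h3 _ (fun e' => k1 (by
          have : f⁻¹ y = y := by simpa using e'.symm
          rw [this, e])) k1
        simp [← this])
      simp only [Perm.mul_apply, Perm.inv_eq_iff_eq.2 e.symm, this, papply_inv]
    · have k1 : f y = y := by_contra fun k1 => k.1 (h3 y k1 e)
      have k2 : f (g⁻¹ y) = g⁻¹ y := by_contra fun k2 => k.2.2 (by
        simp [← h3 _ k2 (fun e' => e (by
          have : g⁻¹ y = y := by simpa using e'.symm
          simpa using (congrArg g this).symm))])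
      simp only [Perm.mul_apply, Perm.inv_eq_iff_eq.2 k2.symm, k1, papply_inv]

end perm

section main
variable {I R : Type} [Fintype I] [Fintype R] [DecidableEq I] [DecidableEq R] [Subsingleton R]
  {T H K : Subgroup (Perm (I × ZMod 2 ⊕ R))}

theorem mul_tl_mem {g : Perm (I × ZMod 2 ⊕ R)} (i : I) (h : g ∉ alternatingGroup _) :
    tl R (Pi.single i 1) * g ∈ alternatingGroup _ := by
  haveI : Nontrivial (I × ZMod 2 ⊕ R) := ⟨inl (i, 0), inl (i, 1), by simp⟩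
  rw [Subgroup.mul_mem_iff_of_index_two alternatingGroup.index_eq_two]
  exact iff_of_false (tl_single_notMem i) h

theorem le_of_alt_le [Nonempty I] (hH : alternatingGroup _ ≤ H) (h1 : (trl R).range ≤ T) (h2 : T ⊓ H ≤ K)
    (h3 : alternatingGroup _ ≤ K) : H ≤ K := fun g hg => by
  obtain ⟨i⟩ := ‹Nonempty I›
  by_cases h : g ∈ alternatingGroup _
  · exact h3 h
  · exact (K.mul_mem_cancel_left (h2 ⟨h1 tl_mem, (H.mul_mem_cancel_right hg).1 (hH (mul_tl_mem i h))⟩)).1 (h3 (mul_tl_mem i h))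

theorem not_umx_even [IsEmpty R] (h3 : 3 ≤ Fintype.card I) (hH : alternatingGroup _ ≤ H) (hT : IsPGroup 2 T)
    (h1 : (trl R).range ≤ T) (h2 : T ≤ Wt I 2 R) : ¬ UMx H (T ⊓ H) := fun ⟨M, m1, m2, m3⟩ => by
  obtain ⟨i⟩ : Nonempty I := Fintype.card_pos_iff.1 (by omega)
  haveI : Nonempty I := ⟨i⟩
  have hc : 6 ≤ Fintype.card (I × ZMod 2 ⊕ R) := by simp; omega
  obtain ⟨B, b1, x, hx, y, hy⟩ := exists_PSt hT (show (inl (i, 0) : I × ZMod 2 ⊕ R) ≠ inl (i, 1) by simp)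
  have k1 := m3 _ (inf_le_inf_right H b1) (PSt_inf_lt hH (by omega) hx hy)
  obtain ⟨τ, hτ⟩ : ∃ τ, τ = tl (I := I) (p := 2) R 1 := ⟨_, rfl⟩
  have t1 : ∀ x, τ x ≠ x := by rintro (⟨j, y⟩ | r); exacts [by simp [hτ], isEmptyElim r]
  have t2 : ∀ x, τ (τ x) = x := by
    rintro (⟨j, y⟩ | r); exacts [by simp [hτ, add_assoc, show (1 + 1 : ZMod 2) = 0 from rfl], isEmptyElim r]
  have t3 : ∀ g ∈ Wt I 2 R, ∀ x, g (τ x) = τ (g x) := by
    rintro _ ⟨σ, b, rfl⟩ (⟨j, y⟩ | r); exacts [by simp [hτ, add_right_comm], isEmptyElim r]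
  have t4 : ∀ a b c, a ≠ b → a ≠ c → b ≠ c → ∃ x, (swap a b * swap a c) (τ x) ≠ τ ((swap a b * swap a c) x) := fun a b c e1 e2 e3 => by
    by_contra! k
    have k1 := k a
    have k2 := k b
    simp only [Perm.mul_apply, swap_apply_left, swap_apply_of_ne_of_ne e2.symm e3.symm, swap_apply_of_ne_of_ne e1.symm e3,
      swap_apply_right] at k1 k2
    by_cases e : τ a = b
    · rw [e, swap_apply_of_ne_of_ne e1.symm e3, swap_apply_right, ← t2 a, e] at k1
      exact e3 (τ.injective k1)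
    by_cases e' : τ a = c
    · rw [e', swap_apply_right, swap_apply_left, ← e', t2] at k1
      exact e1 k1.symm
    rw [swap_apply_of_ne_of_ne (t1 a) e', swap_apply_of_ne_of_ne (t1 a) e] at k1
    exact e2 (τ.injective k1)
  obtain ⟨a, b, c, e1, e2, e3, e4⟩ : ∃ a b c, a ≠ b ∧ a ≠ c ∧ b ≠ c ∧ swap a b * swap a c ∈ M := by
    classical
    obtain ⟨y, hy⟩ := Fintype.exists_lt_card_fiber_of_mul_lt_card (fun x => decide (x ∈ B)) (n := 2) (by simp at hc ⊢; omega)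
    obtain ⟨a, b, c, ha, hb, hc, e1, e2, e3⟩ := Finset.two_lt_card_iff.1 hy
    simp only [Finset.mem_filter, Finset.mem_univ, true_and] at ha hb hc
    exact ⟨a, b, c, e1, e2, e3, k1 ⟨mul_mem (swap_mem_PSt (decide_eq_decide.1 (ha.trans hb.symm)))
      (swap_mem_PSt (decide_eq_decide.1 (ha.trans hc.symm))), hH (three_mem.2 (by simp [e1, e2]))⟩⟩
  obtain ⟨z, hz⟩ := t4 a b c e1 e2 e3
  have k2 := m3 _ (inf_le_inf_right H h2) (inf_le_right.lt_of_ne fun e => hz (t3 _ (e.ge (m2.le e4)).1 z))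
  have k3 : ∀ (j k l : I) (t : ZMod 2), tl R (Pi.single k t - Pi.single l t) * dlt 2 R (swap j k) ∈ Wt I 2 R ⊓ H := fun j k l t =>
    ⟨mul_mem ⟨_, _, rfl⟩ ⟨_, _, rfl⟩, hH (mul_mem (tl_sub_mem k l t).2 (by simp [Perm.mem_alternatingGroup, sign_dlt]))⟩
  have k4 : ∀ y z, ∃ w ∈ Wt I 2 R ⊓ H, w y = z := by
    rintro (⟨j, u⟩ | r) (⟨k, v⟩ | r') <;> try first | exact isEmptyElim r | exact isEmptyElim r'
    obtain ⟨l, l1, -⟩ := exists_third' h3 k k
    exact ⟨_, k3 j k l (v - u), by simp [dlt_eq, l1.symm]⟩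
  have k5 : ∀ y z, y ≠ inl (i, 0) → y ≠ inl (i, 1) → z ≠ inl (i, 0) → z ≠ inl (i, 1) →
      ∃ m ∈ M, m (inl (i, 0)) = inl (i, 0) ∧ m y = z := by
    rintro (⟨j, u⟩ | r) (⟨k, v⟩ | r') y1 y2 z1 z2 <;> try first | exact isEmptyElim r | exact isEmptyElim r'
    have hj : j ≠ i := by rintro rfl; rcases zmod_two u with rfl | rfl <;> simp at y1 y2
    have hk : k ≠ i := by rintro rfl; rcases zmod_two v with rfl | rfl <;> simp at z1 z2
    obtain ⟨l, l1, l2⟩ := exists_third' h3 k i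
    exact ⟨_, k2 (k3 j k l (v - u)), by simp [dlt_eq, swap_apply_of_ne_of_ne hj.symm hk.symm, hk.symm, l2.symm],
      by simp [dlt_eq, l1.symm]⟩
  obtain ⟨w1, w1m, hw1⟩ := k4 (inl (i, 0)) z
  obtain ⟨w2, w2m, hw2⟩ := k4 ((swap a b * swap a c) z) (inl (i, 0))
  have t5 : τ (inl (i, 0)) = inl (i, 1) := by simp [hτ]
  have k6 : ∀ y, y ≠ inl (i, 0) → ∃ m ∈ M, m (inl (i, 0)) = inl (i, 0) ∧ m (inl (i, 1)) = y := fun y y1 => by
    by_cases y2 : y = inl (i, 1)
    · exact ⟨1, M.one_mem, rfl, y2.symm⟩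
    have f1 : (w2 * (swap a b * swap a c) * w1) (inl (i, 0)) = inl (i, 0) := by rw [Perm.mul_apply, hw1, Perm.mul_apply, hw2]
    obtain ⟨m, hm, f2, f3⟩ := k5 ((w2 * (swap a b * swap a c) * w1) (inl (i, 1))) y
      (fun e => by simpa using (Equiv.injective _ (e.trans f1.symm))) (fun e => hz (w2.injective (by
        rwa [t3 _ w2m.1, hw2, t5, ← hw1, ← t3 _ w1m.1, t5]))) y1 y2
    exact ⟨_, M.mul_mem hm (M.mul_mem (M.mul_mem (k2 w2m) e4) (k2 w1m)), by rw [Perm.mul_apply, f1, f2], f3⟩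
  refine m2.not_ge (le_of_alt_le hH h1 m1 (alt_le_of_three (two_trans_of (x := inl (i, 0)) (fun y z y1 z1 => ?_) ?_) e1 e2 e3 e4))
  · obtain ⟨m, hm, f1, f2⟩ := k6 y y1
    obtain ⟨m', hm', f3, f4⟩ := k6 z z1
    exact ⟨m' * m⁻¹, M.mul_mem hm' (M.inv_mem hm), by rw [Perm.mul_apply, Perm.inv_eq_iff_eq.2 f1.symm, f3],
      by rw [Perm.mul_apply, Perm.inv_eq_iff_eq.2 f2.symm, f4]⟩
  · obtain ⟨w, hw, e⟩ := k4 (inl (i, 0)) (inl (i, 1))
    exact ⟨w, k2 hw, by simp [e]⟩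

theorem stab_lt (r : R) (h2 : 2 ≤ Fintype.card I) (hH : alternatingGroup _ ≤ H) : stabilizer _ (inr r : I × ZMod 2 ⊕ R) ⊓ H < H := by
  obtain ⟨i⟩ : Nonempty I := Fintype.card_pos_iff.1 (by omega)
  refine inf_le_right.lt_of_ne fun e => ?_
  simpa using (e.ge (hH (three_mem.2 (by simp) : swap (inl (i, (0 : ZMod 2))) (inl (i, 1)) * swap (inl (i, 0)) (inr r) ∈ _))).1

theorem pow_of_umx (r : R) (h3 : 2 ≤ Fintype.card I) (hH : alternatingGroup _ ≤ H) (hT : IsPGroup 2 T)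
    (h1 : (trl R).range ≤ T) (h2 : T ≤ Wt I 2 R) (h : UMx H (T ⊓ H)) : ∃ k, 2 * Fintype.card I = 2 ^ k := by
  obtain ⟨M, m1, m2, m3⟩ := h
  obtain ⟨i⟩ : Nonempty I := Fintype.card_pos_iff.1 (by omega)
  haveI : Nonempty I := ⟨i⟩
  haveI : Unique R := uniqueOfSubsingleton r
  have hc : 5 ≤ Fintype.card (I × ZMod 2 ⊕ R) := by simp; omega
  have k0 : ∀ g ∈ T, g (inr r) = inr r := fun g hg => by obtain ⟨σ, b, rfl⟩ := h2 hg; rfl
  have k1 := m3 _ (inf_le_inf_right H fun g hg => k0 g hg) (stab_lt r h3 hH)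
  have k2 : inr r ∉ orbit T (inl (i, 0) : I × ZMod 2 ⊕ R) := fun ⟨g, hg⟩ => by
    simpa using g.1.injective (hg.trans (k0 g g.2).symm)
  obtain ⟨k, hk⟩ := hT.card_orbit (inl (i, 0) : I × ZMod 2 ⊕ R)
  refine ⟨k, hk ▸ ?_⟩
  suffices orbit T (inl (i, 0) : I × ZMod 2 ⊕ R) = {inr r}ᶜ by
    rw [this, Nat.card_eq_fintype_card, Fintype.card_compl_set]; simp [mul_comm]
  refine Set.ext fun z => ⟨fun hz e => k2 (e ▸ hz), fun hz => by_contra fun hz' => ?_⟩
  have k3 := m3 _ (inf_le_inf_right H (le_PSt_orbit _)) (PSt_inf_lt hH (by omega) (mem_orbit_self _) hz')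
  obtain ⟨c, c1, c2, -⟩ := exists_fourth (by omega) (inr r) z z
  obtain ⟨d, d1, d2, d3⟩ := exists_fourth (by omega) (inr r) z c
  obtain ⟨e, he⟩ := exists_notMem {inr r, z, c, d} (Finset.card_le_four.trans_lt hc)
  simp only [Finset.mem_insert, Finset.mem_singleton, not_or] at he
  have k4 : ∀ c d, c ≠ inr r → d ≠ inr r → c ≠ d → (c ∈ orbit T (inl (i, 0) : I × ZMod 2 ⊕ R) ↔ d ∈ orbit T (inl (i, 0) : I × ZMod 2 ⊕ R)) →
      ∃ g ∈ M, g (inr r) ≠ inr r := fun c d c1 d1 e k => ⟨swap (inr r) z * swap c d, k3 ⟨mul_mem (swap_mem_PSt (by simp [k2, hz']))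
        (swap_mem_PSt k), hH (three_mem.2 (by simpa [e] using Ne.symm hz))⟩, by
          simpa [swap_apply_of_ne_of_ne c1.symm d1.symm] using hz⟩
  refine m2.not_ge (le_of_alt_le hH h1 m1 (alt_le_of_three (two_trans_of (x := inr r) (fun y z y1 z1 => ?_) ?_) d3.symm (Ne.symm he.2.2.1)
    (Ne.symm he.2.2.2) (k1 ⟨by simp [swap_apply_of_ne_of_ne, c1.symm, d1.symm, Ne.symm he.1],
      hH (three_mem.2 (by simp [d3.symm, Ne.symm he.2.2.1]))⟩)))
  · by_cases e : y = z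
    · exact ⟨1, M.one_mem, rfl, e⟩
    obtain ⟨w, w1, w2, w3⟩ := exists_fourth (by omega) (inr r) y z
    have : (swap w z * swap w y) (inr r) = inr r := by simp [swap_apply_of_ne_of_ne, y1.symm, z1.symm, w1.symm]
    exact ⟨swap w z * swap w y, k1 ⟨this, hH (three_mem.2 (by simp [w2, w3]))⟩, this, by simp⟩
  · by_cases f1 : c ∈ orbit T (inl (i, 0) : I × ZMod 2 ⊕ R) ↔ d ∈ orbit T (inl (i, 0) : I × ZMod 2 ⊕ R)
    · exact k4 c d c1 d1 d3.symm f1
    by_cases f2 : c ∈ orbit T (inl (i, 0) : I × ZMod 2 ⊕ R) ↔ e ∈ orbit T (inl (i, 0) : I × ZMod 2 ⊕ R)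
    · exact k4 c e c1 he.1 (Ne.symm he.2.2.1) f2
    exact k4 d e d1 he.1 (Ne.symm he.2.2.2) (by tauto)

theorem umx_of_pow (r : R) {k : ℕ} (hk : 2 ≤ k) (h3 : 2 * Fintype.card I = 2 ^ k) (hH : alternatingGroup _ ≤ H)
    (hT : H18.SylIn 2 T ⊤) (h1 : (trl R).range ≤ T) (h2 : T ≤ Wt I 2 R) : UMx H (T ⊓ H) := by
  have h4 : 2 ≤ Fintype.card I := by have := Nat.pow_le_pow_right two_pos hk; omega
  obtain ⟨i, j, hij⟩ := Fintype.exists_pair_of_one_lt_card h4
  haveI : Nonempty I := ⟨i⟩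
  haveI : Unique R := uniqueOfSubsingleton r
  have k0 : ∀ g ∈ T, g (inr r) = inr r := fun g hg => by obtain ⟨σ, b, rfl⟩ := h2 hg; rfl
  have k0' : ∀ y : I × ZMod 2 ⊕ R, y ≠ inr r → ∃ u, y = inl u := by
    rintro (u | r') h
    exacts [⟨u, rfl⟩, absurd (congrArg _ (Subsingleton.elim _ _)) h]
  have k1 : ∀ y z, y ≠ inr r → z ≠ inr r → ∃ t ∈ T, t y = z := by
    obtain ⟨e⟩ : Nonempty (ZMod (2 ^ k) ≃ I × ZMod 2) := Fintype.card_eq.1 (by simp [← h3, mul_comm])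
    obtain ⟨φ, hφ, hφ'⟩ : ∃ φ : Multiplicative (ZMod (2 ^ k)) →* Perm (I × ZMod 2 ⊕ R),
        (∀ a u, φ (.ofAdd a) (inl (e u)) = inl (e (u + a))) ∧ ∀ a, φ a (inr r) = inr r :=
      ⟨MonoidHom.mk' (fun a => Perm.sumCongr (e.permCongr (Equiv.addRight a.toAdd)) 1) fun a b => by
        ext (u | r) <;> simp [add_assoc, add_comm, add_left_comm], by simp, by simp⟩
    obtain ⟨g, -, hg⟩ := hT.exists_conj_mem le_top ((IsPGroup.of_card (p := 2) (n := k) (by simp) :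
      IsPGroup 2 (Multiplicative (ZMod (2 ^ k)))).of_surjective _ φ.rangeRestrict_surjective)
    have e1 : g⁻¹ (inr r) = inr r := by_contra fun h => by
      obtain ⟨u, hu⟩ := k0' _ h
      obtain ⟨u, rfl⟩ := e.surjective u
      have := k0 _ (hg _ ⟨.ofAdd 1, rfl⟩)
      rw [Perm.mul_apply, Perm.mul_apply, ← Perm.eq_inv_iff_eq, hu, hφ] at this
      haveI hf : Fact (1 < 2 ^ k) := ⟨Nat.one_lt_two_pow (by omega)⟩
      exact one_ne_zero (add_eq_left.1 (e.injective (inl.inj this)))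
    intro y z y1 z1
    obtain ⟨u, hu⟩ := k0' (g⁻¹ y) fun h => y1 (g⁻¹.injective (h.trans e1.symm))
    obtain ⟨v, hv⟩ := k0' (g⁻¹ z) fun h => z1 (g⁻¹.injective (h.trans e1.symm))
    obtain ⟨u, rfl⟩ := e.surjective u
    obtain ⟨v, rfl⟩ := e.surjective v
    exact ⟨_, hg _ ⟨.ofAdd (v - u), rfl⟩, by rw [Perm.mul_apply, Perm.mul_apply, hu, hφ, add_sub_cancel, ← hv, papply_inv]⟩
  have k2 : ∀ y z, y ≠ inr r → z ≠ inr r → ∃ t ∈ T ⊓ alternatingGroup _, t y = z := fun y z y1 z1 => by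
    obtain ⟨t, ht, e⟩ := k1 y z y1 z1
    by_cases h : t ∈ alternatingGroup _
    · exact ⟨t, ⟨ht, h⟩, e⟩
    obtain ⟨⟨l, v⟩, rfl⟩ := k0' z z1
    obtain ⟨m, hm⟩ := Fintype.exists_ne_of_one_lt_card h4 l
    exact ⟨_, ⟨T.mul_mem (h1 tl_mem) ht, mul_tl_mem m h⟩, by simp [e, hm.symm]⟩
  refine ⟨_, inf_le_inf_right H fun g hg => k0 g hg, stab_lt r h4 hH, fun K l1 l2 g hg => ⟨by_contra fun g1 => ?_, l2.le hg⟩⟩
  have l3 : T ⊓ alternatingGroup _ ≤ K := (inf_le_inf_left T hH).trans l1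
  have hP : IsPreprimitive K (I × ZMod 2 ⊕ R) := two_trans_of (x := inr r) (fun y z y1 z1 =>
    (k2 y z y1 z1).imp fun t ht => ⟨l3 ht.1, k0 t ht.1.1, ht.2⟩) ⟨g, hg, g1⟩
  refine l2.not_ge (le_of_alt_le hH h1 l1 ?_)
  rcases h4.eq_or_lt with h5 | h5
  · by_contra l4
    have hc : Nat.card (I × ZMod 2 ⊕ R) = 5 := by simp [← h5]
    haveI := alternatingGroup.isSimpleGroup hc.ge
    haveI : Nontrivial (I × ZMod 2 ⊕ R) := ⟨inl (i, 0), inl (i, 1), by simp⟩
    have c1 := H20.simple_card_dvd_factorial (H := K.subgroupOf (alternatingGroup _)) (by simpa [Subgroup.subgroupOf_eq_top])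
    have c2 : Nat.card (alternatingGroup (I × ZMod 2 ⊕ R)) = 60 := by rw [nat_card_alternatingGroup, hc]; rfl
    have c3 := (K.subgroupOf (alternatingGroup _)).index_mul_card
    have c4 : ¬ 2 ∣ (K.subgroupOf (alternatingGroup _)).index := fun h =>
      (hT.inf_normal (N := alternatingGroup _)).not_dvd_relIndex (h.trans (Subgroup.relIndex_dvd_of_le_left _ l3))
    have c5 : 5 ∣ Nat.card (K.subgroupOf (alternatingGroup _)) := by
      have c6 : 5 ∣ Nat.card K := Dvd.intro _ (by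
        rw [← H10.card_orbit_mul_card_stabilizer (inr r : I × ZMod 2 ⊕ R), orbit_eq_univ, Nat.card_congr (Equiv.Set.univ _), hc])
      rw [← ((alternatingGroup _).subgroupOf K).index_mul_card] at c6
      rw [← Subgroup.inf_subgroupOf_right, Nat.card_congr (Subgroup.subgroupOfEquivOfLe inf_le_right).toEquiv,
        ← Nat.card_congr (Subgroup.subgroupOfEquivOfLe inf_le_left).toEquiv, Subgroup.inf_subgroupOf_left]
      exact (Nat.prime_five.dvd_mul.1 c6).resolve_left fun h => absurd (Nat.le_of_dvd two_pos (h.trans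
        ((Subgroup.relIndex_dvd_index_of_normal _ K).trans alternatingGroup.index_eq_two.dvd))) (by omega)
    obtain ⟨c, hc'⟩ := c5
    rw [c2] at c1 c3
    rw [hc'] at c3
    generalize (K.subgroupOf (alternatingGroup _)).index = n at c1 c3 c4
    have c7 : n ∣ 12 := ⟨c, by linarith⟩
    have := Nat.le_of_dvd (by norm_num) c7
    obtain rfl | rfl : n = 1 ∨ n = 3 := by interval_cases n <;> omega
    all_goals exact absurd c1 (by decide)
  · have h6 : 4 ≤ Fintype.card I := by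
      obtain rfl | h := hk.eq_or_lt
      · omega
      · have := Nat.pow_le_pow_right two_pos h; omega
    obtain ⟨w, hw⟩ := hP.exists_smul_eq (inl (i, 0) : I × ZMod 2 ⊕ R) (inr r)
    replace hw : w.1 (inl (i, 0)) = inr r := hw
    have f0 : ∀ y, y ≠ inl (i, 0) → ∃ u, w.1 y = inl u := fun y h => k0' _ fun e => h (w.1.injective (e.trans hw.symm))
    obtain ⟨⟨k1, c1⟩, e1⟩ := f0 (inl (i, 1)) (by simp)
    obtain ⟨⟨k2, c2⟩, e2⟩ := f0 (inl (j, 0)) (by simp [hij.symm])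
    obtain ⟨⟨k3, c3⟩, e3⟩ := f0 (inl (j, 1)) (by simp [hij.symm])
    obtain ⟨l, n1, n2, n3⟩ := exists_fourth h6 k1 k2 k3
    have f1 : ∀ y, (w.1 * tl R (Pi.single i 1 - Pi.single j 1) * w.1⁻¹ : Perm (I × ZMod 2 ⊕ R)) y ≠ y ↔
        y = inr r ∨ y = inl (k1, c1) ∨ y = inl (k2, c2) ∨ y = inl (k3, c3) := fun y => by
      obtain ⟨y, rfl⟩ := w.1.surjective y
      rw [← hw, ← e1, ← e2, ← e3]
      rcases y with ⟨m, c⟩ | r'
      · by_cases a1 : m = i
        · rcases zmod_two c with rfl | rfl <;> simp [a1, hij]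
        by_cases a2 : m = j
        · rcases zmod_two c with rfl | rfl <;> simp [a2, hij.symm]
        simp [a1, a2]
      · simp
    have f2 : ∀ m c, m ≠ l → (inl (m, c) = inl (k1, c1) ∨ inl (m, c) = inl (k2, c2) ∨ (inl (m, c) : I × ZMod 2 ⊕ R) = inl (k3, c3)) →
        ((m, c + 1) ≠ (k1, c1) ∧ (m, c + 1) ≠ (k2, c2) ∧ (m, c + 1) ≠ (k3, c3)) → alternatingGroup _ ≤ K := fun m c a1 a2 a3 => by
      refine alt_le_of_inter (x := inl (m, c)) hP (K.mul_mem (K.mul_mem w.2 (l3 ⟨h1 tl_mem, (tl_sub_mem i j 1).2⟩)) (K.inv_mem w.2))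
        (l3 ⟨h1 tl_mem, (tl_sub_mem m l 1).2⟩) ((f1 _).2 (Or.inr a2)) (by simp [a1]) fun y y1 y2 => ?_
      rw [f1] at y1
      rcases y with ⟨m', c'⟩ | r'
      · obtain rfl : m' = m := by_contra fun b1 => by
          by_cases b2 : m' = l
          · simp [b2, n1, n2, n3] at y1
          · simp [b1, b2] at y2
        rcases zmod_two (c' - c) with b | b
        · rw [sub_eq_zero.1 b]
        · rw [sub_eq_iff_eq_add'.1 b] at y1
          simp only [reduceCtorEq, inl.injEq, false_or] at y1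
          tauto
      · simp at y2
    have d1 : (k1, c1) ≠ (k2, c2) := fun e => hij (Prod.mk.inj (inl.inj (w.1.injective (e1.trans (e ▸ e2.symm))))).1
    have d2 : (k1, c1) ≠ (k3, c3) := fun e => hij (Prod.mk.inj (inl.inj (w.1.injective (e1.trans (e ▸ e3.symm))))).1
    have d3 : (k2, c2) ≠ (k3, c3) := fun e => zero_ne_one (Prod.mk.inj (inl.inj (w.1.injective (e2.trans (e ▸ e3.symm))))).2
    have z2 : ∀ a b c : ZMod 2, a + 1 = b → c + 1 = a ∨ c + 1 = b → c = a ∨ c = b := by decide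
    by_cases b1 : (k1, c1 + 1) = (k2, c2)
    · refine f2 k3 c3 n3.symm (by simp) ?_
      simp only [ne_eq, Prod.mk.injEq, not_and] at *
      refine ⟨fun a b => ?_, fun a b => ?_, by simp⟩ <;> have := z2 c1 c2 c3 b1.2 (by simp [b]) <;> grind
    by_cases b2 : (k1, c1 + 1) = (k3, c3)
    · refine f2 k2 c2 n2.symm (by simp) ?_
      simp only [ne_eq, Prod.mk.injEq, not_and] at *
      refine ⟨fun a b => ?_, by simp, fun a b => ?_⟩ <;> have := z2 c1 c3 c2 b2.2 (by simp [b]) <;> grind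
    exact f2 k1 c1 n1.symm (by simp) ⟨by simp, b1, b2⟩

end main

theorem umx_iff {n : ℕ} (hn : 5 ≤ n) {G : Type*} [Group G] {H : Subgroup (Perm (Fin (n / 2) × ZMod 2 ⊕ Fin (n % 2)))} [H.Normal]
    (hH : alternatingGroup _ ≤ H) (e : G ≃* H) (R : Sylow 2 G) :
    (∃! M, IsCoatom M ∧ (R : Subgroup G) ≤ M) ↔ ∃ k, 2 ≤ k ∧ n = 2 ^ k + 1 := by
  haveI := Fin.subsingleton_iff_le_one.2 (show n % 2 ≤ 1 by omega)
  obtain ⟨T, h1, h2, h3⟩ := exists_sylow_le_Wt (I := Fin (n / 2)) (R := Fin (n % 2)) (p := 2) (by simp; omega)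
  rw [umx_equiv (h1.inf_normal (N := H)) e]
  refine ⟨fun h => ?_, fun ⟨k, hk, e⟩ => ?_⟩
  · rcases Nat.mod_two_eq_zero_or_one n with h4 | h4
    · haveI : IsEmpty (Fin (n % 2)) := h4 ▸ Fin.isEmpty'
      exact absurd h (not_umx_even (by simp; omega) hH h1.isP h2 h3)
    · obtain ⟨k, hk⟩ := pow_of_umx ⟨0, by omega⟩ (by simp; omega) hH h1.isP h2 h3 h
      rw [Fintype.card_fin] at hk
      refine ⟨k, by_contra fun h => ?_, by omega⟩
      have := Nat.pow_le_pow_right two_pos (show k ≤ 1 by omega)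
      omega
  · obtain ⟨m, hm⟩ : 2 ∣ 2 ^ k := dvd_pow_self 2 (by omega)
    exact umx_of_pow ⟨0, by omega⟩ hk (by simp; omega) hH h1 h2 h3

end Cfsg.Agent.H17
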