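import Mathlib
import Cfsg.Agent.H17.AltSec
import Cfsg.Agent.H12.WeylG2
import Cfsg.Agent.H12.Aut0
import Cfsg.Agent.H13.TwSt

/-! Alternating sections of groups with a root group datum of type `G₂`. -/

set_option autoImplicit false
set_option linter.unusedSectionVars false
set_option maxRecDepth 100000

namespace Cfsg.Agent.H17

open Cfsg.Agent.H12 Cfsg.Agent.H13 Cfsg.Agent.H12.RGD Cfsg.Agent.H18 Cfsg.Lie

/-- check of a table of permutations which is closed under some generators -/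
noncomputable def enumChk (n l N : ℕ) (f : ℕ → ℕ → ℕ) (T S : ℕ) (p : (ℕ → ℕ) → Bool) : Bool :=
  (Nat.blt 0 N && allLt n fun r => Nat.beq (fld (fld T (8 * n) 0) 8 r) r) &&
  allLt N fun m => forceN (fld T (8 * n) m) fun c => p (fld c 8) && allLt l fun i =>
    forceN (fld (fld S (12 * l) m) 12 i) fun m' => Nat.blt m' N && forceN (fld T (8 * n) m') fun d =>
      allLt n fun r => Nat.beq (f i (fld c 8 r)) (fld d 8 r)

/-- iteration -/
noncomputable def itN (c : ℕ → ℕ) (k r : ℕ) : ℕ := Nat.rec r (fun _ x => c x) k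

theorem perm_enum {n l N : ℕ} {f : ℕ → ℕ → ℕ} {T S : ℕ} {p : (ℕ → ℕ) → Bool}
    (h : enumChk n l N f T S p = true) (s : Fin l → Equiv.Perm (Fin n))
    (hf : ∀ i r, (s i r : ℕ) = f i r) {g : Equiv.Perm (Fin n)} (hg : g ∈ Subgroup.closure (Set.range s)) :
    ∃ c, p c = true ∧ ∀ k (r : Fin n), ((g ^ k) r : ℕ) = itN c k r := by
  simp only [enumChk, forceN_eq, Bool.and_eq_true, allLt_iff, Nat.blt_eq, Nat.beq_eq] at h
  obtain ⟨m, h1, h2⟩ : ∃ m < N, ∀ r : Fin n, (g r : ℕ) = fld (fld T (8 * n) m) 8 r := by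
    rw [← Subgroup.mem_toSubmonoid, Subgroup.closure_toSubmonoid_of_finite] at hg
    induction hg using Submonoid.closure_induction_left with
    | one => exact ⟨0, h.1.1, fun r => (h.1.2 r r.2).symm⟩
    | mul_left x hx y hy ih =>
      obtain ⟨i, rfl⟩ := hx
      obtain ⟨m, h1, h2⟩ := ih
      have := (h.2 m h1).2 i i.2
      exact ⟨_, this.1, fun r => by rw [Equiv.Perm.mul_apply, hf, h2, this.2 r r.2]⟩
  refine ⟨_, (h.2 m h1).1, fun k r => ?_⟩
  induction k with
  | zero => rfl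
  | succ k ih => rw [pow_succ', Equiv.Perm.mul_apply, h2, ih]; rfl

theorem pow_eq_one_of_itN {n k : ℕ} {g : Equiv.Perm (Fin n)} {c : ℕ → ℕ}
    (h : ∀ k (r : Fin n), ((g ^ k) r : ℕ) = itN c k r) (h' : (allLt n fun r => Nat.beq (itN c k r) r) = true) :
    g ^ k = 1 :=
  Equiv.ext fun r => Fin.ext ((h k r).trans (Nat.eq_of_beq_eq_true (allLt_iff.1 h' r r.2)))

theorem dih_pow {W : Type*} [Group W] {s t : W} (hs : s * s = 1) (ht : t * t = 1) (h : (s * t) ^ 6 = 1) :
    ∃ p : W → Prop, p 1 ∧ (∀ w, p w → p (s * w) ∧ p (t * w)) ∧ ∀ w, p w → w ^ 6 = 1 := by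
  have e1 : s⁻¹ = s := inv_eq_of_mul_eq_one_right hs
  have e2 : t⁻¹ = t := inv_eq_of_mul_eq_one_right ht
  have e3 : t = s * (s * t) := by rw [← mul_assoc, hs, one_mul]
  have e4 : s * (s * t) * s⁻¹ = (s * t)⁻¹ := by rw [← e3, mul_inv_rev, e2]
  refine ⟨fun w => ∃ k : ℤ, w = (s * t) ^ k ∨ w = s * (s * t) ^ k, ⟨0, by simp⟩, ?_, ?_⟩
  · rintro w ⟨k, rfl | rfl⟩
    · exact ⟨⟨k, Or.inr rfl⟩, k + 1, Or.inr (by rw [add_comm, zpow_add, zpow_one, ← mul_assoc, ← e3])⟩
    · exact ⟨⟨k, Or.inl (by rw [← mul_assoc, hs, one_mul])⟩, -1 + k, Or.inl (by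
        rw [zpow_add, zpow_neg_one, mul_inv_rev, e1, e2, mul_assoc])⟩
  · rintro w ⟨k, rfl | rfl⟩
    · rw [← zpow_natCast, ← zpow_mul, mul_comm, zpow_mul, zpow_natCast, h, one_zpow]
    · have : (s * (s * t) ^ k) ^ 2 = 1 := by
        rw [sq, show s * (s * t) ^ k * (s * (s * t) ^ k) = s * (s * t) ^ k * s⁻¹ * (s * t) ^ k by
          rw [e1]; simp only [mul_assoc], ← conj_zpow, e4, inv_zpow, inv_mul_cancel]
      rw [show 6 = 2 * 3 from rfl, pow_mul, this, one_pow]

theorem W_G2_pow (w : (rsOf chevG2).W) : w ^ 6 = 1 := by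
  obtain ⟨p, h1, h2, h3⟩ := dih_pow ((rsOf chevG2).s_mul_s (0 : Fin 2)) ((rsOf chevG2).s_mul_s (1 : Fin 2)) (by
    have := pow_orderOf_eq_one (wprod (rsOf chevG2).s [(0 : Fin 2), (1 : Fin 2)])
    rw [RS.orderOf_wprod cartG2_eq (n := 5) (by decide +kernel)] at this
    exact (congrArg (fun x => ((rsOf chevG2).s (0 : Fin 2) * x) ^ 6) (mul_one _)).symm.trans this)
  refine h3 w ?_
  induction w using RS.W_induction with
  | one => exact h1
  | step i w ih =>
    rcases (show ∀ i : Fin 2, i = 0 ∨ i = 1 by decide) i with rfl | rfl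
    exacts [(h2 w ih).1, (h2 w ih).2]

theorem card_two_torsion {B A : Type*} [Group B] [Finite B] [Group A] (hB : ∀ x y : B, x * y = y * x)
    (ψ : B →* A) (E : Finset A) (hE : ∀ e ∈ E, e ∈ ψ.range ∧ e ^ 2 = 1) :
    E.card ≤ Nat.card {x : B // x ^ 2 = 1} := by
  letI : CommGroup B := { (inferInstance : Group B) with mul_comm := hB }
  letI : CommGroup ψ.range := { (inferInstance : Group ψ.range) with
    mul_comm := by
      rintro ⟨_, x, rfl⟩ ⟨_, y, rfl⟩
      exact Subtype.ext (by simp only [Subgroup.coe_mul, ← map_mul, hB x y]) }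
  haveI : Finite ψ.range := Finite.of_surjective _ ψ.rangeRestrict_surjective
  have h1 : (powMonoidHom 2 : ψ.range →* ψ.range).range =
      (powMonoidHom 2 : B →* B).range.map ψ.rangeRestrict := by
    ext y
    constructor
    · rintro ⟨z, rfl⟩
      obtain ⟨x, rfl⟩ := ψ.rangeRestrict_surjective z
      exact ⟨x ^ 2, ⟨x, rfl⟩, map_pow _ _ _⟩
    · rintro ⟨_, ⟨x, rfl⟩, rfl⟩
      exact ⟨_, (map_pow _ _ _).symm⟩
  have h2 := Nat.le_of_dvd (Nat.pos_of_ne_zero Subgroup.index_ne_zero_of_finite)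
    ((powMonoidHom 2 : B →* B).range.index_map_dvd ψ.rangeRestrict_surjective)
  rw [← h1, Subgroup.index_range, Subgroup.index_range] at h2
  refine le_trans ?_ h2
  rw [← Nat.card_eq_finsetCard]
  exact Nat.card_le_card_of_injective (fun e => ⟨⟨e.1, (hE _ e.2).1⟩, Subtype.ext (hE _ e.2).2⟩)
    fun a b e => Subtype.ext (congrArg (fun x => x.1.1) e)

/-- generators of a `2`-subgroup of `A₈` whose Frattini subgroup has rank three -/
def a8g : Fin 2 → Equiv.Perm (Fin 8) :=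
  ![⟨![7, 6, 5, 4, 0, 1, 2, 3], ![4, 5, 6, 7, 3, 2, 1, 0], by decide, by decide⟩,
    ⟨![2, 3, 1, 0, 4, 5, 7, 6], ![3, 2, 0, 1, 4, 5, 7, 6], by decide, by decide⟩]

theorem a8g_isP : IsPGroup 2 (Subgroup.closure (Set.range a8g)) := fun g => by
  obtain ⟨c, h1, h2⟩ := perm_enum (n := 8) (l := 2) (N := 32)
    (f := fun i r => fld (fld 0x6754013232104567 32 i) 4 r)
    (T := 0x3020001060705040607040503020100050407060100030201000203050406070405070603020001000102030607040502030001050407060706040501000203010003020706050405040607020301000100020304050706050407060001020306070405020300010302000107060405040506070100030200010302050406070203010006070504060705040100020303020100050407060100030206070405050406070302000102030001040506070706040500010302040507060203010000010203070605040706050402030001020301000706040500010302040507060405060700010203060705040001030203020100040506070706050403020100)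
    (S := 0x700800900a00b00c00d00e00300400500601c01d01e01f01f01e01d01c00100201601701801901a01b01b01a01901801701600000f01001101201301401501501401301201101000f00000e00d00c00b00a009008007006005004003002001)
    (p := fun c => allLt 8 fun r => Nat.beq (itN c 4 r) r) (by decide +kernel) a8g (by decide +kernel) g.2
  exact ⟨2, Subtype.ext (pow_eq_one_of_itN h2 h1)⟩

variable {G : Type*} [Group G] [Finite G] {X : RGD (rsOf chevG2) G}

theorem g2_no7 (hT : ∀ s ∈ X.T, ∀ t ∈ X.T, s * t = t * s) {H : Type*} [Group H]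
    {f : H →* G} (hf : Function.Injective f) (hf' : ∀ y, f y ∈ X.grp) {φ : H →* alternatingGroup (Fin 7)}
    (hφ : Function.Surjective φ) (hl : ∀ r, Nat.card (X.U r) ≡ 1 [MOD 5]) : False := by
  haveI : Fact (Nat.Prime 5) := ⟨by norm_num⟩
  have hW : ¬ 5 ∣ Nat.card (rsOf chevG2).W := by rw [card_W_G2]; norm_num
  obtain ⟨n, w, -, h⟩ := fus_two hT hf hf' hφ hl hW hl hW
    (a := ⟨List.formPerm [0, 1, 2, 3, 4], Equiv.Perm.mem_alternatingGroup.2 (by decide +kernel)⟩) (a' := 1)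
    (b := ⟨List.formPerm [1, 2, 4, 3] * Equiv.swap 5 6, Equiv.Perm.mem_alternatingGroup.2 (by decide +kernel)⟩)
    (c := 2) (c' := 1) (Subtype.ext (by decide +kernel)) (one_pow _) (Subtype.ext (by decide +kernel))
    (by simp) (Commute.one_right _)
  exact absurd (congrArg Subtype.val ((h 6).1 (W_G2_pow w)).1) (by decide +kernel)

theorem g2_no8 (hT : ∀ s ∈ X.T, ∀ t ∈ X.T, s * t = t * s) {H : Type*} [Group H]
    {f : H →* G} (hf : Function.Injective f) (hf' : ∀ y, f y ∈ X.grp) {φ : H →* alternatingGroup (Fin 8)}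
    (hφ : Function.Surjective φ) (hl : ∀ r, Nat.card (X.U r) ≡ 1 [MOD 8]) {L : Finset G} (hL : L.card ≤ 4)
    (hL' : ∀ t ∈ X.T, t ^ 2 = 1 → t ∈ L) : False := by
  haveI : Finite H := Finite.of_injective f hf
  have h1 : ¬ 2 ∣ X.N.relIndex X.grp := by
    rintro ⟨k, hk⟩
    have h := relIndex_T_modEq hl
    rw [← Subgroup.relIndex_mul_relIndex _ _ _ T_le_N N_le_grp, hk, Subgroup.relIndex, ← piN_ker,
      Subgroup.index_ker, MonoidHom.range_eq_top.2 piN_surjective, Subgroup.card_top, card_W_G2] at h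
    unfold Nat.ModEq at h
    omega
  obtain ⟨S, s1, s2⟩ := sylIn_grp N_le_grp h1
  set ψ := (alternatingGroup (Fin 8)).subtype.comp φ
  set D := Subgroup.closure (Set.range a8g)
  have hD : D ≤ ψ.range := (Subgroup.closure_le _).2 (by
    rintro _ ⟨i, rfl⟩
    obtain ⟨y, hy⟩ := hφ ⟨a8g i, Equiv.Perm.mem_alternatingGroup.2 (by revert i; decide +kernel)⟩
    exact ⟨y, congrArg Subtype.val hy⟩)
  obtain ⟨P, hP, -⟩ := exists_sylIn_ge (p := 2) IsPGroup.of_bot (bot_le (a := D.comap ψ))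
  have h2 := hP.map ψ
  rw [Subgroup.map_comap_eq_self hD] at h2
  replace h2 := h2.eq_of_isPGroup a8g_isP
  obtain ⟨d, -, d2⟩ := s2.exists_conj_mem (P := P.map f) (by rintro _ ⟨y, -, rfl⟩; exact hf' y) (hP.isP.map f)
  set f1 := (MulAut.conj d).toMonoidHom.comp f
  have e0 : Function.Injective f1 := (MulAut.conj d).injective.comp hf
  set B := P ⊓ X.T.comap f1
  have h3 : ∀ y ∈ P, y ^ 2 ∈ B := fun y hy => by
    obtain ⟨w, hw⟩ := mem_N_iff.1 (s1 (d2 _ ⟨y, hy, rfl⟩))
    obtain ⟨j, hj⟩ := hP.isP ⟨y ^ 2, pow_mem hy 2⟩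
    obtain ⟨m, hm⟩ := exists_pow_eq_self_of_coprime (x := y ^ 2) (n := 3)
      (Nat.Coprime.coprime_dvd_right (orderOf_dvd_of_pow_eq_one (congrArg Subtype.val hj))
        (Nat.Coprime.pow_right j (by norm_num)))
    refine Subgroup.mem_inf.2 ⟨pow_mem hy 2, ?_⟩
    rw [← hm, ← pow_mul y]
    exact pow_mem (Subgroup.mem_comap.2 (by rw [map_pow]; exact (W_G2_pow w ▸ rep_pow hw 6).mem_T)) m
  have h4 : ∀ x ∈ D, x ^ 2 ∈ (ψ.comp B.subtype).range := fun x hx => by
    rw [← h2] at hx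
    obtain ⟨y, hy, rfl⟩ := hx
    exact ⟨⟨y ^ 2, h3 y hy⟩, map_pow ψ y 2⟩
  have ha : ∀ i, a8g i ∈ D := fun i => Subgroup.subset_closure ⟨i, rfl⟩
  have h5 := card_two_torsion (B := B) (fun x y => Subtype.ext (e0 (by
      rw [Subgroup.coe_mul, Subgroup.coe_mul, map_mul, map_mul]
      exact hT _ (Subgroup.mem_inf.1 x.2).2 _ (Subgroup.mem_inf.1 y.2).2))) (ψ.comp B.subtype)
    {1, a8g 0 ^ 2, a8g 1 ^ 2, (a8g 0 * a8g 1) ^ 2, a8g 0 ^ 2 * a8g 1 ^ 2} (by
      simp only [Finset.mem_insert, Finset.mem_singleton, forall_eq_or_imp, forall_eq]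
      exact ⟨⟨one_mem _, one_pow _⟩, ⟨h4 _ (ha 0), by decide +kernel⟩, ⟨h4 _ (ha 1), by decide +kernel⟩,
        ⟨h4 _ (mul_mem (ha 0) (ha 1)), by decide +kernel⟩, mul_mem (h4 _ (ha 0)) (h4 _ (ha 1)), by decide +kernel⟩)
  have h6 : Nat.card {x : B // x ^ 2 = 1} ≤ L.card := by
    rw [← Nat.card_eq_finsetCard]
    exact Nat.card_le_card_of_injective (fun x => ⟨f1 x.1, hL' _ (Subgroup.mem_inf.1 x.1.2).2 (by
      rw [← map_pow, ← Subgroup.coe_pow, x.2, Subgroup.coe_one, map_one])⟩)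
      fun a b e => Subtype.ext (Subtype.ext (e0 (congrArg Subtype.val e)))
  exact absurd (h5.trans (h6.trans hL)) (by decide +kernel)

theorem pow_modEq_one {p l k n : ℕ} (hp : p.Prime) (hl : l.Prime) (h : p ≠ l) (hn : l - 1 ∣ n) :
    (p ^ k) ^ n ≡ 1 [MOD l] := by
  obtain ⟨m, rfl⟩ := hn
  have := (Nat.ModEq.pow_totient (((Nat.coprime_primes hp hl).2 h).pow_left k)).pow m
  rwa [Nat.totient_prime hl, one_pow, ← pow_mul] at this

theorem g2_bound (hT : ∀ s ∈ X.T, ∀ t ∈ X.T, s * t = t * s) {p : ℕ} (hp : p.Prime)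
    (hU : ∀ r, ∃ k, Nat.card (X.U r) = (p ^ k) ^ 4) (hL : ∃ L : Finset G, L.card ≤ 4 ∧
      ∀ t ∈ X.T, t ^ 2 = 1 → t ∈ L) {H : Type*} [Group H] {f : H →* G} (hf : Function.Injective f)
    (hf' : ∀ y, f y ∈ X.grp) {N : Subgroup H} [N.Normal] {r : ℕ} (e : H ⧸ N ≃* alternatingGroup (Fin r)) :
    r ≤ 6 + if p = 5 then 1 else 0 := by
  by_contra h
  split_ifs at h with h5
  · obtain ⟨M, φ, hφ⟩ := exists_alt_sec (m := 8) (by omega) e
    obtain ⟨L, h1, h2⟩ := hL
    refine g2_no8 hT (f := f.comp M.subtype) (hf.comp Subtype.val_injective) (fun _ => hf' _) hφ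
      (fun r => ?_) h1 h2
    obtain ⟨k, hk⟩ := hU r
    rw [hk, h5, ← pow_mul, mul_comm, pow_mul]
    simpa using (show 5 ^ 4 ≡ 1 [MOD 8] by decide).pow k
  · obtain ⟨M, φ, hφ⟩ := exists_alt_sec (m := 7) (by omega) e
    refine g2_no7 hT (f := f.comp M.subtype) (hf.comp Subtype.val_injective) (fun _ => hf' _) hφ fun r => ?_
    obtain ⟨k, hk⟩ := hU r
    exact hk ▸ pow_modEq_one hp (by norm_num) h5 dvd_rfl

theorem chev_T_comm {D : ChevalleyDatum} [Good D] {K : Type*} [Field K] :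
    ∀ s ∈ (chevRGD D K).T, ∀ t ∈ (chevRGD D K).T, s * t = t * s := fun s hs t ht => by
  obtain ⟨a, rfl⟩ := mem_T_iff.1 hs
  obtain ⟨b, rfl⟩ := mem_T_iff.1 ht
  rw [← map_mul, mul_comm, map_mul]

theorem unit_mem_pm {K : Type*} [Field K] [DecidableEq Kˣ] {z : Kˣ} (h : z ^ 2 = 1) :
    z ∈ ({1, -1} : Finset Kˣ) := by
  rw [Finset.mem_insert, Finset.mem_singleton, Units.ext_iff, Units.ext_iff]
  exact sq_eq_one_iff.1 (by rw [← Units.val_pow_eq_pow_val, h, Units.val_one])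

/-- passage to an extension field -/
theorem exists_chev_ext (D : ChevalleyDatum) [Good D] (F : Type*) [Field F] [Finite F] (p : ℕ) [Fact p.Prime]
    [CharP F p] (n : ℕ) [NeZero n] : ∃ (K : Type) (_ : Field K) (_ : Finite K) (f : D.group F →* GL D.Idx K),
      Function.Injective f ∧ (∀ y, f y ∈ (chevRGD D K).grp) ∧
        ∃ k, ∀ r, Nat.card ((chevRGD D K).U r) = (p ^ k) ^ n := by
  haveI := Fintype.ofFinite F
  obtain ⟨k, -, hk⟩ := FiniteField.card F p
  refine ⟨FiniteField.Extension F p n, inferInstance, inferInstance,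
    (D.group _).subtype.comp (fieldHom D (algebraMap F _)), Subtype.val_injective.comp (fieldHom_injective _),
    fun y => (group_eq (D := D)).le (fieldHom D (algebraMap F _) y).2, k, fun r => ?_⟩
  rw [chev_card_U, FiniteField.natCard_extension, Nat.card_eq_fintype_card, hk]

end Cfsg.Agent.H17
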