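import Mathlib
import Cfsg.Agent.H17.Ex3
import Cfsg.Agent.H12.Tb
import Cfsg.Agent.H12.WeylE6
import Cfsg.Agent.H12.WeylE8
import Cfsg.Agent.H13.SzRep

/-!
The degree bound in terms of tables; the untwisted groups.
-/

set_option autoImplicit false
set_option linter.unusedSectionVars false
set_option maxRecDepth 100000

namespace Cfsg.Agent.H17.Ex

open Module H12 H12.RGD Cfsg.Lie

theorem arith {q n m d T H c D a : ℕ} (hq : IsPrimePow q) (hn : n < q) (hT : T = q + q ^ 2 * c)
    (hD : T = q + q ^ a * D) (cop : IsCoprime (D : ℤ) q) (hH : ¬ (D : ℤ) ∣ H) (h1 : T ≤ d + n * q)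
    (hB : d < T → ∃ B, 0 < B ∧ (B + H = q * d ∨ B + q * d = H) ∧ n ^ 2 * q * B < d)
    (h2 : d ∣ q ^ m * (T * H)) : T ≤ d := by
  by_contra! h
  obtain ⟨B, b1, b2, b3⟩ := hB h
  obtain ⟨j, hj⟩ := Nat.exists_eq_add_of_le h.le
  by_cases hjq : j = q
  · obtain rfl : d = q ^ a * D := by omega
    refine hH ((cop.pow_right (n := m + 1)).dvd_of_dvd_mul_left ?_)
    have h3 : (D : ℤ) ∣ q ^ m * (T * H) := by exact_mod_cast (dvd_mul_left _ _).trans h2
    rw [hD] at h3
    push_cast at h3
    convert dvd_sub h3 (dvd_mul_right _ (q ^ m * q ^ a * H : ℤ)) using 1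
    ring
  · refine (nt_bound (m := m) hq hn (by omega) (by omega) hjq (by omega) (hj.symm.trans hT) b1 ?_).not_gt b3
    rw [hj] at h2
    zify at h2 b2 ⊢
    rcases b2 with b2 | b2
    · rw [show (q : ℤ) ^ m * (j * B) = d * (q ^ m * (j * q + H)) - q ^ m * ((d + j) * H) by
        linear_combination (q ^ m * j : ℤ) * b2]
      exact dvd_sub (dvd_mul_right _ _) h2
    · rw [show (q : ℤ) ^ m * (j * B) = q ^ m * ((d + j) * H) - d * (q ^ m * (j * q + H)) by
        linear_combination (q ^ m * j : ℤ) * b2]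
      exact dvd_sub h2 (dvd_mul_right _ _)

/-- the check for small fields -/
noncomputable def smallChk (T : ℕ → ℕ) (n m h q₀ : ℕ) : Bool :=
  allLt q₀ fun q => Nat.blt q 2 || allLt (n * q) fun j =>
    !Nat.beq ((q ^ m * (T q * (q ^ h - 1))) % (T q - (j + 1))) 0

theorem arith_small {T : ℕ → ℕ} {n m h q₀ q d : ℕ} (hc : smallChk T n m h q₀ = true) (h2 : 2 ≤ q)
    (hq : q < q₀) (h1 : T q ≤ d + n * q) (h3 : d ∣ q ^ m * (T q * (q ^ h - 1))) : T q ≤ d := by
  by_contra! h
  obtain ⟨j, hj⟩ := Nat.exists_eq_add_of_lt h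
  have := allLt_iff.1 hc q hq
  simp only [Bool.or_eq_true, Nat.blt_eq, allLt_iff, Bool.not_eq_true', ← Bool.not_eq_true, Nat.beq_eq] at this
  refine this.resolve_left (by omega) j (by omega) ?_
  rw [show T q - (j + 1) = d by omega]
  exact Nat.mod_eq_zero_of_dvd h3

/-- a weighted count -/
noncomputable def wsum (n : ℕ) (P : ℕ → Bool) (e : ℕ → ℕ) : ℕ :=
  Nat.rec 0 (fun k ih => bif P k then e k + ih else ih) n

theorem wsum_eq (n : ℕ) (P : ℕ → Bool) (e : ℕ → ℕ) :
    wsum n P e = ∑ k : Fin n with P k.1 = true, e k.1 := by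
  rw [Finset.sum_filter, Fin.sum_univ_eq_sum_range fun k => if P k = true then e k else 0]
  induction n with
  | zero => rfl
  | succ n ih =>
    rw [Finset.sum_range_succ, ← ih]
    change (bif P n then e n + wsum n P e else wsum n P e) = _
    cases P n <;> simp [add_comm]

/-- height of a root in a table -/
noncomputable def hT (X : Tab) (r : ℕ) : ℤ := sumLt X.l (X.al r)

/-- the checks on the tables -/
noncomputable def chkT (X : Tab) (θ β m : ℕ) (e : ℕ → ℕ) (J : ℕ → Bool) (L : List ℕ) : Bool :=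
  (allLt X.n fun r => !decide (X.len r = X.len θ) || Nat.beq r θ || anyLt X.l fun i => Nat.blt r (X.refl i r)) &&
  Nat.beq (e θ) 1 && Nat.beq (wsum X.n (fun δ => decide (X.pairing θ δ = 1)) e) (2 * m) &&
  (allLt X.n fun α => !(decide (X.len α = X.len θ) && decide (1 < hT X α)) ||
    Nat.beq (wsum X.n (fun δ => decide (X.pairing α δ = 1 ∧ 0 < hT X δ ∧ hT X δ < hT X α)) e)
      (2 * ((hT X α).toNat - 1))) &&
  (Nat.blt β X.n && decide (X.len β = X.len θ) && decide (X.pairing β θ = 1)) &&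
  (allLt X.n fun r => !((allLt X.l fun i => decide (0 ≤ X.al r i)) ||
    allLt X.l fun i => J i || decide (X.al r i = 0)) || decide (0 ≤ X.pairing θ r)) &&
  decide ((((List.range X.n).filter fun α => decide (X.len α = X.len θ) && decide (1 < hT X α)).map
    fun α => (hT X α).toNat - 1) = L)

variable {D : ChevalleyDatum} [Good D]

theorem cor_tb (r s : Fin D.nroots) : (rsOf D).cor r ((rsOf D).α s) = (tb D).pairing r s := cor_α r s

theorem ht_tb (r : Fin D.nroots) : (rsOf D).ht r = hT (tb D) r := by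
  rw [hT, sumLt_eq, RS.ht]
  exact Fin.sum_univ_eq_sum_range (al D r) D.rank

theorem orbit {θ : Fin D.nroots} (h : ∀ r < D.nroots, rlen D r = rlen D θ → r = θ ∨
    ∃ i < D.rank, r < D.reflectRoot i r) (r : Fin D.nroots) (hr : rlen D r = rlen D θ) :
    ∃ w : (rsOf D).W, r = w • θ := by
  refine down_induction (p := fun r => ∀ h : r < D.nroots, rlen D r = rlen D θ →
    ∃ w : (rsOf D).W, ⟨r, h⟩ = w • θ) (fun r h1 ih h1 h2 => ?_) r.2 r.2 hr
  rcases h r h1 h2 with e | ⟨i, hi, e⟩
  · exact ⟨1, Fin.ext (by simpa using e)⟩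
  · obtain ⟨w, hw⟩ := ih _ e (refl_lt hi h1) (refl_lt hi h1) ((rlen_refl hi h1).trans h2)
    refine ⟨(rsOf D).s ⟨i, hi⟩ * w, ?_⟩
    rw [mul_smul, ← hw, RS.s_smul]
    exact Fin.ext (refl_refl hi h1).symm

variable {G : Type*} [Group G] [Finite G] {X : RGD (rsOf D) G} {V : Type*} [AddCommGroup V] [Module ℂ V]
  [FiniteDimensional ℂ V] {ρ : Representation ℂ G V} {F : Type*} [Field F] [Fintype F] {x : F → G}

theorem main_tb [ρ.IsIrreducible] (hX : X.grp = ⊤) {θ : Fin D.nroots} (h : Lg X x θ)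
    (tor : ∀ l : F, l ≠ 0 → ∃ g, ∀ t, x t * g = g * x (l * t)) {q m β N : ℕ} (hq : Fintype.card F = q)
    {e : ℕ → ℕ} (he : ∀ r, Nat.card (X.U r) = q ^ e r) {J : ℕ → Bool} {L : List ℕ}
    (hc : chkT (tb D) θ β m e J L = true)
    (hB : ∀ α : Fin D.nroots, rlen D α = rlen D θ → 1 < (rsOf D).ht α → HB X α)
    (hN : ∑ᶠ w : (rsOf D).WJ Set.univ, Nat.card (X.US ((rsOf D).invSet w)) =
      N * ∑ᶠ w : (rsOf D).WJ {i | J i = true}, Nat.card (X.US ((rsOf D).invSet w)))
    {t₀ : F} (hne : ρ (x t₀) ≠ 1) :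
    2 * ((q - 1) * (q + 1) * q ^ m) ≤ q * finrank ℂ V ∨ (q - 1) * (L.map (q ^ ·)).sum ≤ finrank ℂ V ∧
      finrank ℂ V ∣ N * (q * ((q - 1) * q ^ m)) := by
  simp only [chkT, Bool.and_eq_true, allLt_iff, anyLt_iff, Bool.or_eq_true, Bool.not_eq_true',
    Nat.beq_eq, Nat.blt_eq, ← Bool.not_eq_true, decide_eq_true_eq, wsum_eq, or_assoc] at hc
  simp only [← imp_iff_not_or] at hc
  obtain ⟨⟨⟨⟨⟨⟨c1, c2⟩, c3⟩, c4⟩, ⟨c5, c6⟩, c7⟩, c8⟩, c9⟩ := hc
  have k := orbit (θ := θ) c1
  obtain ⟨w, hw⟩ := k ⟨β, c5⟩ c6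
  have := main (ρ := ρ) h tor hq (m := m) (by rw [he, c2, pow_one])
    (by simp only [he, cor_tb, Finset.prod_pow_eq_pow_sum]; exact congrArg _ c3)
    (Finset.univ.filter fun α => rlen D α = rlen D θ ∧ 1 < hT (tb D) α)
    (fun α => (hT (tb D) α).toNat - 1) (fun α hα => by
      obtain ⟨a1, a2⟩ := (Finset.mem_filter.1 hα).2
      refine ⟨k α a1, by rw [ht_tb]; omega, hB α a1 (by rwa [ht_tb]), ?_⟩
      simp only [he, cor_tb, ht_tb, Finset.prod_pow_eq_pow_sum]
      exact congrArg _ (c4 α α.2 ⟨a1, a2⟩))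
    (w₀ := w) (by rw [← hw, cor_tb]; exact c7) (PJ_le (J := {i | J i = true}) h.long fun r hr => by
      rw [cor_tb]
      exact c8 r r.2 (hr.imp (fun h i hi => h ⟨i, hi⟩) fun h i hi =>
        or_iff_not_imp_left.2 (h ⟨i, hi⟩))) hne
  rw [index_PJ hX hN] at this
  convert this using 4
  rw [← c9, List.map_map, Finset.sum_filter, Fin.sum_univ_eq_sum_range fun α =>
    if rlen D α = rlen D θ ∧ 1 < hT (tb D) α then q ^ ((hT (tb D) α).toNat - 1) else 0,
    ← sum_list_range]
  change (List.map _ (List.filter _ (List.range D.nroots))).sum = _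
  generalize List.range D.nroots = l
  induction l with
  | nil => rfl
  | cons a l ih =>
    rw [List.filter_cons, List.map_cons, List.sum_cons, ← ih]
    simp only [Bool.and_eq_true, decide_eq_true_eq]
    by_cases h : rlen D a = rlen D θ ∧ 1 < hT (tb D) a
    · rw [if_pos h, if_pos (show (tb D).len a = (tb D).len θ ∧ _ from h)]; rfl
    · rw [if_neg h, if_neg (show ¬ ((tb D).len a = (tb D).len θ ∧ _) from h), zero_add]

theorem idx_orb {J K : ℕ → Bool} {O : Orb ℤ} {A : ℕ → ℕ → ℤ} {d : ℕ → ℕ × ℕ}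
    (hA : ∀ i j : Fin D.rank, (rsOf D).co i (Pi.single j 1) = A i j) (hO : O.chk A D.rank J K d = true)
    (hK : ∀ i : Fin D.rank, K i = true) {x y : ℕ}
    (h : ∀ i : Fin D.rank, Nat.card (X.U ((rsOf D).simple i)) = x ^ (d i).1 * y ^ (d i).2) :
    ∑ᶠ w : (rsOf D).WJ Set.univ, Nat.card (X.US ((rsOf D).invSet w)) =
      O.poly x y * ∑ᶠ w : (rsOf D).WJ {i | J i = true}, Nat.card (X.US ((rsOf D).invSet w)) := by
  have := Orb.finsum_eq hA (by simpa only [h] using lm_card (X := X)) hO
  rwa [Set.eq_univ_of_forall (s := {i : Fin D.rank | K i = true}) hK] at this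

/-- the checks in the simply laced case -/
noncomputable def chkS (X : Tab) (θ : ℕ) : Bool :=
  allLt X.n fun r => decide (X.len r = X.len θ) && (!decide (X.pairing θ r = 0) ||
    anyLt X.n fun δ => decide (X.pairing θ δ = 0) && decide (X.pairing r δ = 1))

theorem main_chev (hD : D ∈ [chevD4, chevF4, chevE6, chevE7, chevE8]) {k : ℕ}
    {ρ : Representation ℂ (D.group F) (Fin k → ℂ)} (hρ : ρ.IsIrreducible) (hk : 2 ≤ k)
    {θ : Fin D.nroots} {m β : ℕ} {J : ℕ → Bool} {L : List ℕ} (hc : chkT (tb D) θ β m (fun _ => 1) J L = true)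
    (hs : chkS (tb D) θ = true) {O : Orb ℤ} {A : ℕ → ℕ → ℤ} {K : ℕ → Bool} {d : ℕ → ℕ × ℕ}
    (hA : ∀ i j : Fin D.rank, (rsOf D).co i (Pi.single j 1) = A i j) (hO : O.chk A D.rank J K d = true)
    (hK : ∀ i : Fin D.rank, K i = true ∧ d i = (1, 0)) {q : ℕ} (hq : Fintype.card F = q) :
    2 * ((q - 1) * (q + 1) * q ^ m) ≤ q * k ∨ (q - 1) * (L.map (q ^ ·)).sum ≤ k ∧
      k ∣ O.poly q q * (q * ((q - 1) * q ^ m)) := by
  classical
  simp only [chkS, Bool.and_eq_true, allLt_iff, anyLt_iff, Bool.or_eq_true, Bool.not_eq_true',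
    ← Bool.not_eq_true, decide_eq_true_eq, ← imp_iff_not_or] at hs
  have sl : (rsOf D).SL := fun r s => by
    have := rlen_pairing r.2 s.2
    rw [show rlen D r = rlen D θ from (hs r r.2).1, show rlen D s = rlen D θ from (hs s s.2).1] at this
    rw [cor_α, cor_α]
    exact mul_left_cancel₀ (rlen_pos θ.2).ne' this
  have he : ∀ r, Nat.card ((grpRGD D F).U r) = q := fun r =>
    (StSys.card_U grpNC grpNM r).trans (Nat.card_eq_fintype_card.trans hq)
  have := grp_isSimpleGroup (D := D) (F := F) (der_of_mem5 hD)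
  have hc' := hc
  simp only [chkT, Bool.and_eq_true, Nat.blt_eq, decide_eq_true_eq] at hc'
  obtain ⟨⟨⟨-, ⟨c5, -⟩, c7⟩, -⟩, -⟩ := hc'
  have := main_tb (ρ := ρ) (x := (grpSt D F).x θ) grpRGD_top (sl_lg sl ((grpSt D F).add θ)
    (fun u => (grpSt D F).mem_U.trans (by simp only [eq_comm])) fun γ hγ => by
      obtain ⟨δ, h1, h2⟩ := (hs γ γ.2).2 (by rwa [← cor_tb])
      exact ⟨⟨δ, h1⟩, by simpa only [cor_tb] using h2⟩) (fun l hl => ⟨((grpSt D F).h ⟨β, c5⟩ l)⁻¹,
        fun t => by
          rw [eq_inv_mul_iff_mul_eq, ← mul_assoc, grpNC.h_conj_x _ _ hl, cor_tb, c7, zpow_one]⟩)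
    hq (fun r => by rw [he, pow_one]) hc (fun α _ => sl_hb sl)
    (idx_orb hA hO (fun i => (hK i).1) (y := q) fun i => by rw [he, (hK i).2, pow_one, pow_zero, mul_one])
    (H13.rep_ne_one_of_isSimpleGroup ρ hρ hk (mt (StSys.x_eq_one_iff grpNC grpNM).1 one_ne_zero))
  rwa [finrank_fin_fun] at this

/-- orbit certificate for the long root parabolic of `E₆` -/
def orbL6 : Orb ℤ :=
  pOrb 6 72 0x88887888789887978887898779878898878887888979798798798779788978987798788997987778889778977989887797889797977978879978897889789789877997879997897878799888978789779989797897799877988888898688986888968989699896988869888888878a8878a8887a8787a7787a7888a78888887989879798879977799778997888879879878997798798798977989778878899798879797997988798988977797899988879789887987997789789987899979887788988979789898887978988898789897988889878888898 0x47000000460000000000004500000045000000004300000000000000000000440044004300004000004200000041000000400000400000003e000000003f3d003f000000000000003d0000003e00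003d003b000000003a0000003b0039003c00003b00000000393a0000003900000037000038000036000000383500000036373400003600000000003534000000330000000031000032330030003200002f000031300000002f0000000000002e000000002c00000000002d00002e002b002d2c002a002b000000002a0000000000000000002900000000280000000027000000002600000000250000000024000000000000000023002100002200200000002120000000201f0000001f1e0000000000001d00001b0000001c1b00001c00001a00001b001a00001a001900000000000000181700180000001500170016150016000000140015000014000000130000121112000000000f000011000000110000100f0000000e00000c0e0000000d0b0c000b0000000000000a00000a0009000008000800000000070000060000000600000005000400030000000002000000000000000100 0x46454340403f3e3d3b3939363635343231302f2f2d2c2b2b2a2726262524232221201f1e1d1c1b1a191918161514141211100f0f0e0d0b0b0b090908080606050403030202010000 0x134422433303002002210221302134012345233454344534455245521515353454042310 0x150014001300120012001100110011001000100010000f000f000f000f000e000e000e000e000e000d000d000d000d000d000c000c000c000c000c000b000b000b000b000b000b000a000a000a000a000a000a000900090009000900090008000800080008000800070007000700070007000600060006000600050005000500040004000400030003000200010000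
    [(1, 0, 0), (1, 1, 0), (1, 2, 0), (2, 3, 0), (3, 4, 0), (3, 5, 0), (4, 6, 0), (5, 7, 0), (5, 8, 0), (5, 9, 0), (6, 10, 0), (6, 11, 0), (5, 12, 0), (5, 13, 0), (5, 14, 0), (4, 15, 0), (3, 16, 0), (3, 17, 0), (2, 18, 0), (1, 19, 0), (1, 20, 0), (1, 21, 0)]

theorem orbL6_chk : orbL6.chk cartE6 6 (fun i => !Nat.beq i 1) (fun _ => true) expE6 = true := by
  decide +kernel

end Cfsg.Agent.H17.Ex
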