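import Cfsg.Agent.H17.FgG
import Cfsg.Agent.H7.Bf1

/-! S3296: the two presentations of `M₁₂` type. -/

set_option autoImplicit false
set_option linter.unusedVariables false

namespace Cfsg.Agent.GO.Fg

open Subgroup Cfsg.Agent.H19.Gt

theorem fH_ten {G : Type*} [Group G] {f y g x : G} (h : FR 0 2 2 f y g x) : FR 0 0 0 f y (g * f ^ 2) x := by
  obtain ⟨f8, z1, yy, yf, gf, gy, xf, xy, gg, xx, xg⟩ := h
  have yf' : y * f * y⁻¹ = f ^ 5 := by rw [yf, mul_inv_cancel_right]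
  have gf' : g * f * g⁻¹ = f ^ 3 * y := by rw [gf, mul_inv_cancel_right]
  have xf' : x * f * x⁻¹ = f ^ 7 := by rw [xf, mul_inv_cancel_right]
  have c2 : Commute g (f ^ 2) := by
    rw [Commute, SemiconjBy, ← mul_inv_eq_iff_eq_mul, ← conj_pow, gf']
    calc (f ^ 3 * y) ^ 2 = f ^ 3 * (y * f * y⁻¹) ^ 3 * (y * y) := by rw [conj_pow]; simp [pow_succ, mul_assoc]
      _ = f ^ 2 * (f ^ 8) ^ 2 := by rw [yf', yy]; group
      _ = _ := by rw [f8]; group
  have c3 : Commute y (f ^ 2) := by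
    rw [Commute, SemiconjBy, ← mul_inv_eq_iff_eq_mul, ← conj_pow, yf']
    calc (f ^ 5) ^ 2 = f ^ 2 * f ^ 8 := by group
      _ = _ := by rw [f8, mul_one]
  refine ⟨f8, z1, yy, yf, ?_, ?_, xf, xy, ?_, xx, ?_⟩
  · calc _ = g * f * f ^ 2 := by group
      _ = _ := by rw [gf]; group
  · rw [mul_assoc, ← c3.eq, ← mul_assoc, gy, mul_assoc]
  · rw [mul_assoc, ← mul_assoc (f ^ 2), ← c2.eq, mul_assoc, ← mul_assoc, gg]
    calc _ = y * f ^ 8 := by group
      _ = _ := by rw [f8]; group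
  · calc _ = x * g * x⁻¹ * (x * f * x⁻¹) ^ 2 * x := by rw [conj_pow]; group
      _ = y * ((f ^ 2) ^ 2 * g) * (f ^ 7) ^ 2 * x := by rw [xg, xf']; group
      _ = y * g * f ^ 2 * (f ^ 8) ^ 2 * x := by rw [← (c2.pow_right 2).eq]; group
      _ = _ := by rw [f8]; group

theorem fH {G : Type*} [Group G] [Finite G] [IsSimpleGroup G] (P : Sylow 2 G)
    (hP : Nat.card (P : Subgroup G) = 64) {f y g x : G} (hf : f ∈ (P : Subgroup G)) (hy : y ∈ (P : Subgroup G))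
    (hg : g ∈ (P : Subgroup G)) (hx : x ∈ (P : Subgroup G)) (h : FR 0 0 0 f y g x ∨ FR 0 2 2 f y g x)
    (h2 : ∃ s t : G, orderOf s = 2 ∧ orderOf t = 2 ∧ ¬ IsConj s t) : Nonempty (G ≃* Cfsg.Spor.M12) := by
  obtain ⟨τ, u, v, hs⟩ := h.elim (fG hP hf hy hg hx)
    fun h => fG hP hf hy (mul_mem hg (pow_mem hf 2)) hx (fH_ten h)
  exact H7.Bf.g_main (z := Multiplicative.ofAdd 2)
    ⟨hs, inferInstance, IsPGroup.of_card (n := 2) (by simp), by decide, by decide⟩ (by simp) h2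

end Cfsg.Agent.GO.Fg
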