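import Cfsg.Agent.H17.FgH
import Cfsg.Agent.GO.Fg1

/-! S3296: from the multiplication tables `0` and `10` back to the presentations. -/

set_option autoImplicit false
set_option linter.unusedVariables false

namespace Cfsg.Agent.GO.Fg

open Subgroup

theorem fK_fr {G : Type*} [Group G] {P : Subgroup G} {v : ℕ → G} {n k : ℕ} (hn : n = 0 ∧ k = 0 ∨ n = 10 ∧ k = 2)
    (h : Rp n P v) : FR 0 k k (v 1) (v 8) (v 16) (v 32) := by
  have m : ∀ a b c : ℕ, a < 64 → b < 64 → mu n a b = c → v a * v b = v c := fun a b c ha hb e =>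
    e ▸ (h.mul a ha b hb).symm
  have d : ∀ i < 8, mu n i 1 = (i + 1) % 8 := by rcases hn with ⟨rfl, -⟩ | ⟨rfl, -⟩ <;> decide +kernel
  have p : ∀ i : ℕ, v 1 ^ i = v (i % 8) := fun i => by
    induction i with
    | zero => rw [pow_zero]; exact h.one.symm
    | succ i ih =>
      rw [pow_succ, ih, m _ 1 _ (by omega) (by norm_num) (d _ (Nat.mod_lt _ (by norm_num)))]
      congr 1; omega
  have q : ∀ a b c d : ℕ, a < 64 → b < 64 → c < 64 → d < 64 → mu n a b = mu n c d → v a * v b = v c * v d :=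
    fun a b c d ha hb hc hd e => by rw [← h.mul a ha b hb, ← h.mul c hc d hd, e]
  have r : ∀ a b : ℕ, a < 64 → b < 64 → v a * v b = v (mu n a b) := fun a b ha hb => (h.mul a ha b hb).symm
  refine ⟨by rw [p]; exact h.one, fun e => ?_, ?_, ?_, ?_, ?_, ?_, ?_, ?_, ?_, ?_⟩
  · rw [p, ← h.one] at e
    exact absurd (h.inj _ (by norm_num) _ (by norm_num) e) (by norm_num)
  all_goals
    try simp only [p]
    try rw [← h.one]
    rcases hn with ⟨rfl, rfl⟩ | ⟨rfl, rfl⟩
  all_goals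
    simp (disch := first | exact mu_lt _ _ _ | norm_num) only [r]
    exact congrArg v (by decide +kernel)

theorem fK {G : Type*} [Group G] [Finite G] [IsSimpleGroup G] (P : Sylow 2 G)
    (hP : Nat.card (P : Subgroup G) = 64) {v : ℕ → G} {n : ℕ} (hn : n = 0 ∨ n = 10) (h : Rp n (P : Subgroup G) v)
    (h2 : ∃ s t : G, orderOf s = 2 ∧ orderOf t = 2 ∧ ¬ IsConj s t) : Nonempty (G ≃* Cfsg.Spor.M12) :=
  have m : ∀ a < 64, v a ∈ (P : Subgroup G) := fun a ha => (h.mem _).2 ⟨a, ha, rfl⟩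
  fH P hP (m 1 (by norm_num)) (m 8 (by norm_num)) (m 16 (by norm_num)) (m 32 (by norm_num))
    (hn.imp (fun e => fK_fr (.inl ⟨e, rfl⟩) h) fun e => fK_fr (.inr ⟨e, rfl⟩) h) h2

end Cfsg.Agent.GO.Fg
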