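import Mathlib
import Cfsg.Agent.H10.SL

/-! Two-element generation of `SL_{n+1}`. -/

set_option autoImplicit false

namespace Cfsg.Agent.H17

open Matrix Matrix.SpecialLinearGroup
open scoped commutatorElement

/-- every element of a finite field is a sum of two squares -/
theorem exists_two_sq {K : Type*} [Field K] [Finite K] (c : K) : ∃ a b : K, c = a ^ 2 + b ^ 2 := by
  haveI := Fintype.ofFinite K
  by_cases h : ringChar K = 2
  · obtain ⟨a, ha⟩ := FiniteField.isSquare_of_char_two h c
    exact ⟨a, 0, by rw [ha]; ring⟩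
  · have h1 := FiniteField.odd_card_of_char_ne_two h
    obtain ⟨a, b, hab⟩ := FiniteField.exists_root_sum_quadratic (f := Polynomial.X ^ 2)
      (g := Polynomial.X ^ 2 - Polynomial.C c) (Polynomial.degree_X_pow 2)
      (Polynomial.degree_X_pow_sub_C (by norm_num) c) h1
    simp only [Polynomial.eval_pow, Polynomial.eval_X, Polynomial.eval_sub, Polynomial.eval_C] at hab
    exact ⟨a, b, by linear_combination -hab⟩

/-- an additive subgroup stable under the square of a generator of `Kˣ` is `0` or everything -/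
theorem all_of_sq_stable {K : Type*} [Field K] [Finite K] {k : Kˣ} (hk : ∀ u : Kˣ, u ∈ Subgroup.zpowers k)
    {P : K → Prop} (h0 : P 0) (hadd : ∀ a b, P a → P b → P (a + b)) (hm : ∀ a, P a → P ((k : K) ^ 2 * a))
    {u : K} (hu : u ≠ 0) (hP : P u) (t : K) : P t := by
  have h1 : ∀ (n : ℕ) a, P a → P (((k : K) ^ n) ^ 2 * a) := fun n => by
    induction n with
    | zero => simp
    | succ n ih => intro a ha; have := hm _ (ih a ha); rwa [← mul_assoc, ← mul_pow, ← pow_succ'] at this
  have h2 : ∀ c : K, P (c ^ 2 * u) := fun c => by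
    by_cases hc : c = 0
    · simpa [hc] using h0
    · obtain ⟨n, hn⟩ := (mem_powers_iff_mem_zpowers.2 (hk (Units.mk0 c hc)))
      have e : (k : K) ^ n = c := by simpa using congrArg Units.val hn
      exact e ▸ h1 n u hP
  obtain ⟨a, b, hab⟩ := exists_two_sq (t / u)
  have := hadd _ _ (h2 a) (h2 b)
  rwa [← add_mul, ← hab, div_mul_cancel₀ _ hu] at this

namespace G2

variable {K : Type*} [Field K] {n : ℕ}

/-- the sign in row `i` -/
def sg (K : Type*) [Field K] (n : ℕ) (i : Fin (n + 1)) : K := if i.val = n then (-1) ^ n else 1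

theorem sg_ne (i : Fin (n + 1)) : sg K n i ≠ 0 := by
  unfold sg; split_ifs <;> simp

theorem w_eq {w : Matrix (Fin (n + 1)) (Fin (n + 1)) K} (hw : w =
      Matrix.of (fun i j => if j.val = i.val + 1 then 1 else if i.val = n ∧ j.val = 0 then (-1) ^ n else 0))
    (i j : Fin (n + 1)) : w i j = if j = i + 1 then sg K n i else 0 := by
  have hi := i.2
  have hj := j.2
  rw [hw, Matrix.of_apply, sg]
  simp only [Fin.ext_iff, Fin.val_add_one, Fin.val_last]
  split_ifs <;> first | rfl | omega

theorem w_conj {w : SpecialLinearGroup (Fin (n + 1)) K}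
    (hw : ∀ i j, w.1 i j = if j = i + 1 then sg K n i else 0) {i j : Fin (n + 1)} (h : i ≠ j)
    (h' : i + 1 ≠ j + 1) (t : K) :
    SpecialLinearGroup.transvection h' (t * sg K n j / sg K n i) =
      w⁻¹ * SpecialLinearGroup.transvection h t * w := by
  rw [mul_assoc, eq_inv_mul_iff_mul_eq]
  apply Subtype.ext
  simp only [Matrix.SpecialLinearGroup.coe_mul, transvection_coe, mul_add, add_mul, mul_one, one_mul]
  congr 1
  ext a b
  have := sg_ne (K := K) i
  by_cases hb : b = j + 1
  · subst hb
    rw [mul_single_apply_same, hw]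
    by_cases ha : a = i
    · subst ha
      rw [single_mul_apply_same, hw, if_pos rfl, if_pos rfl]; field_simp
    · rw [single_mul_apply_of_ne _ _ _ _ _ ha, if_neg (fun e => ha (add_right_cancel e).symm), zero_mul]
  · rw [mul_single_apply_of_ne _ _ _ _ _ hb]
    by_cases ha : a = i
    · subst ha
      rw [single_mul_apply_same, hw, if_neg hb, mul_zero]
    · rw [single_mul_apply_of_ne _ _ _ _ _ ha]

theorem top_of {w : SpecialLinearGroup (Fin (n + 1)) K}
    (hw : ∀ i j, w.1 i j = if j = i + 1 then sg K n i else 0) {H : Subgroup (SpecialLinearGroup (Fin (n + 1)) K)}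
    (hH : w ∈ H) (h01 : (0 : Fin (n + 1)) ≠ 1) (hx : ∀ t, SpecialLinearGroup.transvection h01 t ∈ H) : H = ⊤ := by
  let P : Fin (n + 1) → Fin (n + 1) → Prop := fun i j => ∀ (h : i ≠ j) t, SpecialLinearGroup.transvection h t ∈ H
  have s1 : ∀ i j, P i j → P (i + 1) (j + 1) := fun i j hP h t => by
    have h' : i ≠ j := fun e => h (e ▸ rfl)
    have := w_conj hw h' h (t * sg K n i / sg K n j)
    rw [div_mul_cancel₀ _ (sg_ne j), mul_div_cancel_right₀ _ (sg_ne i)] at this
    rw [this]
    exact H.mul_mem (H.mul_mem (H.inv_mem hH) (hP _ _)) hH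
  have s2 : ∀ i, P i (i + 1) := fun i => by
    induction i using Fin.induction with
    | zero => rw [zero_add]; exact fun _ t => hx t
    | succ i ih => rw [← Fin.coeSucc_eq_succ]; exact s1 _ _ ih
  have s3 : ∀ k i, P i (i + k) := fun k i => by
    induction k using Fin.induction with
    | zero => exact fun h => (h (add_zero i).symm).elim
    | succ k ih =>
      rw [← Fin.coeSucc_eq_succ, ← add_assoc]
      by_cases e : i = i + k.castSucc
      · rw [← e]; exact s2 i
      · intro h t
        have h2 : i + k.castSucc ≠ i + k.castSucc + 1 := fun e => h01 (left_eq_add.1 e).symm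
        rw [← mul_one t, ← H10.transvection_commutator e h2 h, commutatorElement_def]
        exact H.mul_mem (H.mul_mem (H.mul_mem (ih _ _) (s2 _ _ _)) (H.inv_mem (ih _ _))) (H.inv_mem (s2 _ _ _))
  refine H10.SL_eq_top_of_transvection_mem H fun i j => ?_
  have := s3 (j - i) i
  rwa [add_sub_cancel] at this

theorem diag_conj {ι : Type*} [Fintype ι] [DecidableEq ι] {D : SpecialLinearGroup ι K} {d : ι → K}
    (hD : D.1 = diagonal d) {i j : ι} (h : i ≠ j) (hj : d j ≠ 0) (t : K) :
    D * SpecialLinearGroup.transvection h t * D⁻¹ = SpecialLinearGroup.transvection h (d i / d j * t) := by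
  rw [mul_inv_eq_iff_eq_mul]
  apply Subtype.ext
  simp only [Matrix.SpecialLinearGroup.coe_mul, transvection_coe, mul_add, add_mul, mul_one, one_mul, hD]
  congr 1
  ext a b
  simp only [diagonal_mul, mul_diagonal, single_apply]
  split_ifs with h1
  · rw [← h1.1, ← h1.2]; field_simp
  · simp

theorem w_diag {w D : SpecialLinearGroup (Fin (n + 1)) K}
    (hw : ∀ i j, w.1 i j = if j = i + 1 then sg K n i else 0) {d : Fin (n + 1) → K} (hD : D.1 = diagonal d) :
    (w * D * w⁻¹).1 = diagonal fun i => d (i + 1) := by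
  have e : (w * D * w⁻¹).1 * w.1 = diagonal (fun i => d (i + 1)) * w.1 := by
    rw [← Matrix.SpecialLinearGroup.coe_mul, inv_mul_cancel_right, Matrix.SpecialLinearGroup.coe_mul, hD]
    ext a b
    simp only [diagonal_mul, mul_diagonal, hw]
    split_ifs with h1
    · rw [h1, mul_comm]
    · simp
  have := congrArg (· * (w⁻¹).1) e
  simpa only [mul_assoc, ← Matrix.SpecialLinearGroup.coe_mul, mul_inv_cancel, Matrix.SpecialLinearGroup.coe_one,
    mul_one] using this

end G2

end Cfsg.Agent.H17
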