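import Mathlib
import Cfsg.Agent.H15.Hn.G
import Cfsg.Agent.H15.Hn.S
import Cfsg.Agent.H27.Schur4
import Cfsg.Agent.S3962
import Cfsg.Agent.S2046

/-! The Schur multiplier of the Harada–Norton group from its presentation. -/

set_option autoImplicit false
set_option maxRecDepth 100000

namespace Cfsg.Agent.H17.HnM

open Cfsg Subgroup
open scoped commutatorElement

section gen
variable {G : Type} [Group G] [Finite G]

omit [Finite G] in
theorem stem_perfect {Γ : Type*} [Group Γ] {τ : Γ →* G} (hτ : IsStemExtension τ) (hG : commutator G = ⊤) :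
    commutator Γ = ⊤ := by
  rw [eq_top_iff]
  intro x _
  have h1 : (commutator Γ).map τ = commutator G := by
    rw [map_commutator_eq, MonoidHom.range_eq_top.2 hτ.1]; rfl
  obtain ⟨y, hy, hxy⟩ : τ x ∈ (commutator Γ).map τ := by rw [h1, hG]; trivial
  have h3 : y⁻¹ * x ∈ τ.ker := by simp [MonoidHom.mem_ker, hxy]
  simpa using mul_mem hy (hτ.2.2 h3)

theorem triv_of_cover {Q : Type} [Group Q] {f : G →* Q} (hf : IsStemExtension f) (hQ : commutator Q = ⊤)
    (h : ∀ (Γ : Type) [Group Γ] [Finite Γ] (σ : Γ →* Q), IsStemExtension σ → Nat.card σ.ker ≤ Nat.card f.ker) :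
    HasCyclicSchurMultiplier G 1 := by
  rw [H27.trivial_mult_iff]
  intro Γ _ _ τ hτ
  have hΓ := stem_perfect hτ (stem_perfect hf hQ)
  have hc := S3962.result (Group.isPerfect_def.2 hΓ) τ hτ.1 hτ.2.1
  have hk : (f.comp τ).ker ≤ center Γ := by
    intro x hx
    have h1 : τ x ∈ center G := hf.2.1 hx
    rw [← hc] at h1
    obtain ⟨y, hy, hxy⟩ := h1
    have h3 : y⁻¹ * x ∈ τ.ker := by simp [MonoidHom.mem_ker, hxy]
    simpa using mul_mem hy (hτ.2.1 h3)
  have h1 := h Γ _ ⟨hf.1.comp hτ.1, hk, hΓ ▸ le_top⟩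
  have h2 := (f.comp τ).ker.card_mul_index
  have h3 := τ.ker.card_mul_index
  have h4 := f.ker.card_mul_index
  rw [index_ker, (MonoidHom.range_eq_top (f := f.comp τ)).2 (hf.1.comp hτ.1), card_top] at h2
  rw [index_ker, MonoidHom.range_eq_top.2 hτ.1, card_top] at h3
  rw [index_ker, MonoidHom.range_eq_top.2 hf.1, card_top] at h4
  have h5 : 0 < Nat.card G := Nat.card_pos
  rw [← card_le_one_iff_eq_bot]
  refine Nat.le_of_mul_le_mul_right ?_ h5
  rw [h3, one_mul, ← h2, ← h4]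
  exact Nat.mul_le_mul_right _ h1

theorem perfect_of_simple [IsSimpleGroup G] (h : ¬ (Nat.card G).Prime) : commutator G = ⊤ := by
  refine (IsSimpleGroup.eq_bot_or_eq_top_of_normal _ inferInstance).resolve_left fun e => ?_
  have h1 := H15.center_eq_bot_of_simple h
  rw [(commutator_eq_bot_iff_center_eq_top G).1 e] at h1
  exact top_ne_bot h1

theorem stem_of_cover {S : Type} [Group S] (h : IsNonsplitDoubleCover G S) (hS : commutator S = ⊤) :
    ∃ f : G →* S, IsStemExtension f ∧ f.ker = center G := by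
  obtain ⟨h1, ⟨e⟩, h3⟩ := h
  have hk : (e.toMonoidHom.comp (QuotientGroup.mk' _)).ker = center G := by
    ext x; simp
  have hs : Function.Surjective (e.toMonoidHom.comp (QuotientGroup.mk' _)) :=
    e.surjective.comp (QuotientGroup.mk'_surjective _)
  refine ⟨_, ⟨hs, hk.le, hk.le.trans ?_⟩, hk⟩
  have := Fact.mk Nat.prime_two
  have : Fact (Nat.card (center G)).Prime := h1 ▸ this
  rcases ((commutator G).subgroupOf (center G)).eq_bot_or_eq_top_of_prime_card with a | a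
  · refine absurd (isComplement'_of_disjoint_and_mul_eq_univ (subgroupOf_eq_bot.1 a).symm ?_) (h3 _)
    have := comap_map_eq (e.toMonoidHom.comp (QuotientGroup.mk' _)) (commutator G)
    rw [map_commutator_eq, MonoidHom.range_eq_top.2 hs, ← commutator_def, hS, comap_top, hk, sup_comm] at this
    rw [← normal_mul, ← this, coe_top]
  · exact subgroupOf_eq_top.1 a

omit [Finite G] in
theorem lift {Γ : Type*} [Group Γ] [Finite Γ] {σ : Γ →* G} (hσ : IsStemExtension σ) {H : Subgroup G}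
    (hH : HasCyclicSchurMultiplier H 1) (hp : commutator H = ⊤) : ∃ K : Subgroup Γ, (∀ h ∈ H, ∃ k ∈ K, σ k = h) ∧
      (∀ k ∈ K, σ k = 1 → k = 1) ∧ ∀ g, σ g ∈ normalizer (H : Set G) → ∀ k ∈ K, g * k * g⁻¹ ∈ K := by
  have h2 := H27.mult_eq_bot_of_trivial hH (ξ := σ.subgroupComap H)
    ⟨σ.subgroupComap_surjective_of_surjective H hσ.1, fun x hx => mem_center_iff.2 fun y => Subtype.ext
      (mem_center_iff.1 (hσ.2.1 (congrArg Subtype.val hx)) y)⟩
  refine ⟨⁅H.comap σ, H.comap σ⁆, fun h hh => ?_, fun k hk e => ?_, fun g hg => ?_⟩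
  · rw [← mem_map, map_commutator, map_comap_eq_self_of_surjective hσ.1, ← map_subtype_commutator, hp]
    exact ⟨⟨h, hh⟩, trivial, rfl⟩
  · rw [← map_subtype_commutator] at hk
    obtain ⟨y, hy, rfl⟩ := hk
    have h3 : y ∈ H27.mult (σ.subgroupComap H) := ⟨Subtype.ext e, hy⟩
    rw [h2, mem_bot] at h3
    rw [h3, map_one]
  · have : (H.comap σ).map (MulAut.conj g).toMonoidHom ≤ H.comap σ := by
      rintro _ ⟨x, hx, rfl⟩
      simpa using (mem_normalizer_iff.1 hg _).1 hx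
    intro k hk
    exact (commutator_mono this this) (map_commutator _ _ (MulAut.conj g).toMonoidHom ▸ mem_map_of_mem _ hk)

end gen

open Cfsg.Agent.H15 Cfsg.Agent.H14 Cfsg.Agent.H15.Hn

noncomputable abbrev K : Subgroup Γ := cl AK.e AK.L

theorem cΓ : Nat.card Γ = 177408000 :=
  (Nat.card_congr (MonoidHom.ofInjective Hn.fin.2.2.2.2.1).toEquiv).trans Hn.fin.2.2.2.1

theorem ix : K.index = 2 := by
  have := K.card_mul_index
  rw [hs.2, cΓ] at this
  omega

instance nK : K.Normal := normal_of_index_eq_two ix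

theorem xy : A.e 0 ∈ K ∧ A.e 2 ∈ K := by
  have a := sΓ.hB (pB[3]'(by decide)) (List.getElem_mem _) ▸ K.one_mem
  have b := sΓ.hB (pB[9]'(by decide)) (List.getElem_mem _) ▸ K.one_mem
  have h1 : A.e 1 = (A.e 0)⁻¹ := sΓ.hi 0
  have h3 : A.e 3 = (A.e 2)⁻¹ := sΓ.hi 2
  simp only [pB, List.getElem_cons_succ, List.getElem_cons_zero, pow_succ, pow_zero, lprod_cons, lprod_nil,
    mul_mem_iff_of_index_two ix, h1, h3, inv_mem_iff, one_mem] at a b
  generalize (A.e 0 ∈ K) = p, (A.e 2 ∈ K) = q, (A.e 4 ∈ K) = r at a b ⊢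
  by_cases c : p <;> by_cases d : q <;> by_cases e : r <;> simp [c, d, e] at a b ⊢

theorem pS : commutator Spor.HS = ⊤ :=
  have := H25.Leech.simple_HS
  have : Finite Spor.HS := Nat.finite_of_card_ne_zero (by rw [H25.HSM.hcard]; norm_num)
  perfect_of_simple (by rw [H25.HSM.hcard]; norm_num)

theorem pK : commutator K = ⊤ :=
  let ⟨_, h, _⟩ := stem_of_cover hs.1 pS
  stem_perfect h pS

theorem mK : HasCyclicSchurMultiplier K 1 := by
  obtain ⟨f, h1, h2⟩ := stem_of_cover hs.1 pS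
  refine triv_of_cover h1 pS fun Γ _ _ σ hσ => ?_
  obtain ⟨π, hπ⟩ := H27.schur_onto_ker S2046.result hσ
  rw [h2, hs.1.1]
  simpa using Nat.card_le_card_of_surjective π hπ

theorem rel {H : Type*} [Group H] {Z : Subgroup H} (hZ : Z ≤ center H) {x t a b : H} (ha : a ∈ Z) (hb : b ∈ Z)
    (h1 : t ^ 5 = a) (h2 : x⁻¹ * t * x * t * t = b) :
    ∃ u ∈ Z, (t * u) ^ 5 = 1 ∧ x⁻¹ * (t * u) * x * (t * u) * (t * u) = 1 := by
  have c : ∀ {u}, u ∈ Z → ∀ g, Commute g u := fun h g => mem_center_iff.1 (hZ h) g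
  have e : x⁻¹ * t * x = (t⁻¹) ^ 2 * b := by rw [(c hb _).eq, ← h2]; group
  have e2 : b ^ 5 = a ^ 3 := by
    have : (x⁻¹ * t * x) ^ 5 = a := by
      calc _ = x⁻¹ * t ^ 5 * x := by simp [pow_succ, mul_assoc]
        _ = a := by rw [h1, (c ha _).eq]; group
    rw [e, (c hb _).mul_pow, ← pow_mul, mul_comm 2, pow_mul, inv_pow, h1] at this
    rw [eq_inv_mul_of_mul_eq this]; group
  have hu := mul_mem ha (pow_mem (inv_mem hb) 2)
  have f : ∀ n, (a * b⁻¹ ^ 2) ^ n = a ^ n * (b⁻¹ ^ 2) ^ n := (c (pow_mem (inv_mem hb) 2) _).mul_pow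
  refine ⟨_, hu, ?_, ?_⟩
  · rw [(c hu _).mul_pow, f, h1, ← pow_mul, mul_comm 2, pow_mul, inv_pow, e2]; group
  · have : ∀ u ∈ Z, x⁻¹ * (t * u) * x * (t * u) * (t * u) = x⁻¹ * t * x * t * t * u ^ 3 := fun u h => by
      simp only [pow_succ, pow_zero, one_mul, mul_assoc, (c h t).symm.left_comm, (c h x).symm.left_comm]
    rw [this _ hu, h2, f, ← (c hb _).eq, ← e2]; group

theorem cm {H : Type*} [Group H] {a b c d : H} (h1 : Commute c b) (h2 : Commute c d) (h3 : Commute d a) :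
    ⁅a * c, b * d⁆ = ⁅a, b⁆ := by
  calc _ = a * (c * (b * d) * c⁻¹) * a⁻¹ * d⁻¹ * b⁻¹ := by simp [commutatorElement_def, mul_assoc]
    _ = a * b * (d * a⁻¹ * d⁻¹) * b⁻¹ := by rw [(h1.mul_right h2).mul_inv_cancel]; simp [mul_assoc]
    _ = _ := by rw [h3.inv_right.mul_inv_cancel, commutatorElement_def]

theorem rel2 {H : Type*} [Group H] {Z : Subgroup H} (hZ : Z ≤ center H) {j z t a b : H} (ha : a ∈ Z) (hb : b ∈ Z)
    (h1 : z * z = a) (h2 : (z * t) ^ 3 = b) (h3 : j * z * j⁻¹ = z) (h4 : j * t * j⁻¹ = t⁻¹) :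
    ∃ u ∈ Z, z * u * (z * u) = 1 ∧ (z * u * t) ^ 3 = 1 := by
  have c : ∀ {u}, u ∈ Z → ∀ g, Commute g u := fun h g => mem_center_iff.1 (hZ h) g
  have e : (z * t⁻¹) ^ 3 = b := by
    rw [← h4, ← h3]
    calc _ = j * (z * t) ^ 3 * j⁻¹ := by simp [pow_succ, mul_assoc]
      _ = b := by rw [h2, (c hb _).eq]; group
  have e2 : b ^ 2 = a ^ 3 := by
    have e3 : (t⁻¹ * z) ^ 3 = b := by
      calc _ = z⁻¹ * (z * t⁻¹) ^ 3 * z := by simp [pow_succ, mul_assoc]
        _ = b := by rw [e, (c hb _).eq]; group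
    have e4 : t⁻¹ * z = (z * t)⁻¹ * a := by rw [← h1]; group
    rw [e4, (c ha _).mul_pow, inv_pow, h2] at e3
    rw [eq_mul_of_inv_mul_eq e3, pow_two]
  have hu := mul_mem (inv_mem hb) ha
  refine ⟨_, hu, ?_, ?_⟩
  · rw [mul_assoc, (c hu z).symm.left_comm, ← mul_assoc, h1, ← pow_two, (c ha _).mul_pow, inv_pow, e2]; group
  · rw [mul_assoc, ← (c hu t).eq, ← mul_assoc, (c hu _).mul_pow, h2, (c ha _).mul_pow, ← e2]; group

theorem main : HasCyclicSchurMultiplier Hn.G 1 := by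
  rw [H27.trivial_mult_iff]
  intro Δ _ _ σ hσ
  have u := K.equivMapOfInjective φ Hn.fin.2.2.2.2.1
  obtain ⟨L, l1, l2, l3⟩ := lift hσ (H27.hasSchurMultiplier_of_mulEquiv mK u) (by
    rw [commutator_def, ← (MonoidHom.range_eq_top (f := u.toMonoidHom)).2 u.surjective,
      ← map_commutator_eq, pK, ← MonoidHom.range_eq_map])
  have c : ∀ {u}, σ u = 1 → u ∈ center Δ := fun h => hσ.2.1 h
  obtain ⟨x, hx, ex⟩ := l1 (E 0) ⟨_, xy.1, rfl⟩
  obtain ⟨y, hy, ey⟩ := l1 (E 2) ⟨_, xy.2, rfl⟩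
  obtain ⟨z, ez⟩ := hσ.1 (E 4)
  obtain ⟨t, et⟩ := hσ.1 (E 6)
  have r := fun i (h : i < BF.length) => sat.hB BF[i] (List.getElem_mem h)
  have r0 := r 0 (by decide)
  have r6 := r 6 (by decide)
  have r10 := r 10 (by decide)
  have r11 := r 11 (by decide)
  have r12 := r 12 (by decide)
  have r13 := r 13 (by decide)
  have r14 := congrArg φ (base.eq (u := [1, 1, 4, 0, 0, 5]) (v := []) (by decide +kernel))
  have h1 : E 1 = (E 0)⁻¹ := hi 0
  have h3 : E 3 = (E 2)⁻¹ := hi 2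
  have h5 : E 5 = (E 4)⁻¹ := hi 4
  have h7 : E 7 = (E 6)⁻¹ := hi 6
  simp only [BF, List.getElem_cons_succ, List.getElem_cons_zero, pow_one, lprod_cons, lprod_nil, mul_one, map_mul, hφ,
    cut, Nat.reduceLT, if_true, map_one, h1, h3, h5, h7] at r0 r6 r10 r11 r12 r13 r14
  have nz : ∀ z, σ z = E 4 → ∀ k ∈ L, z * k * z⁻¹ ∈ L := fun z h => l3 z (h ▸ le_normalizer_map φ
    ⟨A.e 4, (normalizer_eq_top K).ge trivial, rfl⟩)
  obtain ⟨a, ha, t5, tx⟩ := rel hσ.2.1 (x := x) (t := t) (show σ _ = 1 by simp [pow_succ, mul_assoc, et, r10])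
    (show σ _ = 1 by simp [mul_assoc, et, ex, r11]) rfl rfl
  replace et : σ (t * a) = E 6 := by rw [map_mul, et, show σ a = 1 from ha, mul_one]
  generalize t * a = t at et t5 tx
  have tx' : x⁻¹ * t * x = t⁻¹ * t⁻¹ := by rw [← mul_inv_rev, eq_inv_iff_mul_eq_one, ← mul_assoc, tx]
  obtain ⟨b, hb, z2, zt⟩ := rel2 hσ.2.1 (j := x⁻¹ * x⁻¹) (z := z) (t := t) (show σ _ = 1 by simp [ez, r6])
    (show σ _ = 1 by simp [pow_succ, mul_assoc, et, ez, r13]) rfl rfl (mul_inv_eq_one.1 (l2 _ (by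
      have := mul_mem (mul_mem (inv_mem hx) (inv_mem hx)) (nz z ez _ (mul_mem hx hx))
      simpa [mul_assoc] using this) (by simp [mul_assoc, ez, ex, r14]))) (by
      calc _ = x⁻¹ * (x⁻¹ * t * x) * x := by simp [mul_assoc]
        _ = x⁻¹ * (t⁻¹ * t⁻¹) * x := by rw [tx']
        _ = (x⁻¹ * t * x)⁻¹ * (x⁻¹ * t * x)⁻¹ := by simp [mul_assoc]
        _ = t ^ 5 * t⁻¹ := by rw [tx']; group
        _ = _ := by rw [t5, one_mul])
  replace ez : σ (z * b) = E 4 := by rw [map_mul, ez, show σ b = 1 from hb, mul_one]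
  generalize z * b = z at ez z2 zt
  have ty : t⁻¹ * (y⁻¹ * (t * y)) = 1 := by
    have y6 : y ^ 6 = 1 := l2 _ (pow_mem hy _) (by simp [pow_succ, mul_assoc, ey, r0])
    generalize e : t⁻¹ * (y⁻¹ * (t * y)) = d
    have hd : ∀ g, Commute g d := mem_center_iff.1 (c (by simp [← e, et, ey, r12]))
    have e1 : (t * d) ^ 5 = 1 := by
      calc _ = (y⁻¹ * t * y) ^ 5 := by rw [← e]; group
        _ = y⁻¹ * t ^ 5 * y := by simp [pow_succ, mul_assoc]
        _ = 1 := by rw [t5]; group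
    have e2 : (d * y⁻¹) ^ 6 = 1 := by
      calc _ = (t⁻¹ * y⁻¹ * t) ^ 6 := by rw [← e]; group
        _ = t⁻¹ * (y ^ 6)⁻¹ * t := by simp [pow_succ, mul_assoc]
        _ = 1 := by rw [y6]; group
    rw [(hd t).mul_pow, t5, one_mul] at e1
    rwa [(hd _).symm.mul_pow, inv_pow, y6, inv_one, mul_one, pow_succ, e1, one_mul] at e2
  let e : ℕ → Δ := fun l => [x, x⁻¹, y, y⁻¹, z, z⁻¹, t, t⁻¹].getD l 1
  have he : ∀ l < 8, σ (cut 8 e l) = E l := fun l hl => by
    rw [cut_lt hl]; interval_cases l <;> simp [e, *]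
  have par : ∀ w, okW 6 w = true → lprod (cut 8 e) w * z ^ w.countP (4 ≤ ·) ∈ L := fun w hw => by
    rw [okW_iff] at hw
    induction w with
    | nil => simpa using L.one_mem
    | cons a w ih =>
      have h := ih fun b hb => hw b (by simp [hb])
      have h' := nz z ez _ h
      have z1 := inv_eq_of_mul_eq_one_right z2
      have := hw a (by simp)
      rw [lprod_cons, cut_lt (by omega), mul_assoc]
      interval_cases a
      exacts [mul_mem hx h, mul_mem (inv_mem hx) h, mul_mem hy h, mul_mem (inv_mem hy) h,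
        by simpa [e, z1, pow_succ, mul_assoc] using h', by simpa [e, z1, pow_succ, mul_assoc] using h']
  obtain ⟨s, hs⟩ := hom (e := e) ⟨fun l => by
    by_cases h : l < 8
    · interval_cases l <;> first | rfl | exact (inv_inv _).symm
    · rw [invT_of_le (not_lt.1 h), cut_ge (not_lt.1 h), inv_one], fun p hp => by
    rcases (by decide +kernel : ∀ p ∈ BF, p.2 = 1 ∧ (okW 6 p.1 = true ∧ p.1.countP (4 ≤ ·) % 2 = 0 ∨ p ∈ BF.drop 10)) p hp
      with ⟨h0, ⟨h, h'⟩ | h⟩
    · have := par _ h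
      rw [← Nat.div_add_mod (List.countP _ _) 2, h', add_zero, pow_mul, pow_two, z2, one_pow, mul_one] at this
      have e := sat.hB p hp
      rw [h0, pow_one] at e ⊢
      refine l2 _ this ?_
      rw [map_lprod, lprod_congr fun a ha => he a ((okW_iff.1 h a ha).trans (by decide)), e]
    · simp only [BF, List.drop, List.mem_cons, List.not_mem_nil, or_false] at h
      rcases h with rfl | rfl | rfl | rfl
      · simpa [cut, e, pow_succ, mul_assoc] using t5
      · simpa [cut, e, mul_assoc] using tx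
      · simpa [cut, e] using ty
      · simpa [cut, e, pow_succ, mul_assoc] using zt⟩
  have hs' : ∀ g, σ (s g) = g := fun g => (Hn.top.ge.trans (cl_le.2 fun l hl => (congrArg σ (hs l)).trans (he l hl) :
    _ ≤ (σ.comp s).eqLocus (MonoidHom.id _))) (mem_top g)
  refine eq_bot_iff.2 fun g hg => ?_
  have : commutator Δ ≤ s.range := commutator_le.2 fun a _ b _ => ⟨⁅σ a, σ b⁆, by
    have ca := mem_center_iff.1 (c (u := (s (σ a))⁻¹ * a) (by simp [hs']))
    have cb := mem_center_iff.1 (c (u := (s (σ b))⁻¹ * b) (by simp [hs']))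
    rw [map_commutatorElement, ← cm (ca _).symm (ca _).symm (cb _).symm, mul_inv_cancel_left, mul_inv_cancel_left]⟩
  obtain ⟨k, rfl⟩ := this (hσ.2.2 hg)
  rw [← hs' k, show σ (s k) = 1 from hg, map_one]
  exact one_mem _

end Cfsg.Agent.H17.HnM
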