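import Mathlib
import Cfsg.Agent.H17.HnM
import Cfsg.Agent.H15.Loc
import Cfsg.Agent.S2072

/-! The outer automorphism group of the Harada–Norton group. -/

set_option autoImplicit false
set_option maxRecDepth 100000

namespace Cfsg.Agent.H17.HnO

open Cfsg Subgroup MulAction
open scoped commutatorElement

theorem card_aut {K S : Type} [Group K] [Finite K] [Group S] (hp : commutator K = ⊤) (e : K ⧸ center K ≃* S) :
    Nat.card (MulAut K) ≤ Nat.card (Out S) * Nat.card S := by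
  have : Finite S := Finite.of_equiv _ e.toEquiv
  refine (Nat.card_le_card_of_injective (fun b : MulAut K => MulAut.congr e (QuotientGroup.congr _ _ b
    (characteristic_iff_map_eq.1 inferInstance b))) fun b c h => ?_).trans ?_
  · have h1 : ∀ k, (b k)⁻¹ * c k ∈ center K := fun k =>
      QuotientGroup.eq.1 (DFunLike.congr_fun ((MulAut.congr e).injective h) (k : K ⧸ center K))
    have : commutator K ≤ b.toMonoidHom.eqLocus c.toMonoidHom := commutator_le.2 fun x _ y _ => by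
      show b _ = c _
      rw [map_commutatorElement, map_commutatorElement, ← HnM.cm (mem_center_iff.1 (h1 x) _).symm
        (mem_center_iff.1 (h1 x) _).symm (mem_center_iff.1 (h1 y) _).symm, mul_inv_cancel_left, mul_inv_cancel_left]
    exact MulEquiv.ext fun k => this (hp ▸ mem_top k)
  · rw [card_eq_card_quotient_mul_card_subgroup (Inn S)]
    exact Nat.mul_le_mul_left _ (Nat.card_le_card_of_surjective _ (MonoidHom.rangeRestrict_surjective _))

open Cfsg.Agent.H15 Cfsg.Agent.H14 Cfsg.Agent.H15.Hn Cfsg.Agent.H17.HnM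

def col (y : ℕ) : ℕ := H14.get 4 (nat_lit 0x888899aa88aaaaa99888aaaa99aaaaaaaaa88a8899a99a89988aaa99a99a989a9aaaa8899888889988a8a9998999a888899aaaaaaaa889aaaa88aaaa88a99aa9a98999899999aa8aaaa88a88a89999999988888899a9a98a8a9989998aaa8aaaaaaa998889999988aaa8a89999a9a8a8a88988998a9a9aa9a988aaaaaaaa99aa8a99aaaaaaaaaaaa99aa99aaaa99aa88aaa8a8988388798883888765aaa8aa9aaaa99a998aa98888888889986599989888aaaa8aa8999aaaa9aaaa889aaaaa88aaaa9aaaaaaaa99a98999999937378aaa99a998659aaaa998aaaa9aaaaa8a8a8a899aaaaaaaa99a9a9aa88aaaaaaa99a99aaaa88a99a9989559668955966aaa88aaa99a99a8899999999999379378a865aa99a998aaaaaa8aaaaaa8aaaaaaa99aaaa8aaaaaaaa88a89888888865659aaaaa88a889738aaaa889aaaaaa8aaaaa9a9a9a988aaaaaaaa88a8a8aa99aaaaaaa88a88a99a99aa99a88a88983387798338776aaa8a8a99aaa88a8888a9988888888888658659aa973aaa88a889aaaaaaa9aaaaa3aa9aaaaaaa8a8aaaa99aaaaa8a9989559663aa99765aaaa9aaaaaa88a8a8a7a8a3a899aa7aaa88a88aa8888888568563a8887a99888569559663aaa7a9956aaaaa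8aaa88a8aaaaaaaa9a9aaaa88aaaaaa9a8898338776aa88573aaaaa8aaaaaa99a9a9a5a9a6a988aa5aaaa99a99a99a999999999379376a889995a8888999378338776aaa5a8837a8a8aaaa9aaaaa9a9a99aaa88a8a8a988a88888856388997a88aaa988a88a88a988a88998778338898788983563899789999a868868a8888aaa99a9a9a899a99999937699885a99aaa899a99a99a899a99889559669989599896376988598888a939939a9999a98879987838879a9889997387783389898888887a89958895969958a899888569559669898999999699973889995738783878788856998883569596969695739573778356835666557336543210) y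
def lt (y : ℕ) : ℕ := H14.get 3 (nat_lit 0x2080526e48402e321b2244e44e492490c81489491c4a272289484244489b41972280c40a4da2848dc9134e44934d36d249391a9246534a49080a44934c891b4a289a4e47248988c14a405340c8a42238c145871449c22488901a69b41191b9018d34d34d48e49126d34d34db4d24938dc6d489489269a4134a490148a9124d260a06471a50891488169b6934a46d10db40c7136d289c48152284111289c4e02db49449b4d90a38da69b46304406489391391380c05291380c0544e26e27130e265c8e27140642d40e11088e10e271389371469c4db6902db4447136d289c4885228083134e27138436d25126d24d82a38da69b62220c22291391391384421b6929138442144e26e271345c51c50389c8d389912072168180c4e029c4e27126e351a7144e222271c6a280b91c50151389a90152252464271b8a272272205489c4e26d272270180c81c9012e031389b9238083229147139102c271c6a284391c8a10a27135210a451211829c6e289c89c8885244e271380c0539138442244cb92109870889c4dc91c2088a34e45227147134e111451110851406240c84271111b8dc64421389c4db91372205b4e30538a37146944e031451030151422244480a71031b8dc60c05389c4db9137222234db2138a37146948888dc5125146425088dc6dc71389c51031b8a24a28c14a031b8db8e271389384489c44451451a7019138818a28a38888c84e20630534e2720808)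 y
noncomputable def bw' (n : ℕ) : ℕ → List ℕ := Nat.rec (motive := fun _ => ℕ → List ℕ) (fun _ => [])
  (fun _ ih y => Bool.rec (lt y :: Nat.rec (motive := fun _ => List ℕ) [] (fun m _ => ih m) (Nat.add (ap y (lt y)) 1)) []
    (Nat.beq y 0)) n
noncomputable def bw (y : ℕ) : List ℕ := bw' 11 y
def wp : List ℕ := [4, 2, 4, 2, 2, 2, 0, 2]
def N : List ℕ := [1, 2, 3, 4, 5, 6, 7, 8, 9, 10, 0]
noncomputable def ne (a b : ℕ) : Bool := !Nat.beq (col a) (col b)

theorem kb : allLt 1408 (fun y => okW 6 (bw y) && Nat.beq (tr ap (bw y) y) 0) = true := by decide +kernel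
theorem kc : allL ks (fun w => okW 6 w && allLt 1408 fun y => Nat.beq (col (tr ap w y)) (col y)) = true := by
  decide +kernel
theorem ki : allLt 1408 (fun y => Nat.beq y 0 || Nat.beq y 4 || anyL N fun k =>
    ne (tr ap (repL wp k) y) (tr ap (bw y) (tr ap (repL wp k) 0)) ||
    ne (tr ap (repL wp k) 0) (tr ap (bw y) (tr ap (repL wp k) y))) = true := by decide +kernel
theorem kv : allL bs (fun b => allLt 1408 fun q => Nat.beq q b || anyL (0 :: N) fun k =>
    ne (tr ap (repL wp k) b) (tr ap (repL wp k) q)) = true := by decide +kernel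
theorem kz : allLt 1408 (fun y => Nat.beq y 0 || Nat.beq y 4 || anyL [[2], [1, 2, 0], [0, 0, 4]] fun h =>
    ne (tr ap h 0) (tr ap (bw y) (tr ap h y))) = true := by decide +kernel
theorem kf : allLt 1408 (fun y => !fixAt ap ks y || anyLt 4 fun i => Nat.beq (tr ap (repL [1] i) 0) y) = true := by
  decide +kernel

theorem colU {u : Γ} (hu : u ∈ stabilizer Γ (A.c 0)) : ∀ a < 1408, ∀ b < 1408, A.c b = u • A.c a → col a = col b := by
  have h := hK hu
  clear hu
  induction h using closure_induction with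
  | mem u h =>
    obtain ⟨w, hw, rfl⟩ := h
    obtain ⟨h1, h2⟩ := Bool.and_eq_true_iff.1 (allL_iff.1 kc w hw)
    intro a ha b hb e
    obtain ⟨c, d⟩ := A.tr_spec h1 hb
    rw [e, inv_smul_smul] at d
    rw [A.inj _ ha _ c d]
    exact nbeq_iff.1 (allLt_iff.1 h2 b hb)
  | one => exact fun a ha b hb e => congrArg col (A.inj _ ha _ hb (by rw [e, one_smul]))
  | mul u v _ _ h1 h2 =>
    intro a ha b hb e
    obtain ⟨m, hm, e'⟩ : ∃ x < A.n, A.c x = v • A.c a := pok.full _
    exact (h2 a ha m hm e').trans (h1 m hm b hb (by rw [e, e', mul_smul]))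
  | inv u _ h => exact fun a ha b hb e => (h b hb a ha (by rw [e, smul_inv_smul])).symm

theorem tst {g : Γ} {y a b : ℕ} (hy : y < 1408) (e : A.c y = g • A.c 0) (ha : a < 1408) (hb : b < 1408)
    (e' : A.c b = g • A.c a) : ne a (tr ap (bw y) b) = false := by
  obtain ⟨h1, h2⟩ := Bool.and_eq_true_iff.1 (allLt_iff.1 kb y hy)
  have h3 := (A.tr_spec h1 hy).2
  obtain ⟨c, d⟩ := A.tr_spec h1 hb
  rw [show tr A.ap (bw y) y = 0 from nbeq_iff.1 h2, e, ← mul_smul] at h3
  rw [e', ← mul_smul] at d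
  rw [ne, colU h3 a ha _ c d.symm]
  exact congrArg (!·) (Nat.beq_refl _)

theorem cmv {g : Γ} {h : List ℕ} (hh : okW 6 h = true) (c : Commute g (lprod A.e h)) {a b : ℕ} (ha : a < 1408)
    (hb : b < 1408) (e : A.c b = g • A.c a) :
    tr ap h a < 1408 ∧ tr ap h b < 1408 ∧ A.c (tr ap h b) = g • A.c (tr ap h a) :=
  ⟨(A.tr_spec hh ha).1, (A.tr_spec hh hb).1, (A.tr_spec hh hb).2.symm.trans (by
    rw [e, ← mul_smul, ← c.inv_right.eq, mul_smul, (A.tr_spec hh ha).2]; rfl)⟩

noncomputable def p : Γ := lprod A.e wp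
noncomputable def j : Γ := lprod A.e [0, 0]

theorem okp : ∀ k ∈ 0 :: N, okW 6 (repL wp k) = true := by decide +kernel

theorem jj : j * j = 1 := (lprod_append _ _ _).symm.trans (base.eq (v := []) (by decide +kernel))

theorem jc (g : Γ) : Commute g j := mem_centralizer_singleton_iff.1 ((topΓ.ge.trans (cl_le.2 fun l hl => by
  have := base.eq (allLt_iff.1 (show allLt 6 (fun l => eqOn A.ap A.L bs [l, 0, 0] [0, 0, l]) = true by
    decide +kernel) l hl)
  exact mem_centralizer_singleton_iff.2 (by simpa [j, mul_assoc] using this)) : ⊤ ≤ centralizer {j}) (mem_top g))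

theorem fix0 {g : Γ} (c : Commute g p) (h : g • A.c 0 = A.c 0) : g = 1 := base.eq_one fun b hb => by
  obtain ⟨q, hq, e⟩ : ∃ x < A.n, A.c x = g • A.c b := pok.full _
  have := allLt_iff.1 (allL_iff.1 kv b hb) q hq
  rw [Bool.or_eq_true, nbeq_iff, anyL_iff] at this
  rcases this with rfl | ⟨k, hk, h'⟩
  · exact e.symm
  · obtain ⟨a1, a2, a3⟩ := cmv (okp k hk) (by rw [lprod_repL]; exact c.pow_right k) (base.1 b hb) hq e
    simp [ne, colU h _ a1 _ a2 a3] at h'

theorem fin4 {g : Γ} (c : Commute g p) {y : ℕ} (e : A.c y = g • A.c 0) (h : y = 0 ∨ y = 4) : g = 1 ∨ g = j := by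
  rcases h with rfl | rfl
  · exact Or.inl (fix0 c e.symm)
  · have := (A.tr_spec (w := [0, 0]) (by decide) (x := 4) (by decide)).2
    rw [e, ← mul_smul, show tr A.ap [0, 0] 4 = 0 by decide +kernel] at this
    exact Or.inr (inv_mul_eq_one.1 (fix0 ((jc p).symm.inv_left.mul_left c) this)).symm

theorem invo {g : Γ} (c : Commute g p) (h : g * g = 1) : g = 1 ∨ g = j := by
  obtain ⟨y, hy, e⟩ : ∃ x < A.n, A.c x = g • A.c 0 := pok.full _
  have := allLt_iff.1 ki y hy
  simp only [Bool.or_eq_true, nbeq_iff, anyL_iff] at this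
  refine fin4 c e (this.resolve_right ?_)
  rintro ⟨k, hk, h'⟩
  have c' : Commute g (lprod A.e (repL wp k)) := by rw [lprod_repL]; exact c.pow_right k
  obtain ⟨a1, a2, a3⟩ := cmv (okp k (List.mem_cons_of_mem _ hk)) c' (a := 0) (by decide) hy e
  obtain ⟨-, -, a4⟩ := cmv (okp k (List.mem_cons_of_mem _ hk)) c' hy (b := 0) (by decide)
    (by rw [e, ← mul_smul, h, one_smul])
  simp [tst hy e a1 a2 a3, tst hy e a2 a1 a4] at h'

theorem p11 : p ^ 11 = 1 := base.pow (by decide +kernel)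

theorem pK : p ∈ K := by
  have := K.sq_mem_of_index_two ix (p ^ 6)
  rwa [← pow_mul, show 6 * 2 = 11 + 1 from rfl, pow_succ, p11, one_mul] at this

theorem cK {g : Γ} (h : ∀ k ∈ K, Commute g k) : g = 1 ∨ g = j := by
  by_cases c : g ∈ K
  · have : (⟨⟨g, c⟩, mem_center_iff.2 fun k => Subtype.ext (h k k.2).symm⟩ : center K) ^ 2 = 1 := by
      rw [← hs.1.1]; exact pow_card_eq_one'
    exact invo (h p pK) (by simpa [pow_two, Subtype.ext_iff] using this)
  have h' : ∀ k, Commute g k := fun k => by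
    by_cases d : k ∈ K
    · exact h k d
    · have := (Commute.refl g).inv_right.mul_right (h (g * k) ((mul_mem_iff_of_index_two ix).2 (by simp [c, d])))
      rwa [inv_mul_cancel_left] at this
  obtain ⟨y, hy, e⟩ : ∃ x < A.n, A.c x = g • A.c 0 := pok.full _
  have := allLt_iff.1 kz y hy
  simp only [Bool.or_eq_true, nbeq_iff, anyL_iff] at this
  refine fin4 (h' _) e (this.resolve_right ?_)
  rintro ⟨w, hw, h1⟩
  obtain ⟨a1, a2, a3⟩ := cmv (allL_iff.1 (by decide : okS 6 [[2], [1, 2, 0], [0, 0, 4]] = true) w hw) (h' _) (a := 0)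
    (by decide) hy e
  simp [tst hy e a1 a2 a3] at h1

theorem autK (b : MulAut K) : ∃ h : Γ, MulAut.conjNormal h = b := by
  have h1 := card_aut HnM.pK hs.1.2.1.some
  rw [S2072.result, H25.HSM.hcard] at h1
  have h2 := (MulAut.conjNormal : Γ →* MulAut K).ker.card_mul_index
  have h3 : Nat.card (MulAut.conjNormal : Γ →* MulAut K).ker ≤ 2 := by
    refine (card_le_of_le (K := zpowers j) fun g hg => ?_).trans (by
      rw [Nat.card_zpowers]; exact orderOf_le_of_pow_eq_one two_pos ((pow_two j).trans jj))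
    rcases cK (g := g) fun k hk => mul_inv_eq_iff_eq_mul.1
      (congrArg Subtype.val (DFunLike.congr_fun (hg : MulAut.conjNormal g = 1) ⟨k, hk⟩) :) with rfl | rfl
    exacts [one_mem _, mem_zpowers _]
  rw [index_ker, HnM.cΓ] at h2
  have : (MulAut.conjNormal : Γ →* MulAut K).range = ⊤ := eq_top_of_le_card _ (by nlinarith)
  exact this.ge (mem_top b)

def ws : List (List ℕ) := [[0], [1], [2], [3], [4, 0, 0], [1, 1, 5], [7, 7], [6, 6]]
theorem kα : satChk MM.ap MM.L MM.bs ws [[]] fT BF = true := by decide +kernel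

theorem φi : Function.Injective φ := Hn.fin.2.2.2.2.1

theorem j1 : j ≠ 1 := A.ne_of_neAt (x := 0) (v := []) (by decide +kernel)

theorem cJ : centralizer {φ j} = φ.range := by
  have := Hn.simple
  have h : φ.range ≤ centralizer {φ j} := by
    rintro _ ⟨g, rfl⟩
    exact mem_centralizer_singleton_iff.2 ((jc g).map φ)
  refine (h.eq_or_lt.resolve_right fun e => j1 (φi ?_)).symm
  have h1 := center_eq_bot_of_simple (G := Hn.G) (by rw [Hn.fin.2.1]; norm_num)
  rw [map_one, ← mem_bot, ← h1, mem_center_iff]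
  exact fun g => mem_centralizer_singleton_iff.1 ((Hn.fin.2.2.2.2.2.1.2 _ e).ge (mem_top g))

theorem exa (d : DL) (hd : d ∈ ds) : d.b ≤ (orbit φ.range (dh.p d.i)).ncard :=
  cov.1.exact' (by
    rw [List.map_map]
    exact (by decide +kernel : (ds.map (·.b)).sum = 1539000).le.trans Hn.fin.2.2.1.ge) (List.mem_map_of_mem hd)

theorem orb (T : Subgroup Γ) (w : Hn.G ⧸ φ.range) (h : ∀ u ∈ T, φ u • w = w) :
    ∃ d ∈ ds, w ∈ orbit φ.range (dh.p d.i) ∧ d.b * Nat.card T ∣ 177408000 := by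
  obtain ⟨_, hq, hw⟩ := cov.1.2 w
  obtain ⟨d, hd, rfl⟩ := List.mem_map.1 hq
  refine ⟨d, hd, hw, ?_⟩
  rw [← HnM.cΓ, ← ((stabilizer Hn.G w).comap φ).index_mul_card, index_comap, relIndex_stabilizer]
  exact mul_dvd_mul ((congrArg Set.ncard (orbit_eq_iff.2 hw)).trans
    (le_antisymm (cov.1.1 _ hq).2 (exa d hd))).symm.dvd (card_dvd_of_le h)

theorem orb0 {g : Hn.G} (h : (g : Hn.G ⧸ φ.range) ∈ orbit φ.range (dh.p 0)) : g ∈ φ.range := by
  obtain ⟨k, e⟩ := h
  have e : ((k * 1 : Hn.G) : Hn.G ⧸ φ.range) = g := e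
  simpa using mul_mem k.2 (QuotientGroup.eq.1 e)

theorem op : orderOf p = 11 :=
  have := Fact.mk (by norm_num : Nat.Prime 11)
  orderOf_eq_prime p11 (A.ne_of_neAt (x := 0) (v := []) (by decide +kernel))

theorem cP {g : Hn.G} (h : Commute g (φ p)) : g ∈ φ.range := by
  obtain ⟨d, hd, h1, h2⟩ := orb (zpowers p) g (by
    rintro _ ⟨k, rfl⟩
    refine QuotientGroup.eq.2 ⟨(p ^ k)⁻¹, ?_⟩
    show _ = (φ (p ^ k) * g)⁻¹ * g
    rw [map_inv, map_zpow, ← (h.zpow_right k).eq, mul_inv_rev, inv_mul_cancel_right])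
  rw [Nat.card_zpowers, op] at h2
  rw [(by decide +kernel : ∀ d ∈ ds, d.b * 11 ∣ 177408000 → d.i = 0) d hd h2] at h1
  exact orb0 h1

theorem frat (β : MulAut Hn.G) : ∃ g : Hn.G, (MulAut.conj g * β) (φ j) = φ j := by
  have o : Nat.card (zpowers (φ p)) = 11 := by rw [Nat.card_zpowers, orderOf_injective φ φi, op]
  obtain ⟨g, hg⟩ := sylow_conj1 (p := 11) (by norm_num) Hn.fin.2.1 (by norm_num) (zpowers (β (φ p))) _
    (by rw [Nat.card_zpowers, MulEquiv.orderOf_eq, ← Nat.card_zpowers, o]) o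
  refine ⟨g, ?_⟩
  obtain ⟨_, ⟨k, rfl⟩, e⟩ := hg.ge (mem_zpowers _)
  have e : (MulAut.conj g * β) (φ (p ^ k)) = φ p := by simpa using e
  generalize MulAut.conj g * β = β at e ⊢
  have c : Commute (β (φ j)) (φ p) := e ▸ (((jc _).symm.map φ).map β)
  obtain ⟨i, hi⟩ := cP c
  rw [← hi] at c ⊢
  rcases invo (g := i) (φi (by rw [map_mul, map_mul, c.eq])) (φi (by
    rw [map_mul, hi, ← map_mul, ← map_mul, jj, map_one, map_one])) with rfl | rfl
  · exact absurd (φi (β.injective (by rw [← hi, map_one, map_one]))) j1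
  · rfl

theorem st3 (β : MulAut Hn.G) (h : β (φ j) = φ j) : ∃ g, ∀ k ∈ K, (MulAut.conj (φ g) * β) (φ k) = φ k := by
  have h1 : ∀ g, β (φ g) ∈ φ.range := fun g => cJ ▸ mem_centralizer_singleton_iff.2 (h ▸ ((jc g).map φ).map β)
  let b : Γ →* Γ := (MonoidHom.ofInjective φi).symm.toMonoidHom.comp ((β.toMonoidHom.comp φ).codRestrict _ h1)
  have hb : ∀ g, φ (b g) = β (φ g) := fun g => MonoidHom.apply_ofInjective_symm φi _
  have h2 : K ≤ K.comap b := by
    have e : K = ⁅K, K⁆ := by rw [← map_subtype_commutator, HnM.pK, ← MonoidHom.range_eq_map, range_subtype]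
    refine e.le.trans (commutator_le.2 fun x _ y _ => ?_)
    simp only [mem_comap, map_mul, map_inv, commutatorElement_def, mul_mem_iff_of_index_two ix, inv_mem_iff]
    tauto
  have h3 : Function.Injective (b.subgroupComap K ∘ inclusion h2) := fun x y e => Subtype.ext (φi (β.injective (by
    rw [← hb, ← hb]; exact congrArg (fun k : K => φ k) e)))
  obtain ⟨g, hg⟩ := autK (MulEquiv.ofBijective ((b.subgroupComap K).comp (inclusion h2))
    (Finite.injective_iff_bijective.1 h3))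
  refine ⟨g⁻¹, fun k hk => ?_⟩
  have : g * k * g⁻¹ = b k := (congrArg Subtype.val (DFunLike.congr_fun hg ⟨k, hk⟩) :)
  simp [← hb, ← this, mul_assoc]

theorem eX : φ (A.e 0) = E 0 ∧ φ (A.e 2) = E 2 ∧ φ (A.e 4) = E 4 ∧ φ j = E 0 * E 0 :=
  ⟨rfl, rfl, rfl, by rw [j, lprod_cons, lprod_single, map_mul]; rfl⟩

theorem eqG {u v : List ℕ} (h : (okW 8 u && okW 8 v && eqOn MM.ap MM.L MM.bs u v) = true) : lprod E u = lprod E v := by
  simp only [Bool.and_eq_true] at h
  refine ψ_inj ?_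
  simp only [map_lprod, hψ]
  rw [lprod_cut h.1.1, lprod_cut h.1.2, MMt.base.eq h.2]

theorem ext {β γ : MulAut Hn.G} (h : ∀ i < 4, β (E (2 * i)) = γ (E (2 * i))) : β = γ := by
  have : ⊤ ≤ β.toMonoidHom.eqLocus γ.toMonoidHom := Hn.top.ge.trans (cl_le.2 fun l hl => by
    obtain ⟨i, h1, e | e⟩ := (by decide +kernel : ∀ l < 8, ∃ i < 4, l = 2 * i ∨ l = invT fT 8 (2 * i)) l hl
    · rw [e]; exact h i h1
    · rw [e, hi]; exact inv_mem (h i h1 : E _ ∈ β.toMonoidHom.eqLocus γ.toMonoidHom))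
  exact MulEquiv.ext fun x => this (mem_top x)

theorem st5 (γ : MulAut Hn.G) (h0 : γ (E 0) = E 0) (h2 : γ (E 2) = E 2) (h4 : γ (E 4) = E 4) : γ ∈ Inn Hn.G := by
  have f : ∀ g, γ (φ g) = φ g := fun g => (topΓ.ge.trans (cl_le.2 fun l hl => by
    show γ (cut 6 E l) = cut 6 E l
    rw [cut_lt hl]
    interval_cases l
    exacts [h0, by rw [show E 1 = _ from hi 0, map_inv, h0], h2, by rw [show E 3 = _ from hi 2, map_inv, h2], h4,
      by rw [show E 5 = _ from hi 4, map_inv, h4]]) : ⊤ ≤ (γ.toMonoidHom.comp φ).eqLocus φ) (mem_top g)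
  have fin : ∀ c : Γ, (∀ g, Commute g c) → γ (E 6) = φ c * E 6 * (φ c)⁻¹ → γ ∈ Inn Hn.G := fun c h e =>
    ⟨φ c, ext fun i hi => by
      have : ∀ g, φ c * φ g * (φ c)⁻¹ = γ (φ g) := fun g => by rw [f, ← map_mul, ← (h g).eq]; simp
      interval_cases i
      exacts [this (A.e 0), this (A.e 2), this (A.e 4), e.symm]⟩
  have ks1 : gp A.e ks = stabilizer Γ (A.c 0) :=
    le_antisymm (A.gp_le_stabilizer (by decide +kernel) (by decide) (by decide +kernel)) hK
  have c : ∀ u ∈ gp A.e ks, Commute (φ u) (E 6) := fun u hu => mem_centralizer_singleton_iff.1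
    ((gp_le.2 fun w hw => by
      obtain ⟨a, ha, rfl⟩ := List.getElem_of_mem hw
      have := dh.kz a
      rw [show dP.kt = ks from rfl, show dP.ks = ks from rfl, nthW_eq ha, ← map_lprod] at this
      exact mem_centralizer_singleton_iff.2 this : gp A.e ks ≤ (centralizer {E 6}).comap φ) hu)
  have c' : ∀ u ∈ gp A.e ks, φ u • (((γ (E 6))⁻¹ : Hn.G) : Hn.G ⧸ φ.range) = ((γ (E 6))⁻¹ : Hn.G) := fun u hu =>
    QuotientGroup.eq.2 ⟨u⁻¹, by
      have := (c u hu).map γ
      rw [f] at this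
      show _ = (φ u * _)⁻¹ * _
      rw [this.inv_right.eq, mul_inv_rev, inv_mul_cancel_right, map_inv]⟩
  obtain ⟨d, hd, h1, h3⟩ := orb _ _ c'
  have h5 := (Nat.mul_le_mul_left d.b ((st1.trans ks1.symm) ▸ lo1_1.le_card)).trans (Nat.le_of_dvd (by norm_num) h3)
  rcases (by decide +kernel : ∀ d ∈ ds, d.b * 126000 ≤ 177408000 → d.i = 0 ∨ d.i = 1) d hd h5 with e | e <;> rw [e] at h1
  · obtain ⟨g, hg⟩ := inv_mem_iff.1 (orb0 h1)
    exact fin 1 Commute.one_right (by rw [← γ.injective ((f g).trans hg), f]; simp)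
  have s1 := (stab_eq (cov.2 d1 (by simp [ds])) (exa d1 (by simp [ds])) lo1_1.le_card cardΓ).1
  rw [show gp A.e d1.T = _ from st1] at s1
  obtain ⟨⟨_, h, rfl⟩, e⟩ := h1
  replace e : φ h • dh.p 1 = _ := e
  obtain ⟨y, hy, ey⟩ : ∃ x < A.n, A.c x = h • A.c 0 := pok.full _
  have := allLt_iff.1 kf y hy
  rw [show fixAt ap ks y = true from allL_iff.2 fun w hw => nbeq_iff.2 ((A.fix_iff
    (allL_iff.1 (by decide : okS 6 ks = true) w hw) hy).1 (by
      have : h⁻¹ * lprod A.e w * h ∈ stabilizer Γ (A.c 0) := s1.ge (by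
        show φ _ • dh.p 1 = dh.p 1
        rw [map_mul, map_mul, mul_smul, mul_smul, e, c' _ (mem_gp hw), ← e, map_inv, inv_smul_smul])
      rw [ey, ← inv_smul_eq_iff, ← mul_smul, ← mul_smul, mul_assoc, ← mul_assoc]
      exact this)), Bool.not_true, Bool.false_or, anyLt_iff] at this
  obtain ⟨i, h6, h7⟩ := this
  have h8 := (A.tr_spec (w := repL [1] i) ((by decide +kernel : ∀ i < 4, okW 6 (repL [1] i) = true) i h6)
    (x := 0) (by decide)).2
  rw [show tr A.ap (repL [1] i) 0 = y from nbeq_iff.1 h7, ey, inv_smul_eq_iff, ← mul_smul, lprod_repL, lprod_single,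
    show A.e 1 = _ from sΓ.hi 0] at h8
  have h9 : φ (_ * h) • dh.p 1 = dh.p 1 := s1.le h8.symm
  rw [map_mul, mul_smul, e, map_pow, map_inv, eX.1] at h9
  have h10 : ((E 0)⁻¹ ^ i * (γ (E 6))⁻¹)⁻¹ * ((E 6)⁻¹ * (1⁻¹ * 1)) ∈ φ.range := QuotientGroup.eq.1 h9
  have h11 := mem_centralizer_singleton_iff.1 (cJ.ge (mul_mem h10 (pow_mem (inv_mem (⟨A.e 0, rfl⟩ : _ ∈ φ.range)) i)))
  have t5 : E 6 ^ 5 = 1 := by simpa [pow_succ, mul_assoc] using eqG (u := [6, 6, 6, 6, 6]) (v := []) (by decide +kernel)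
  have tj : φ j * E 6 * (φ j)⁻¹ = (E 6)⁻¹ := by
    have := eqG (u := [0, 0, 6]) (v := [7, 0, 0]) (by decide +kernel)
    rw [mul_inv_eq_iff_eq_mul, eX.2.2.2, ← show E 7 = _ from hi 6]
    simpa [mul_assoc] using this
  have tj' := congrArg γ tj
  have t5' := congrArg γ t5
  simp only [map_mul, map_inv, f, map_pow, map_one] at tj' t5'
  have xj : Commute (E 0 ^ i) (φ j) := (eX.2.2.2 ▸ (Commute.refl _).mul_right (Commute.refl _)).pow_left i
  have h12 : γ (E 6) = E 0 ^ i * E 6 * (E 0 ^ i)⁻¹ := by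
    rw [eX.1, inv_pow] at h11
    generalize γ (E 6) = s at h11 tj' t5' ⊢
    generalize E 0 ^ i = a, φ j = J, E 6 = t at h11 t5 tj tj' xj ⊢
    have e1 : J * (a * t * a⁻¹) * J⁻¹ = (a * t * a⁻¹)⁻¹ := by
      calc _ = J * a * J⁻¹ * (J * t * J⁻¹) * (J * a * J⁻¹)⁻¹ := by group
        _ = _ := by rw [tj, xj.symm.mul_inv_cancel]; group
    have e2 : (a * t * a⁻¹) ^ 5 = 1 := by rw [conj_pow, t5]; group
    have e3 : s * (a * t * a⁻¹)⁻¹ = J * s * J⁻¹ * (J * (a * t * a⁻¹) * J⁻¹)⁻¹ := by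
      calc _ = (a⁻¹ * s⁻¹)⁻¹ * (t⁻¹ * (1⁻¹ * 1)) * a⁻¹ * J * J⁻¹ := by group
        _ = _ := by rw [h11]; group
    rw [e1, tj', inv_inv] at e3
    generalize a * t * a⁻¹ = r at e2 e3 ⊢
    have e4 : s ^ 2 = r ^ 2 := by
      calc _ = s * (s * r⁻¹) * r := by rw [pow_two]; group
        _ = _ := by rw [e3, pow_two]; group
    have e5 : (s ^ 2) ^ 3 = (r ^ 2) ^ 3 := by rw [e4]
    rwa [← pow_mul, ← pow_mul, show 2 * 3 = 5 + 1 from rfl, pow_succ, pow_succ r, t5', e2, one_mul, one_mul] at e5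
  have zt := congrArg γ (eqG (u := [4, 6, 4, 6, 4, 6]) (v := []) (by decide +kernel))
  simp only [lprod_cons, lprod_nil, map_mul, map_one, h4, h12] at zt
  have ne : ∀ w, (okW 8 w && neAt MM.ap MM.L (Nat.shiftLeft 1 (Nat.mul MM.w MM.m)) 1 w []) = true → lprod E w ≠ 1 :=
    fun w h e => by
    rw [Bool.and_eq_true] at h
    refine MMA.ne_of_neAt h.2 ?_
    rw [← lprod_cut h.1, ← funext hψ, ← map_lprod, e, map_one, lprod_nil]
  have x1 : E 1 = _ := hi 0
  interval_cases i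
  · exact fin 1 Commute.one_right (by simpa using h12)
  · exact absurd (by simpa [x1, mul_assoc] using zt) (ne [4, 0, 6, 1, 4, 0, 6, 1, 4, 0, 6, 1] (by decide +kernel))
  · exact fin j jc (by rw [h12, eX.2.2.2, pow_two])
  · exact absurd (by simpa [x1, mul_assoc, pow_succ] using zt)
      (ne [4, 0, 0, 0, 6, 1, 1, 1, 4, 0, 0, 0, 6, 1, 1, 1, 4, 0, 0, 0, 6, 1, 1, 1] (by decide +kernel))

theorem exα : ∃ α : MulAut Hn.G, α (E 0) = E 0 ∧ α (E 2) = E 2 ∧ α (E 4) = E 4 * φ j := by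
  have := Hn.simple
  have h : ∀ l, ψ (cut 8 (fun l => lprod E (nthW ws l)) l) = lprod MMA.e (nthW ws l) := fun l => by
    by_cases c : l < 8
    · simp only [cut_lt c, map_lprod, hψ]
      exact lprod_cut ((by decide +kernel : ∀ l < 8, okW 8 (nthW ws l) = true) l c)
    · rw [cut_ge (not_lt.1 c), nthW_of_le (not_lt.1 c), map_one, lprod_nil]
  have s := MMt.base.sat1 kα
  obtain ⟨a, ha⟩ := hom (e := fun l => lprod E (nthW ws l)) ⟨fun l => ψ_inj (by rw [map_inv, h, h]; exact s.hi l),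
    fun p hp => ψ_inj (by simp only [map_pow, map_lprod, h, map_one]; exact s.hB p hp)⟩
  have h0 : a (E 0) = E 0 := (ha 0).trans (lprod_single _)
  have hi := inj_simple a (a := φ j) (by
    rw [eX.2.2.2, map_mul, h0, ← eX.2.2.2]; exact fun e => j1 (φi (e.trans φ.map_one.symm)))
  exact ⟨MulEquiv.ofBijective a (Finite.injective_iff_bijective.1 hi), h0, (ha 2).trans (lprod_single _),
    (ha 4).trans (by rw [eX.2.2.2]; exact (by simp : lprod E [4, 0, 0] = E 4 * (E 0 * E 0)))⟩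

theorem zK (β : MulAut Hn.G) (h : β (φ j) = φ j) (h' : ∀ k ∈ K, β (φ k) = φ k) : β (E 4) = E 4 ∨ β (E 4) = E 4 * φ j := by
  obtain ⟨g, hg⟩ : β (E 4) ∈ φ.range := cJ ▸ mem_centralizer_singleton_iff.2 (h ▸ ((jc (A.e 4)).map φ).map β)
  rw [← hg, ← eX.2.2.1, ← map_mul, φi.eq_iff, φi.eq_iff, ← inv_mul_eq_iff_eq_mul (c := j), eq_comm (a := g),
    ← inv_mul_eq_one]
  refine cK fun k hk => φi ?_
  have := h' _ (nK.conj_mem k hk (A.e 4))
  simp only [map_mul, map_inv, h' k hk, eX.2.2.1, ← hg] at this ⊢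
  calc _ = (E 4)⁻¹ * (φ g * φ k * (φ g)⁻¹) * φ g := by group
    _ = _ := by rw [this]; group

theorem out : Nat.card (Out Hn.G) = 2 := by
  obtain ⟨α, a0, a2, a4⟩ := exα
  have aj : α (φ j) = φ j := by rw [eX.2.2.2, map_mul, a0]
  have cj : ∀ c (β : MulAut Hn.G), MulAut.conj c * β ∈ Inn Hn.G ↔ β ∈ Inn Hn.G := fun c β =>
    mul_mem_cancel_left (⟨c, rfl⟩ : MulAut.conj c ∈ Inn Hn.G)
  have na : α ∉ Inn Hn.G := by
    rintro ⟨g, rfl⟩
    obtain ⟨g, rfl⟩ : g ∈ φ.range := cJ ▸ mem_centralizer_singleton_iff.2 (mul_inv_eq_iff_eq_mul.1 aj)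
    have b : ∀ {x y}, MulAut.conj (φ g) (φ x) = φ y → MulAut.conj g x = y := fun e => φi (by simpa using e)
    replace a4 := b (x := A.e 4) (a4.trans (φ.map_mul (A.e 4) j).symm)
    let S := (QuotientGroup.mk' (center Γ)).eqLocus ((QuotientGroup.mk' _).comp (MulAut.conj g).toMonoidHom)
    have s0 : A.e 0 ∈ S := congrArg (QuotientGroup.mk' _) (b (y := A.e 0) a0).symm
    have s2 : A.e 2 ∈ S := congrArg (QuotientGroup.mk' _) (b (y := A.e 2) a2).symm
    have s4 : A.e 4 ∈ S := (QuotientGroup.eq.2 (by simpa using mem_center_iff.2 jc)).trans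
      (congrArg (QuotientGroup.mk' _) a4.symm)
    have h1 : ∀ k, k⁻¹ * MulAut.conj g k ∈ center Γ := fun k => QuotientGroup.eq.1 ((topΓ.ge.trans (cl_le.2 fun l hl => by
      interval_cases l
      exacts [s0, (sΓ.hi 0).symm ▸ inv_mem s0, s2, (sΓ.hi 2).symm ▸ inv_mem s2, s4, (sΓ.hi 4).symm ▸ inv_mem s4]) :
        ⊤ ≤ S) (mem_top k))
    have h2 : ⁅K, K⁆ ≤ centralizer {g} := commutator_le.2 fun x _ y _ => mem_centralizer_singleton_iff.2 (by
      rw [eq_comm, ← mul_inv_eq_iff_eq_mul, ← MulAut.conj_apply, map_commutatorElement,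
        ← HnM.cm (a := x) (b := y) (mem_center_iff.1 (h1 x) _).symm (mem_center_iff.1 (h1 x) _).symm
          (mem_center_iff.1 (h1 y) _).symm, mul_inv_cancel_left, mul_inv_cancel_left])
    rw [← map_subtype_commutator, HnM.pK, ← MonoidHom.range_eq_map, range_subtype] at h2
    rcases cK fun k hk => (mem_centralizer_singleton_iff.1 (h2 hk)).symm with rfl | rfl
    · exact j1 (by simpa using a4)
    · exact j1 (by simpa [(jc _).symm.mul_inv_cancel] using a4)
  refine (index_eq_card _).symm.trans (index_eq_two_iff'.2 ⟨α, fun β => ?_⟩)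
  have : α * β ∈ Inn Hn.G ∨ β ∈ Inn Hn.G := by
    obtain ⟨g, hg⟩ := frat β
    obtain ⟨h, hh⟩ := st3 _ hg
    have e : (MulAut.conj (φ h) * (MulAut.conj g * β)) (φ j) = φ j := by
      rw [MulAut.mul_apply, hg, MulAut.conj_apply, ((jc h).map φ).mul_inv_cancel]
    rcases zK _ e hh with z | z
    · exact Or.inr ((cj _ _).1 ((cj _ _).1 (st5 _ (hh _ xy.1) (hh _ xy.2) z)))
    · have := st5 (α * (MulAut.conj (φ h) * (MulAut.conj g * β))) ((congrArg α (hh _ xy.1)).trans a0)
        ((congrArg α (hh _ xy.2)).trans a2) ((congrArg α z).trans (by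
          rw [map_mul, a4, aj, mul_assoc, ← map_mul, jj, map_one, mul_one]))
      refine Or.inl ((cj (α (φ h * g)) _).1 ?_)
      convert this using 1
      ext x; simp
  rcases this with h | h
  · exact Or.inl ⟨h, fun h' => na ((mul_mem_cancel_right h').1 h)⟩
  · exact Or.inr ⟨h, fun h' => na ((mul_mem_cancel_right h).1 h')⟩

end Cfsg.Agent.H17.HnO
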