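import Mathlib
import Cfsg.Agent.H25.Co2

/-!
Orbits of point stabilisers on minimal vectors of the Leech lattice.
-/

set_option autoImplicit false
set_option maxRecDepth 100000

namespace Cfsg.Agent.H17.LeO

open H25 H25.Leech MulAction

theorem orb_tr (g : Co0) {K K' : Subgroup Co0} (h : ∀ k, k ∈ K ↔ g * k * g⁻¹ ∈ K') (y : L) :
    (orbit K' (g • y)).ncard = (orbit K y).ncard := ncard_tr g (orbit_conj g h y)

theorem Cl_finite (P : ℤ → ℤ → ℤ → Prop) : (Cl P).Finite :=
  (SL_finite (n := 32) (by norm_num)).subset fun _ h => h.1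

theorem R_mem {P : ℤ → ℤ → ℤ → Prop} {j : ℕ} (hj : j < 105) (h : P (da j) (db j) (dc j)) :
    R j ∈ Cl P := by
  obtain ⟨a, b, c⟩ := root_dot (j := j) hj
  exact ⟨sqR hj, by rwa [a, b, c]⟩

theorem of_all (P : ℤ → ℤ → ℤ → Prop) [∀ a b c, Decidable (P a b c)]
    (h : ∀ j < 105, P (da j) (db j) (dc j)) {x : L} (hx : sqNorm x.1 = 32) :
    P (dt U x) (dt U' x) (dt W x) := by
  by_contra h'
  have := cnt (fun a b c => ¬ P a b c) (n := 0) (Finset.sum_eq_zero fun j hj =>
    if_neg (not_not.2 (h j (Finset.mem_range.1 hj))))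
  rw [Set.ncard_eq_zero (Cl_finite _)] at this
  exact Set.eq_empty_iff_forall_notMem.1 this x ⟨hx, h'⟩

theorem eq_of_dt {x y : L} (hx : sqNorm x.1 = 32) (hy : sqNorm y.1 = 32) (h : dt x y = 32) : y = x := by
  refine (sub_eq_zero.1 (Subtype.ext (sq_eq_zero ?_))).symm
  rw [AddSubgroup.coe_sub, sq_sub, hx, hy, show dotInt x.1 y.1 = _ from h]; rfl

theorem orb_Hs' {d : ℤ} {r : ℕ} (h : (r < 105 ∧ db r = d ∧ dc r = -16) ∧
    ∀ j < 105, db j = d ∧ dc j = -16 → gd 0 Hsrep j = r) :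
    orbit Hs (R r) = Cl fun _ b c => b = d ∧ c = -16 :=
  have m : R r ∈ Cl fun _ b c => b = d ∧ c = -16 := R_mem h.1.1 h.1.2
  orbit_Cl K1_Hs fHs _ r h.2 m fun k hk =>
    ⟨(g_sq k _).trans m.1, (dt_fix hk.1 _).trans m.2.1, (dt_fix hk.2 _).trans m.2.2⟩

theorem orb_K1 {d : ℤ} {r : ℕ} (h : (r < 105 ∧ db r = d ∧ da r = 0 ∧ dc r = -16) ∧
    ∀ j < 105, db j = d ∧ da j = 0 ∧ dc j = -16 → gd 0 (List.range 105) j = r) :
    orbit K1 (R r) = Cl fun a b c => b = d ∧ a = 0 ∧ c = -16 :=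
  have m : R r ∈ Cl fun a b c => b = d ∧ a = 0 ∧ c = -16 := R_mem h.1.1 h.1.2
  orbit_Cl le_rfl fK1 _ r h.2 m fun k hk =>
    ⟨(g_sq k _).trans m.1, (dt_fix hk.1.2 _).trans m.2.1, (dt_fix hk.1.1 _).trans m.2.2.1,
      (dt_fix hk.2 _).trans m.2.2.2⟩

/-- a permutation matrix exchanging two adjacent points -/
def Msw : ℕ := nat_lit 0x821084210842108421084210842108421084210842108421104210842108421084210842108821084210842108421084210844108421084210842108421084210842108421084220842108421084410842108421084210842108441084210842108421084210842108422084210842108421084210842108421084210842108421084410842108421084210842208421084210842108421084210842108421084210842208421084210842108421088210842108421084210842108421084211042108421084210842108441084210842108421088210842108421084210842108421084210842108421084210844108421084210842110421084210842108421084210882108421084210842108421084210842108421084210882108421084211042108421084210842108421084210842108422084210842108421084220842108421084210842108421104210842108421084210842108421084210842108421084210842110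

/-- the second point -/
def cy : ℕ := nat_lit 0x58000024000012000009000004800001c00000e000009000004800001c0000120000090000048000024000012000007000003800001c000012000009000004800002400000e000009

theorem sw : ∃ g ∈ Mc, dt (R 65) (g • R 65) = 8 ∧ g • g • R 65 = R 65 := by
  obtain ⟨h1, h2⟩ := fix2 (Ms := [Msw]) (by decide +kernel) ptU ptW Msw (by simp)
  have v := rvc 65 (by decide)
  have vy : VC cy := (vcb_sound (n := 32) (by decide +kernel)).1
  have e := el_map (d := cy) h1 v (by decide +kernel)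
  refine ⟨_, h2, ?_, by rw [e]; exact el_map h1 vy (by decide +kernel)⟩
  have : _ = dt (R 65) (pt cy) + 64 := dot64 v vy
  rw [show (prepV (gd 0 roots 65)).dot 64 cy = 72 by decide +kernel] at this
  rw [e]
  omega

theorem card_Mc_inf {P : ℤ → ℤ → Prop} [∀ a c, Decidable (P a c)] {r n : ℕ} {x : L}
    (hx : x ∈ Cl fun a _ c => P a c) (h : ∀ j < 105, P (da j) (dc j) → gd 0 Mcrep j = r)
    (hn : ∑ j ∈ Finset.range 105, (if P (da j) (dc j) then dg 20 HH j else 0) = n) :
    n * Nat.card ↥(Mc ⊓ St x) = 898128000 := by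
  have := H14.card_eq_orbit_mul_inf Mc x
  rw [card_Mc, orbit_Cl K1_Mc fMc (fun a _ c => P a c) r h hx fun k hk =>
    ⟨(g_sq k _).trans hx.1, by rw [dt_fix hk.1, dt_fix hk.2]; exact hx.2⟩,
    cnt (fun a _ c => P a c) hn] at this
  exact this.symm

theorem mcl : {y | y ∈ Cl (fun a _ c => a = 16 ∧ c = -24) ∧ dt (R 65) y = 8}.ncard = 112 ∧
    {y | y ∈ Cl (fun a _ c => a = 16 ∧ c = -24) ∧ y ≠ R 65 ∧ dt (R 65) y = 16}.ncard = 162 ∧
    ∀ y ∈ Cl (fun a _ c => a = 16 ∧ c = -24), ∀ y' ∈ Cl (fun a _ c => a = 16 ∧ c = -24),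
      y ≠ R 65 → y' ≠ R 65 → dt (R 65) y = dt (R 65) y' → ∃ k ∈ Mc ⊓ St (R 65), k • y = y' := by
  obtain ⟨g, hg, g1, g2⟩ := sw
  have m0 : R 65 ∈ Cl fun a _ c => a = 16 ∧ c = -24 := R_mem (by decide) (by decide +kernel)
  have m1 : R 11 ∈ Cl fun a _ c => a = 16 ∧ c = -24 := R_mem (by decide) (by decide +kernel)
  have d1 : dt (R 65) (R 11) = 16 := by
    have : _ = dt (R 65) (R 11) + 64 := dot64 (rvc 65 (by decide)) (rvc 11 (by decide))
    rw [show (prepV (gd 0 roots 65)).dot 64 (gd 0 roots 11) = 80 by decide +kernel] at this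
    omega
  generalize R 65 = x at *
  generalize R 11 = y' at *
  have inv : ∀ k ∈ Mc, ∀ y ∈ Cl fun a _ c => a = 16 ∧ c = -24, k • y ∈ Cl fun a _ c => a = 16 ∧ c = -24 :=
    fun k hk y hy => ⟨(g_sq k _).trans hy.1, by rw [dt_fix hk.1, dt_fix hk.2]; exact hy.2⟩
  have m2 := inv g hg x m0
  have xx : dt x x = 32 := (dot_self _).trans m0.1
  have c0 := card_Mc_inf (P := fun a c => a = 16 ∧ c = -24) (r := 11) (n := 275) m0
    (by decide +kernel) (by decide +kernel)
  have c1 := card_Mc_inf (P := fun a c => a = 0 ∧ c = 0) (r := 5) (n := 44550) (x := x - y') ⟨by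
      rw [AddSubgroup.coe_sub, sq_sub, m0.1, m1.1, show dotInt x.1 y'.1 = _ from d1]; rfl,
    (dot_sub _ _ _).trans (sub_eq_zero.2 (m0.2.1.trans m1.2.1.symm)),
    (dot_sub _ _ _).trans (sub_eq_zero.2 (m0.2.2.trans m1.2.2.symm))⟩
    (by decide +kernel) (by decide +kernel)
  have c2 := card_Mc_inf (P := fun a c => a = 8 ∧ c = 0) (r := 38) (n := 15400) (x := x + g • x + W) ⟨by
      rw [sq_add', sq_add', add_dt, m0.1, m2.1, sqW, g1, show dt x W = _ from
        (dot_comm _ _).trans m0.2.2, show dt (g • x) W = _ from (dot_comm _ _).trans m2.2.2]; rfl,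
    by rw [dt_add, dt_add, m0.2.1, m2.2.1, dUW]; rfl, by
      rw [dt_add, dt_add, m0.2.2, m2.2.2, show dt W W = _ from (dot_self _).trans sqW]; rfl⟩
    (by decide +kernel) (by decide +kernel)
  have l1 : Nat.card ↥(Mc ⊓ St x ⊓ St y') ≤ Nat.card ↥(Mc ⊓ St (x - y')) :=
    Subgroup.card_le_of_le fun k hk => ⟨hk.1.1, show k • _ = _ by
      rw [g_sub, show k • x = x from hk.1.2, show k • y' = y' from hk.2]⟩
  have l2 : 2 * Nat.card ↥(Mc ⊓ St x ⊓ St (g • x)) ≤ Nat.card ↥(Mc ⊓ St (x + g • x + W)) := by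
    have le : Mc ⊓ St x ⊓ St (g • x) ≤ Mc ⊓ St (x + g • x + W) := fun k hk => ⟨hk.1.1,
      show k • _ = _ by rw [g_add, g_add, show k • x = x from hk.1.2,
        show k • g • x = g • x from hk.2, show k • W = W from hk.1.1.2]⟩
    obtain ⟨n, hn⟩ := Subgroup.card_dvd_of_le le
    have : n ≠ 1 := by
      rintro rfl
      have := (Subgroup.eq_of_le_of_card_ge le (by omega)).ge (⟨hg, show g • _ = _ by
        rw [g_add, g_add, g2, show g • W = W from hg.2, add_comm x]⟩ : g ∈ Mc ⊓ St (x + g • x + W))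
      rw [show g • x = x from this.1.2] at g1
      omega
    have : n ≠ 0 := by rintro rfl; omega
    rw [hn, mul_comm]
    exact Nat.mul_le_mul_left _ (by omega)
  have e1 : _ = _ * Nat.card ↥(Mc ⊓ St x ⊓ St y') := H14.card_eq_orbit_mul_inf (Mc ⊓ St x) y'
  have e2 : _ = _ * Nat.card ↥(Mc ⊓ St x ⊓ St (g • x)) := H14.card_eq_orbit_mul_inf (Mc ⊓ St x) (g • x)
  set A := {y | y ∈ Cl (fun a _ c => a = 16 ∧ c = -24) ∧ dt x y = 8}
  set B := {y | y ∈ Cl (fun a _ c => a = 16 ∧ c = -24) ∧ y ≠ x ∧ dt x y = 16}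
  have fA : A.Finite := (Cl_finite _).subset fun _ h => h.1
  have fB : B.Finite := (Cl_finite _).subset fun _ h => h.1
  have s1 : orbit ↥(Mc ⊓ St x) y' ⊆ B := by
    rintro _ ⟨k, rfl⟩
    have := (dt_fix k.2.2 y').trans d1
    exact ⟨inv k k.2.1 _ m1, fun e => by rw [show k.1 • y' = x from e] at this; omega, this⟩
  have s2 : orbit ↥(Mc ⊓ St x) (g • x) ⊆ A := by
    rintro _ ⟨k, rfl⟩
    exact ⟨inv k k.2.1 _ m2, (dt_fix k.2.2 _).trans g1⟩
  have n1 : 162 ≤ (orbit ↥(Mc ⊓ St x) y').ncard := by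
    by_contra! h
    have := Nat.mul_le_mul (Nat.le_of_lt_succ h) l1
    omega
  have n2 : 112 ≤ (orbit ↥(Mc ⊓ St x) (g • x)).ncard := by
    by_contra! h
    have := Nat.mul_le_mul (Nat.le_of_lt_succ h) l2
    rw [mul_left_comm] at this
    omega
  have a1 := Set.ncard_le_ncard s1 fB
  have a2 := Set.ncard_le_ncard s2 fA
  have sub : insert x (A ∪ B) ⊆ Cl fun a _ c => a = 16 ∧ c = -24 := by
    rintro _ (rfl | h | h)
    exacts [m0, h.1, h.1]
  have nc : (insert x (A ∪ B)).ncard = A.ncard + B.ncard + 1 := by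
    rw [Set.ncard_insert_of_notMem (fun h => h.elim (fun h => by have := h.2; omega) fun h => h.2.1 rfl)
      (fA.union fB), Set.ncard_union_eq (Set.disjoint_left.2 fun y a b => by
        have := a.2; have := b.2.2; omega) fA fB]
  have nX := cnt (fun a _ c => a = 16 ∧ c = -24) (n := 275) (by decide +kernel)
  have a3 := Set.ncard_le_ncard sub (Cl_finite _)
  have q := Set.eq_of_subset_of_ncard_le sub (by omega) (Cl_finite _)
  have q1 := Set.eq_of_subset_of_ncard_le s1 (by omega) fB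
  have q2 := Set.eq_of_subset_of_ncard_le s2 (by omega) fA
  have tr : ∀ {w y z : L}, y ∈ orbit ↥(Mc ⊓ St x) w → z ∈ orbit ↥(Mc ⊓ St x) w →
      ∃ k ∈ Mc ⊓ St x, k • y = z := by
    rintro w _ _ ⟨a, rfl⟩ ⟨b, rfl⟩
    exact ⟨(b * a⁻¹).1, (b * a⁻¹).2, show (b * a⁻¹) • a • w = b • w by rw [mul_smul, inv_smul_smul]⟩
  refine ⟨by omega, by omega, fun y hy z hz a b c => ?_⟩
  rcases (q.ge hy).resolve_left a with h | h
  · exact tr (q2.ge h) (q2.ge ⟨hz, c.symm.trans h.2⟩)
  · exact tr (q1.ge h) (q1.ge ⟨hz, b, c.symm.trans h.2.2⟩)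

end Cfsg.Agent.H17.LeO
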