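import Mathlib
import Cfsg.Agent.H15.Ly.Z
import Cfsg.Agent.H27.Schur4
import Cfsg.Agent.S2119
import Cfsg.Agent.S5324

/-! Every automorphism of the Lyons group is inner. -/

set_option autoImplicit false
set_option maxRecDepth 100000

namespace Cfsg.Agent.H17.LyO

open Cfsg Subgroup

section gen
variable {G : Type} [Group G] [Finite G]

theorem frat {S : Subgroup G} (hS : H18.SylIn 2 S ⊤) (hp : IsPGroup 2 S) (h0 : S ≠ ⊥) {z : G}
    (h2 : ∀ s ∈ S, s ∈ centralizer (S : Set G) → s ≠ 1 → s = z) (α : MulAut G) : ∃ g, g * α z * g⁻¹ = z := by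
  obtain ⟨y, a, b, -, c⟩ := exists_central_of_sc hp le_rfl le_normalizer h0
  obtain rfl := h2 y a c b
  obtain ⟨g, hg⟩ := exists_img_le hS (hp.map α.toMonoidHom)
  have h3 : ∀ s ∈ S, g * α s * g⁻¹ ∈ S := fun s hs => img_le_iff.1 hg _ ⟨s, hs, rfl⟩
  have h4 : Function.Surjective fun s : S => (⟨_, h3 s s.2⟩ : S) :=
    Finite.surjective_of_injective fun s t e => Subtype.ext (by simpa using Subtype.ext_iff.1 e)
  refine ⟨g, h2 _ (h3 _ a) (fun s hs => ?_) (by simpa using b)⟩
  obtain ⟨t, ht⟩ := h4 ⟨s, hs⟩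
  rw [← show g * α t * g⁻¹ = s from Subtype.ext_iff.1 ht]
  have := congrArg α (c t t.2)
  simp only [map_mul] at this
  calc _ = g * (α t * α y) * g⁻¹ := by group
    _ = _ := by rw [this]; group

variable {z : G} (π : centralizer ({z} : Set G) →* alternatingGroup (Fin 11))

/-- the image of an element of the centraliser -/
def R (g : G) (p : Equiv.Perm (Fin 11)) : Prop := ∃ h, (π ⟨g, h⟩ : Equiv.Perm (Fin 11)) = p

variable {π} {g g' : G} {p p' : Equiv.Perm (Fin 11)}

omit [Finite G] in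
theorem R.mul (h : R π g p) (h' : R π g' p') : R π (g * g') (p * p') :=
  let ⟨a, b⟩ := h
  let ⟨c, d⟩ := h'
  ⟨mul_mem a c, by rw [← b, ← d, ← coe_mul, ← map_mul]; rfl⟩

omit [Finite G] in
theorem R.inv (h : R π g p) : R π g⁻¹ p⁻¹ :=
  let ⟨a, b⟩ := h
  ⟨inv_mem a, by rw [← b, ← coe_inv, ← map_inv]; rfl⟩

omit [Finite G] in
theorem R.det (h : R π g p) (h' : R π g p') : p = p' := h.2.symm.trans h'.2

omit [Finite G] in
theorem R.uniq (hk : ∀ c, π c = 1 → (c : G) ∈ zpowers z) (hz : z ^ 2 = 1) (h : R π g p) (h' : R π g' p)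
    (h3 : g ^ 3 = 1) (h3' : g' ^ 3 = 1) : g = g' := by
  obtain ⟨a, b⟩ := h.inv.mul h'
  obtain ⟨k, e⟩ := hk _ (Subtype.ext (b.trans (inv_mul_cancel p)))
  have e : z ^ k = g⁻¹ * g' := e
  have c : Commute g (z ^ k) := (Commute.zpow_right (mem_centralizer_singleton_iff.1 h.1) k)
  have e1 : (z ^ k) ^ 3 = 1 := by
    have := c.mul_pow 3
    rwa [e, mul_inv_cancel_left, h3, h3', one_mul, ← e, eq_comm] at this
  have e2 : (z ^ k) ^ 2 = 1 := by rw [← zpow_natCast, ← zpow_mul, mul_comm, zpow_mul, zpow_natCast, hz, one_zpow]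
  rw [pow_succ, e2, one_mul, e] at e1
  exact inv_mul_eq_one.1 e1

theorem act (hs : Function.Surjective π) (hk : ∀ c, π c = 1 → (c : G) ∈ zpowers z)
    (h1 : π ⟨z, mem_centralizer_singleton_iff.2 rfl⟩ = 1) (β : MulAut G) (hβ : β z = z) :
    ∃ σ : Equiv.Perm (Fin 11), ∀ g p, R π g p → R π (β g) (σ * p * σ⁻¹) := by
  have hc : ∀ c : centralizer ({z} : Set G), β c ∈ centralizer ({z} : Set G) := fun c =>
    mem_centralizer_singleton_iff.2 (by
      have := congrArg β (mem_centralizer_singleton_iff.1 c.2)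
      rwa [map_mul, map_mul, hβ] at this)
  let b : centralizer ({z} : Set G) →* centralizer ({z} : Set G) :=
    (β.toMonoidHom.comp (centralizer _).subtype).codRestrict _ hc
  have hb : Function.Surjective b := Finite.surjective_of_injective fun s t e =>
    Subtype.ext (β.injective (Subtype.ext_iff.1 e))
  obtain ⟨k, e⟩ := H27.exists_factor π hs (π.comp b) fun c hc => by
    obtain ⟨n, hn⟩ := hk c hc
    have : b c = ⟨z, mem_centralizer_singleton_iff.2 rfl⟩ ^ n := Subtype.ext (by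
      show β c = z ^ n
      rw [← show z ^ n = c from hn, map_zpow, hβ])
    rw [MonoidHom.mem_ker, MonoidHom.comp_apply, this, map_zpow, h1, one_zpow]
  have h2 : Function.Surjective k := fun y => by
    obtain ⟨c, rfl⟩ := (hs.comp hb) y
    exact ⟨_, e c⟩
  obtain ⟨σ, hσ⟩ := (S2119.result 11 (by norm_num) (by norm_num)).2
    (MulEquiv.ofBijective k ⟨Finite.injective_iff_surjective.2 h2, h2⟩)
  refine ⟨σ, ?_⟩
  rintro g _ ⟨h, rfl⟩
  exact ⟨hc ⟨g, h⟩, (congrArg Subtype.val ((e ⟨g, h⟩).symm.trans (DFunLike.congr_fun hσ _).symm) :)⟩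

end gen

open Cfsg.Agent.H15 Cfsg.Agent.H14 Cfsg.Agent.H15.Ly

/-- the permutation of a word -/
noncomputable def q (w : List ℕ) : Equiv.Perm (Fin 11) := lprod Alt11.pok.perm w

def wt : List ℕ := [2, 4, 6, 8, 12, 14, 6, 8, 11, 4, 16, 3]
def wy : List ℕ := [2, 5, 6, 3, 10, 13, 16, 11]
def wy' : List ℕ := [0, 2, 5, 14, 17, 4, 11, 8, 3]
def Rs : List (List ℕ) := [[0], [2, 5, 16, 11, 2], [4, 7, 10, 13, 4], [6, 9, 12, 15, 6]]
def Ws : List (List ℕ) := [[0, 0], [0], [], [], [1, 1, 1], [2, 1], [3, 2, 1, 1, 1], [1], [2, 1, 1, 1], [3, 2, 1], [1, 1]]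
noncomputable def F (a b i : Fin 11) : Fin 11 := lprod (fun k => q (nthW Rs k)) (nthW Ws i) (if i.1 < 3 then a else b)

theorem cen {σ : Equiv.Perm (Fin 11)} (h : ∀ k < 4, σ * q (nthW Rs k) * σ⁻¹ = q (nthW Rs k)) : σ = 1 ∨ σ = q wt := by
  have h1 : ∀ k, q (nthW Rs k) * σ = σ * q (nthW Rs k) := fun k => by
    by_cases c : k < 4
    · exact (mul_inv_eq_iff_eq_mul.1 (h k c)).symm
    · rw [nthW_of_le (not_lt.1 c), q, lprod_nil, mul_one, one_mul]
  have h2 : ∀ i, σ i = F (σ 2) (σ 3) i := fun i => by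
    have e := mem_centralizer_singleton_iff.1 (lprod_mem (E := fun k => q (nthW Rs k)) (w := nthW Ws i)
      (K := centralizer {σ}) fun k _ => mem_centralizer_singleton_iff.2 (h1 k))
    have := DFunLike.congr_fun e (if i.1 < 3 then 2 else 3)
    rw [Equiv.Perm.mul_apply, Equiv.Perm.mul_apply, apply_ite σ] at this
    exact (congrArg σ ((by decide +kernel : ∀ i, F 2 3 i = i) i)).symm.trans this.symm
  have h3 : ∀ a b, (∀ k < 4, ∀ i, F a b (q (nthW Rs k) i) = q (nthW Rs k) (F a b i)) →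
      (∀ i, F a b i = i) ∨ ∀ i, F a b i = q wt i := by decide +kernel
  exact (h3 _ _ fun k _ i => by rw [← h2, ← h2]; exact (DFunLike.congr_fun (h1 k) i).symm).imp
    (fun e => Equiv.ext fun i => (h2 i).trans (e i)) fun e => Equiv.ext fun i => (h2 i).trans (e i)

theorem nocen {σ : Equiv.Perm (Fin 11)} (h : σ * q wy' * σ⁻¹ = q wy') (h' : σ * q [0] * σ⁻¹ = q [1]) : False := by
  have a := DFunLike.congr_fun (mul_inv_eq_iff_eq_mul.1 h) 0
  have b := DFunLike.congr_fun (mul_inv_eq_iff_eq_mul.1 h') 0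
  simp only [Equiv.Perm.mul_apply] at a b
  rw [(by decide +kernel : q wy' 0 = q [0] 0), b] at a
  rw [(by decide +kernel : ∀ p, q [1] p = q wy' p → q [1] p = p) _ a] at b
  exact absurd (σ.injective b) (by decide +kernel)

def σs : List (List ℕ) := als ++ [[34], [10], [0], [2], [4], [6], [8]]
noncomputable def CB := MMA.comp σs (by decide +kernel)
theorem ex (l : ℕ) : ∃ g, ψ g = CB.e l := (lprod_mem fun a _ => rψ a : CB.e l ∈ ψ.range)
noncomputable def X (l : ℕ) : Ly.G := (ex l).choose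
theorem hX (w : List ℕ) : ψ (lprod X w) = lprod CB.e w := by
  rw [map_lprod]; exact lprod_congr fun l _ => (ex l).choose_spec
noncomputable def ck (u v : List ℕ) : Bool := eqOn (fun x l => tr MM.ap (nthW σs l) x) 25 MM.bs u v
theorem eqA {u v : List ℕ} (h : ck u v = true) : lprod X u = lprod X v :=
  ψ_inj (by rw [hX, hX]; exact (MMt.base.comp _ _).eq h)
noncomputable def iv : ℕ → ℕ := invT Alt11.pT 18

theorem k1 : ck [18, 19] (wt ++ [18]) = true := by decide +kernel
theorem k2 : ck (wt.map iv) wt = true := by decide +kernel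
theorem k3 : ck [18, 18] [] = true := by decide +kernel
theorem k4 : allL Rs (fun w => ck (w ++ wt) (wt ++ w)) = true := by decide +kernel
theorem k5 : allL [20, 21, 23, 24] (fun l => ck [l, 19] [19, l]) = true := by decide +kernel
theorem k6 : ck ([11, 3, 6, 22, 7, 2, 10] ++ wt) (wt ++ [11, 3, 6, 22, 7, 2, 10]) = true := by decide +kernel
theorem k7 : ck (18 :: wy') (wy ++ [18]) = true := by decide +kernel
theorem k8 : ck (wy.map iv) wy = true := by decide +kernel
theorem k9 : ck [18, 0] [0, 18] = true := by decide +kernel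
theorem k10 : allLt 18 (fun l => ck [l, l, l] [] && ck [l, iv l] []) = true := by decide +kernel
theorem k11 : ck [19] [20, 20, 20, 20] = true := by decide +kernel
theorem k12 : ck [19, 19] [] = true := by decide +kernel

theorem XE : ∀ i < 5, X (20 + i) = E (2 * i) := fun i hi => ψ_inj (by
  rw [← lprod_single (E := X), hX, lprod_single, hψ, cut_lt (by omega)]
  interval_cases i <;> exact lprod_single _)

theorem hz : φ (lprod A.e gT) = X 19 := ψ_inj (by
  rw [ψφ (by decide), ← lprod_single (E := X), eqA k11, hX]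
  simp only [gT, lprod_cons, lprod_nil]
  rw [show CB.e 20 = MMA.e 0 from lprod_single _])

theorem exπ : ∃ π : centralizer ({X 19} : Set Ly.G) →* alternatingGroup (Fin 11), Function.Surjective π ∧
    (∀ c, π c = 1 → (c : Ly.G) ∈ zpowers (X 19)) ∧ π ⟨_, mem_centralizer_singleton_iff.2 rfl⟩ = 1 ∧
    (∀ l < 18, R π (X l) (Alt11.pok.perm l)) ∧ centralizer ({X 19} : Set Ly.G) ≤ cl X 18 := by
  have := (center_alt (n := 11) (by norm_num)).1
  have h0 : cl Alt11.A.e Alt11.A.L = alternatingGroup (Fin 11) :=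
    alt_eq (fun l hl => lprod_single (E := Alt11.A.e) l ▸ Alt11.pok.rels (B := (List.range 18).map fun l => ([l], 3))
      (by decide +kernel) (RAll.of (by decide +kernel)) _ (List.mem_map_of_mem (List.mem_range.mpr hl))) (by norm_num)
      (le_trans (by decide +kernel) (Nat.mul_le_mul_left 2 (Alt11.lo0.mono (gp_le_cl (by decide +kernel))).le_card))
  obtain ⟨e, e1, e2, e3⟩ : ∃ e : ℕ → alternatingGroup (Fin 11), cl e 18 = ⊤ ∧ Sat e (invT Alt11.pT 18) Alt11.pB ∧
      ∀ l < 18, (e l : Equiv.Perm (Fin 11)) = Alt11.pok.perm l := by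
    rw [← h0]
    exact ⟨_, cl_subE _ _, TabAct.own_sat (Alt11.pok.sat (by decide +kernel) (RAll.of (by decide +kernel)))
      (by decide +kernel), fun l hl => subE_coe (mem_cl hl)⟩
  obtain ⟨a, f, b, c, d⟩ := alb.cover alz _ alc alq e1 e2 Alt11.bnd
  obtain ⟨u, hu⟩ := cen_iso ψ_inj Ly.all (le_cen_of_center a ale) cenT
  have h1 : ∀ l < 18, ψ (X l) = alA.e l := fun l hl => (ex l).choose_spec.trans (congrArg (lprod MMA.e)
    ((by decide +kernel : ∀ l < 18, nthW σs l = nthW als l) l hl))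
  have h2 : ∀ l < 18, ((u.symm (alA.own.e l) : Ly.G)) = X l := fun l hl => ψ_inj (by
    rw [← hu, u.apply_symm_apply, h1 l hl]; exact subE_coe (mem_cl hl))
  have h3 : ((u.symm (lprod alA.own.e alz) : Ly.G)) = φ (lprod A.e gT) := ψ_inj (by
    rw [← hu, u.apply_symm_apply, ale])
  rw [← hz]
  refine ⟨f.comp u.toMonoidHom, b.comp u.surjective, fun x hx => ?_, ?_, fun l hl => ⟨h2 l hl ▸ (u.symm _).2, ?_⟩,
    fun x hx => ?_⟩
  · obtain ⟨n, hn⟩ : u x ∈ zpowers _ := c.le hx
    exact ⟨n, by rw [← u.symm_apply_apply x, ← hn, map_zpow, coe_zpow, h3]⟩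
  · exact c.ge ⟨1, by rw [← Subtype.ext (a1 := u.symm _) (a2 := ⟨_, _⟩) h3]; simp⟩
  · have : ∀ h, (⟨X l, h⟩ : centralizer _) = u.symm (alA.own.e l) := fun h => Subtype.ext (h2 l hl).symm
    rw [this, ← e3 l hl, ← d l hl]; simp
  · have : (⊤ : Subgroup (cl alA.e alA.L)) ≤ (cl X 18).comap ((Subgroup.subtype _).comp u.symm.toMonoidHom) :=
      (cl_subE alA.e alA.L).ge.trans (cl_le.2 fun l hl => by
        show ((u.symm (alA.own.e l) : Ly.G)) ∈ cl X 18
        rw [h2 l hl]; exact mem_cl hl)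
    simpa using this (mem_top (u ⟨x, hx⟩))

theorem c3 {l : ℕ} (hl : l < 18) : X l ^ 3 = 1 ∧ X (iv l) = (X l)⁻¹ := by
  obtain ⟨a, b⟩ := Bool.and_eq_true_iff.1 (allLt_iff.1 k10 l hl)
  have a := eqA a
  have b := eqA b
  simp only [lprod_cons, lprod_nil, mul_one] at a b
  exact ⟨by rw [pow_three, a], eq_inv_of_mul_eq_one_right b⟩

/-- the elements fixed by an automorphism -/
abbrev Fx (β : MulAut Ly.G) : Subgroup Ly.G := β.toMonoidHom.eqLocus (MonoidHom.id _)

theorem inn0 (β : MulAut Ly.G) (hβ : β (X 19) = X 19) : β ∈ Inn Ly.G := by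
  have := Ly.fin.1
  obtain ⟨π, hs, hk, h1, hR, hC⟩ := exπ
  have z2 : X 19 ^ 2 = 1 := by simpa [pow_two] using eqA k12
  have RW : ∀ w, okW 18 w = true → R π (lprod X w) (q w) := fun w hw => by
    rw [okW_iff] at hw
    induction w with
    | nil => exact ⟨one_mem _, congrArg Subtype.val π.map_one⟩
    | cons a w ih => exact (hR a (hw a (by simp))).mul (ih fun b hb => hw b (by simp [hb]))
  have un : ∀ (β : MulAut Ly.G) (σ τ) c, (∀ g p, R π g p → R π (β g) (σ * p * σ⁻¹)) → R π c (σ * τ) → ∀ l < 18, ∀ m < 18,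
      τ⁻¹ * Alt11.pok.perm l * τ = Alt11.pok.perm m → (MulAut.conj c⁻¹ * β) (X l) = X m := fun β σ τ c h hc l hl m hm e =>
    R.uniq hk z2 (p := Alt11.pok.perm m) (by
      have := (hc.inv.mul (h _ _ (hR l hl))).mul hc
      rw [← e]
      convert this using 1
      · simp
      · group) (hR m hm) (by rw [← map_pow, (c3 hl).1, map_one]) (c3 hm).1
  have ex : ∀ σ ∈ alternatingGroup (Fin 11), ∃ c, R π c σ := fun σ h =>
    let ⟨c, hc⟩ := hs ⟨σ, h⟩
    ⟨c, c.2, congrArg Subtype.val hc⟩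
  have cj : ∀ c (β : MulAut Ly.G), MulAut.conj c * β ∈ Inn Ly.G → β ∈ Inn Ly.G := fun c β =>
    (mul_mem_cancel_left (⟨c, rfl⟩ : MulAut.conj c ∈ Inn Ly.G)).1
  have u1 : X 18 * X 19 * (X 18)⁻¹ = lprod X wt := mul_inv_eq_iff_eq_mul.2 (by simpa [lprod_append] using eqA k1)
  have u2 : X 18 * X 18 = 1 := by simpa using eqA k3
  have st : ∀ β : MulAut Ly.G, β (lprod X wt) = lprod X wt → ∃ σ, ∀ g p, R π g p →
      R π ((MulAut.conj (X 18)⁻¹ * (β * MulAut.conj (X 18))) g) (σ * p * σ⁻¹) := fun β h =>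
    act hs hk h1 _ (by simp [u1, h]; simp [← u1, mul_assoc])
  have mw : ∀ (β : MulAut Ly.G) w, β (lprod X w) = lprod (fun l => β (X l)) w := fun β w => map_lprod β.toMonoidHom w
  obtain ⟨σ, hσ⟩ := act hs hk h1 β hβ
  by_cases c : σ ∈ alternatingGroup (Fin 11)
  · obtain ⟨c, hc⟩ := ex σ c
    refine cj c⁻¹ _ ?_
    have f := fun l hl => un β σ 1 c hσ (by rwa [mul_one]) l hl l hl (by simp)
    generalize MulAut.conj c⁻¹ * β = β at f ⊢
    have f : centralizer {X 19} ≤ Fx β := hC.trans (cl_le.2 f)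
    obtain ⟨σ, hσ⟩ := st β (f (RW wt (by decide +kernel)).1)
    refine (mul_mem_cancel_right (⟨X 18, rfl⟩ : MulAut.conj (X 18) ∈ Inn Ly.G)).1 (cj (X 18)⁻¹ _ ?_)
    have f : centralizer {lprod X wt} ≤ Fx (MulAut.conj (X 18)⁻¹ * (β * MulAut.conj (X 18))) := fun g hg => by
      have : β _ = _ := f (x := X 18 * g * (X 18)⁻¹) (mem_centralizer_singleton_iff.2 (by
        have := congrArg (MulAut.conj (X 18)) (mem_centralizer_singleton_iff.1 hg)
        rwa [map_mul, map_mul, show MulAut.conj (X 18) (lprod X wt) = X 19 by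
          rw [← u1, ← MulAut.conj_apply, ← MulAut.mul_apply, ← map_mul, u2, map_one, MulAut.one_apply]] at this))
      show _ = g
      simp only [MulAut.mul_apply, MulAut.conj_apply, MulEquiv.coe_toMonoidHom, this, MonoidHom.id_apply]
      group
    generalize MulAut.conj (X 18)⁻¹ * (β * MulAut.conj (X 18)) = β at f hσ ⊢
    have g : ∃ c, R π c (σ * 1) ∧ centralizer {lprod X wt} ≤ centralizer {c} := by
      rcases cen (σ := σ) fun k hk => by
        have hw : nthW Rs k ∈ Rs := nthW_eq (ws := Rs) hk ▸ List.getElem_mem _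
        have r := RW _ (allL_iff.1 (by decide +kernel : allL Rs (okW 18) = true) _ hw)
        have e : β _ = _ := f (x := lprod X (nthW Rs k))
          (mem_centralizer_singleton_iff.2 (by simpa [lprod_append] using eqA (allL_iff.1 k4 _ hw)))
        exact (e ▸ hσ _ _ r :).det r
        with rfl | rfl
      · exact ⟨1, by simpa [q] using RW [] rfl, fun _ _ => mem_centralizer_singleton_iff.2 (by simp)⟩
      · exact ⟨_, by simpa using RW wt (by decide +kernel), le_rfl⟩
    obtain ⟨c, hc, g⟩ := g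
    refine cj c⁻¹ _ ?_
    have f1 : centralizer {X 19} ≤ Fx (MulAut.conj c⁻¹ * β) :=
      hC.trans (cl_le.2 fun l hl => un β σ 1 c hσ hc l hl l hl (by simp))
    have f2 : centralizer {lprod X wt} ≤ Fx (MulAut.conj c⁻¹ * β) := fun x hx => by
      have e : β x = x := f hx
      show _ = x
      simp [e, mul_assoc, mem_centralizer_singleton_iff.1 (g hx)]
    generalize MulAut.conj c⁻¹ * β = β at f1 f2 ⊢
    have a : ∀ l < 18, X l ∈ Fx β := fun l hl => f1 (hR l hl).1
    have b : ∀ i < 5, X (20 + i) ∈ Fx β := fun i hi => by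
      by_cases e : i = 2
      · have := f2 (x := lprod X [11, 3, 6, 22, 7, 2, 10])
          (mem_centralizer_singleton_iff.2 (by simpa only [lprod_append] using eqA k6))
        simp only [lprod_cons, lprod_nil, mul_one] at this
        rwa [mul_mem_cancel_left (a _ (by decide)), mul_mem_cancel_left (a _ (by decide)),
          mul_mem_cancel_left (a _ (by decide)), mul_mem_cancel_right (mul_mem (a _ (by decide))
            (mul_mem (a _ (by decide)) (a _ (by decide)))), ← show 20 + i = 22 by omega] at this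
      · exact f1 (mem_centralizer_singleton_iff.2 (by
          simpa using eqA (allL_iff.1 k5 (20 + i) (by simp; omega))))
    have : ⊤ ≤ Fx β := Ly.top.ge.trans (cl_le.2 fun l hl => by
      obtain ⟨i, h, e | e⟩ := (by decide +kernel : ∀ l < 10, ∃ i < 5, l = 2 * i ∨ l = invT fT 10 (2 * i)) l hl
      · rw [e, ← XE i h]; exact b i h
      · rw [e, Ly.hi, ← XE i h]; exact inv_mem (b i h))
    exact ⟨1, by ext x; simpa using (this (mem_top x)).symm⟩
  · obtain ⟨c, hc⟩ := ex (σ * Equiv.swap 0 1) (by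
      rw [Equiv.Perm.mem_alternatingGroup] at c ⊢
      simp [(Int.units_eq_one_or _).resolve_left c])
    have f := fun l hl => un β σ _ c hσ hc l hl (iv l) ((by decide +kernel : ∀ l < 18, iv l < 18) l hl)
      ((by decide +kernel : ∀ l < 18, (Equiv.swap 0 1)⁻¹ * Alt11.pok.perm l * Equiv.swap 0 1 = Alt11.pok.perm (iv l)) l hl)
    generalize MulAut.conj c⁻¹ * β = β at f
    have f' : ∀ w, okW 18 w = true → β (lprod X w) = lprod X (w.map iv) := fun w hw => by
      rw [mw, lprod_congr fun l hl => f l (okW_iff.1 hw l hl), lprod, lprod, List.map_map]; rfl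
    obtain ⟨σ, hσ⟩ := st β ((f' _ (by decide +kernel)).trans (eqA k2))
    have a : X 18 * lprod X wy' * (X 18)⁻¹ = lprod X wy := mul_inv_eq_iff_eq_mul.2 (by simpa [lprod_append] using eqA k7)
    have b : X 18 * X 0 * (X 18)⁻¹ = X 0 := mul_inv_eq_iff_eq_mul.2 (by simpa using eqA k9)
    refine (nocen (σ := σ) (R.det ?_ (RW wy' (by decide +kernel))) (R.det ?_ (RW [1] (by decide +kernel)))).elim
    · convert hσ _ _ (RW wy' (by decide +kernel)) using 1
      simp only [MulAut.mul_apply, MulAut.conj_apply, a, f' wy (by decide +kernel), eqA k8]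
      rw [← a]; group
    · convert hσ _ _ (RW [0] (by decide +kernel)) using 1
      simp only [MulAut.mul_apply, MulAut.conj_apply, lprod_single, b, f 0 (by decide), (c3 (l := 0) (by decide)).2]
      rw [← (by decide +kernel : iv 0 = 1), (c3 (l := 0) (by decide)).2]
      calc _ = (X 18)⁻¹ * (X 18 * X 0 * (X 18)⁻¹)⁻¹ * X 18 := by group
        _ = _ := by rw [b, inv_inv]

theorem inn (α : MulAut Ly.G) : α ∈ Inn Ly.G := by
  have := Ly.fin.1
  have h := S5324.ts.1
  obtain ⟨h1, h2⟩ := h.cen_spec LyF.c1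
  have e : LyF.TT.E S5324.x 128 = X 19 := ψ_inj (by
    rw [Tb.E, (by decide +kernel : LyF.TT.w 128 = [7]), H25.ev_cons, H25.ev_nil, mul_one]
    exact (S5324.ex 7).choose_spec.trans (ex 19).choose_spec.symm)
  obtain ⟨g, hg⟩ := frat (sylIn_of_card (m := 202207730484375) le_top h.isP h.card_S.ge
    (card_top.trans (Ly.fin.2.1.trans (by decide +kernel))) (by decide +kernel)) h.isP
    (fun e => h1 (mem_bot.1 (e ▸ h.E_mem 128))) h2 α
  rw [e] at hg
  exact (mul_mem_cancel_left (⟨g, rfl⟩ : MulAut.conj g ∈ Inn Ly.G)).1 (inn0 (MulAut.conj g * α) hg)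

end Cfsg.Agent.H17.LyO
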