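import Mathlib
import Cfsg.Agent.H17.Simp
import Cfsg.Agent.H14.Iso

/-! Kernel certificates for the simplicity of the `2`-fusion system of an explicit group. -/

set_option autoImplicit false

open Cfsg
open Cfsg.Agent.H14

namespace Cfsg.Agent.H17

variable {G Ω : Type*} [Group G] [MulAction G Ω] (A : Amb G Ω)

/-- The product of the entries of `gs` selected by a bit mask. -/
noncomputable def nf (gs : List ℕ) : ℕ → ℕ :=
  List.rec (motive := fun _ => ℕ → ℕ) (fun _ => A.one)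
    (fun g _ ih m => Bool.rec (ih (Nat.shiftRight m 1)) (force (ih (Nat.shiftRight m 1)) (A.mul g))
      (tb m 0)) gs

theorem nf_spec {K : Subgroup G} (gs : List ℕ) (h : ∀ T ∈ gs, A.ok T ∧ A.el T ∈ K) (m : ℕ) :
    A.ok (nf A gs m) ∧ A.el (nf A gs m) ∈ K := by
  induction gs generalizing m with
  | nil => exact ⟨A.ok_one, A.el_one ▸ K.one_mem⟩
  | cons g gs ih =>
    have h1 := ih (fun T hT => h T (List.mem_cons_of_mem _ hT)) (Nat.shiftRight m 1)
    have h2 := h g List.mem_cons_self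
    show A.ok (Bool.rec (nf A gs _) (force (nf A gs _) (A.mul g)) (tb m 0)) ∧
      A.el (Bool.rec (nf A gs _) (force (nf A gs _) (A.mul g)) (tb m 0)) ∈ K
    cases tb m 0
    · exact h1
    · simp only [force_eq]
      exact ⟨A.ok_mul _ _ h2.1 h1.1, A.el_mul _ _ h2.1 h1.1 ▸ K.mul_mem h2.2 h1.2⟩

theorem nf_gen {gs : List ℕ} (h : ∀ T ∈ gs, A.ok T) (m : ℕ) : A.el (nf A gs m) ∈ A.gen gs :=
  (nf_spec A gs (fun T hT => ⟨h T hT, A.el_mem_gen hT⟩) m).2

/-- `y` is one of the products selected by the masks. -/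
noncomputable def memL (gs ms : List ℕ) (y : ℕ) : Bool := anyL ms fun m => Nat.beq y (nf A gs m)

theorem memL_spec {gs ms : List ℕ} {y : ℕ} (h : ∀ T ∈ gs, A.ok T) (H : memL A gs ms y = true) :
    A.el y ∈ A.gen gs := by
  obtain ⟨m, -, e⟩ := anyL_iff.1 H
  exact nbeq_iff.1 e ▸ nf_gen A h m

/-- `y` is a product of distinct entries of `gs`, of length `k`. -/
noncomputable def memK (gs : List ℕ) (k y : ℕ) : Bool := anyLt (two k) fun m => Nat.beq y (nf A gs m)

theorem memK_spec {gs : List ℕ} {k y : ℕ} (h : ∀ T ∈ gs, A.ok T) (H : memK A gs k y = true) :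
    A.el y ∈ A.gen gs := by
  obtain ⟨m, -, e⟩ := anyLt_iff.1 H
  exact nbeq_iff.1 e ▸ nf_gen A h m

/-- power and conjugate relations. -/
noncomputable def pcChk (gs : List ℕ) : List (List ℕ) → Bool :=
  List.rec (motive := fun _ => List (List ℕ) → Bool) (fun _ => true)
    (fun g gs' ih cs => List.rec (motive := fun _ => Bool) false
      (fun c cs' _ => band (force (A.mul g g) (memL A gs' c))
        (band (allL gs' fun h => force (A.cj g h) (memL A gs' c)) (ih cs'))) cs) gs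

/-- a test on all products. -/
noncomputable def allNF (gs : List ℕ) (q : ℕ → Bool) : ℕ → Bool :=
  List.rec (motive := fun _ => ℕ → Bool) q (fun g _ ih acc => band (ih acc) (force (A.mul acc g) ih)) gs

theorem gen_cons (g : ℕ) (gs : List ℕ) : A.gen (g :: gs) = A.gen gs ⊔ Subgroup.zpowers (A.el g) :=
  le_antisymm (A.gen_le.2 fun T hT => by
    rcases List.mem_cons.1 hT with rfl | h
    · exact Subgroup.mem_sup_right (Subgroup.mem_zpowers _)
    · exact Subgroup.mem_sup_left (A.el_mem_gen h))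
    (sup_le (A.gen_mono fun _ h => List.mem_cons_of_mem _ h)
      (Subgroup.zpowers_le.2 (A.el_mem_gen List.mem_cons_self)))

theorem mem_or_of_sq {P : Subgroup G} {g x : G} (hg : g ∈ Subgroup.normalizer (P : Set G))
    (h2 : g * g ∈ P) (hx : x ∈ P ⊔ Subgroup.zpowers g) : x ∈ P ∨ g⁻¹ * x ∈ P := by
  have c := fun y hy => conj_mem_of_mem_normalizer' hg (y := y) hy
  let W : Subgroup G :=
    { carrier := {x | x ∈ P ∨ g⁻¹ * x ∈ P}
      one_mem' := Or.inl P.one_mem
      mul_mem' := by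
        rintro a b (ha | ha) (hb | hb)
        · exact Or.inl (P.mul_mem ha hb)
        · exact Or.inr (by simpa [mul_assoc] using P.mul_mem (c a ha) hb)
        · exact Or.inr (by simpa [mul_assoc] using P.mul_mem ha hb)
        · exact Or.inl (by simpa [mul_assoc] using P.mul_mem h2 (P.mul_mem (c _ ha) hb))
      inv_mem' := by
        rintro a (ha | ha)
        · exact Or.inl (P.inv_mem ha)
        · exact Or.inr (by simpa [mul_assoc] using P.inv_mem (P.mul_mem h2 (c _ ha))) }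
  exact (sup_le (fun _ h => Or.inl h) (Subgroup.zpowers_le.2 (Or.inr (by simp))) : _ ≤ W) hx

theorem mem_normalizer_gen [Finite G] {gs : List ℕ} {g : G}
    (h : ∀ T ∈ gs, g * A.el T * g⁻¹ ∈ A.gen gs) : g ∈ Subgroup.normalizer (A.gen gs : Set G) :=
  H18.mem_normalizer_of_conj_mem fun _ hx =>
    (A.gen_le (K := (A.gen gs).comap (MulAut.conj g).toMonoidHom)).2 h hx

theorem pc_spec [Finite G] (gs : List ℕ) (h : ∀ T ∈ gs, A.ok T) (cs : List (List ℕ))
    (H : pcChk A gs cs = true) : IsPGroup 2 (A.gen gs) ∧ ∀ q acc, A.ok acc → allNF A gs q acc = true →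
      ∀ x ∈ A.gen gs, ∃ T, A.ok T ∧ A.el T = A.el acc * x ∧ q T = true := by
  induction gs generalizing cs with
  | nil =>
    have : A.gen [] = ⊥ := eq_bot_iff.2 (A.gen_le.2 fun _ h => by cases h)
    rw [this]
    exact ⟨IsPGroup.of_bot, fun q acc h1 h2 x hx => ⟨acc, h1, by simpa using hx, h2⟩⟩
  | cons g gs ih =>
    cases cs with
    | nil => cases H
    | cons c cs =>
      obtain ⟨h1, h2⟩ := band_iff.1 H
      obtain ⟨h2, h3⟩ := band_iff.1 h2
      have h' := fun T hT => h T (List.mem_cons_of_mem _ hT)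
      have hg := h g List.mem_cons_self
      obtain ⟨k1, k2⟩ := ih h' cs h3
      rw [force_eq] at h1
      have k3 : A.el g * A.el g ∈ A.gen gs := A.el_mul _ _ hg hg ▸ memL_spec A h' h1
      have k4 := mem_normalizer_gen A (g := A.el g) fun T hT => by
        have := allL_iff.1 h2 T hT
        rw [force_eq] at this
        exact A.el_cj _ _ hg (h' T hT) ▸ memL_spec A h' this
      rw [gen_cons]
      refine ⟨isPGroup_sup_zpowers k1 ?_ k4, fun q acc j1 j2 x hx => ?_⟩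
      · obtain ⟨k, hk⟩ := pEl_of_mem k1 k3
        exact ⟨k + 1, by rw [pow_succ', pow_mul, sq, hk]⟩
      obtain ⟨j2, j3⟩ := band_iff.1 j2
      rw [force_eq] at j3
      rcases mem_or_of_sq k4 k3 hx with hx | hx
      · exact k2 q acc j1 j2 x hx
      · obtain ⟨T, l1, l2, l3⟩ := k2 q _ (A.ok_mul _ _ j1 hg) j3 _ hx
        exact ⟨T, l1, by rw [l2, A.el_mul _ _ j1 hg]; group, l3⟩

/-- new elements of a strongly closed subgroup from old ones. -/
noncomputable def xRun (test : ℕ → Bool) (gs : List ℕ) (steps : List (ℕ × ℕ × ℕ)) : List ℕ → Bool :=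
  List.rec (motive := fun _ => List ℕ → Bool) (fun L => allL gs fun g => anyL L (Nat.beq g))
    (fun s _ ih L => band (band (A.okb s.1) (test s.1)) (force (nf A L s.2.1) fun x =>
      force (A.cj s.1 x) fun y => band (Nat.beq y (nf A gs s.2.2)) (ih (y :: L)))) steps

theorem xRun_spec (K : CSub A) {gs : List ℕ} (h : ∀ T ∈ gs, A.ok T) {T : Subgroup G}
    (hT : ∀ g ∈ K.K, ∀ x ∈ T, g * x * g⁻¹ ∈ A.gen gs → g * x * g⁻¹ ∈ T) (steps : List (ℕ × ℕ × ℕ))
    (L : List ℕ) (hL : ∀ U ∈ L, A.ok U ∧ A.el U ∈ T) (H : xRun A K.test gs steps L = true) :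
    A.gen gs ≤ T := by
  induction steps generalizing L with
  | nil =>
    refine A.gen_le.2 fun g hg => ?_
    obtain ⟨U, h1, h2⟩ := anyL_iff.1 (allL_iff.1 H g hg)
    exact nbeq_iff.1 h2 ▸ (hL U h1).2
  | cons s steps ih =>
    obtain ⟨h1, h2⟩ := band_iff.1 H
    obtain ⟨h1, h3⟩ := band_iff.1 h1
    rw [force_eq, force_eq] at h2
    obtain ⟨h2, h4⟩ := band_iff.1 h2
    have k1 := A.okb_ok _ h1
    obtain ⟨k2, k3⟩ := nf_spec A L hL s.2.1
    refine ih _ (fun U hU => ?_) h4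
    rcases List.mem_cons.1 hU with rfl | hU
    · refine ⟨A.ok_cj _ _ k1 k2, ?_⟩
      rw [A.el_cj _ _ k1 k2]
      refine hT _ ((K.test_iff _ k1).1 h3) _ k3 ?_
      rw [← A.el_cj _ _ k1 k2, nbeq_iff.1 h2]
      exact nf_gen A h _
    · exact hL U hU

/-- `x` commutes with all entries. -/
noncomputable def commAll (l : List ℕ) (x : ℕ) : Bool := allL l fun g => Nat.beq (A.cj g x) x

theorem commAll_of {l : List ℕ} (h : ∀ T ∈ l, A.ok T) {x : ℕ} (hx : A.ok x)
    (hc : A.el x ∈ Subgroup.centralizer (A.gen l : Set G)) : commAll A l x = true :=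
  allL_iff.2 fun g hg => (A.commute_iff (h g hg) hx).1 (hc _ (A.el_mem_gen hg))

theorem sylIn_of_card [Finite G] {S H : Subgroup G} (h1 : S ≤ H) (h2 : IsPGroup 2 S) {n m : ℕ}
    (h3 : 2 ^ n ≤ Nat.card S) (h4 : Nat.card H = 2 ^ n * m) (hm : m % 2 = 1) : H18.SylIn 2 S H := by
  refine H18.sylIn_of_card_le h1 h2 fun T hT hp _ => le_trans ?_ h3
  obtain ⟨j, hj⟩ := hp.exists_card_eq
  have := Subgroup.card_dvd_of_le hT
  rw [hj, h4] at this
  rw [hj]
  exact Nat.le_of_dvd (by positivity) ((Nat.Coprime.pow_left j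
    (Nat.coprime_two_left.2 (Nat.odd_iff.2 hm))).dvd_of_dvd_mul_right this)

/-- The Sylow subgroup. -/
noncomputable def sylChk (K : CSub A) (lv : List (ℕ × List ℕ)) (n m : ℕ) (cs : List (List ℕ)) : Bool :=
  band (A.chainChk K.test lv (two n)) (band (pcChk A (chainGens lv) cs)
    (band (Nat.beq K.ord (Nat.mul (two n) m)) (Nat.beq (Nat.mod m 2) 1)))

theorem sylChk_spec [Finite G] {K : CSub A} {lv : List (ℕ × List ℕ)} {n m : ℕ} {cs : List (List ℕ)}
    (H : sylChk A K lv n m cs = true) : (∀ T ∈ chainGens lv, A.ok T) ∧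
      H18.SylIn 2 (A.gen (chainGens lv)) K.K ∧ ∀ q, allNF A (chainGens lv) q A.one = true →
        ∀ x ∈ A.gen (chainGens lv), ∃ T, A.ok T ∧ A.el T = x ∧ q T = true := by
  obtain ⟨h1, h2⟩ := band_iff.1 H
  obtain ⟨h2, h3⟩ := band_iff.1 h2
  obtain ⟨h3, h4⟩ := band_iff.1 h3
  obtain ⟨k1, k2⟩ := A.chainChk_spec h1
  obtain ⟨k3, k4⟩ := pc_spec A _ (fun T hT => (k1 T hT).1) cs h2
  refine ⟨fun T hT => (k1 T hT).1, sylIn_of_card (A.gen_le.2 fun T hT =>
    (K.test_iff T (k1 T hT).1).1 (k1 T hT).2) k3 (n := n) (m := m) (two_eq n ▸ k2)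
    (by rw [K.card_eq, nbeq_iff.1 h3, two_eq]; rfl) (nbeq_iff.1 h4), fun q hq x hx => ?_⟩
  simpa [A.el_one] using k4 q _ A.ok_one hq x hx

/-- The local subgroup `L` normalises `Q = ⟨qs⟩` and is generated by `2`-elements. -/
noncomputable def locChk (K L : CSub A) (gs qs qm : List ℕ) (k : ℕ) (ts : List ℕ) (e : ℕ) : Bool :=
  band (band (allL L.gens K.test) (allL qs fun q => band (A.okb q) (memL A gs qm q)))
    (band (allL L.gens fun l => allL qs fun q => force (A.cj l q) (memK A qs k))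
      (band (allL ts fun t => band (band (A.okb t) (L.test t)) (Nat.beq (A.pow t (two e)) A.one))
        (allL L.gens fun l => anyL ts fun t =>
          force (A.mul (A.inv t) l) fun u => Nat.beq (A.pow u (two e)) A.one)))

theorem locChk_spec [Finite G] {K L : CSub A} {gs qs qm : List ℕ} {k : ℕ} {ts : List ℕ} {e : ℕ}
    (h : ∀ T ∈ gs, A.ok T) (H : locChk A K L gs qs qm k ts e = true) :
    (∀ T ∈ qs, A.ok T) ∧ A.gen qs ≤ A.gen gs ∧ L.K ≤ K.K ∧ L.K ≤ Subgroup.normalizer (A.gen qs : Set G) ∧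
      L.K ≤ Subgroup.closure {x | x ∈ L.K ∧ PEl 2 x} := by
  obtain ⟨h1, h2⟩ := band_iff.1 H
  obtain ⟨h1, h3⟩ := band_iff.1 h1
  obtain ⟨h2, h4⟩ := band_iff.1 h2
  obtain ⟨h4, h5⟩ := band_iff.1 h4
  have k1 : ∀ T ∈ qs, A.ok T := fun T hT => A.okb_ok T (band_iff.1 (allL_iff.1 h3 T hT)).1
  refine ⟨k1, A.gen_le.2 fun T hT => memL_spec A h (band_iff.1 (allL_iff.1 h3 T hT)).2,
    K.le_of_test L h1, L.le_iff.2 fun l hl => mem_normalizer_gen A fun T hT => ?_,
    L.le_iff.2 fun l hl => ?_⟩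
  · have := allL_iff.1 (allL_iff.1 h2 l hl) T hT
    rw [force_eq] at this
    exact A.el_cj _ _ (L.gens_ok l hl) (k1 T hT) ▸ memK_spec A k1 this
  · obtain ⟨t, j1, j2⟩ := anyL_iff.1 (allL_iff.1 h5 l hl)
    obtain ⟨j3, j4⟩ := band_iff.1 (allL_iff.1 h4 t j1)
    have j5 := A.okb_ok t (band_iff.1 j3).1
    have j6 := (L.test_iff t j5).1 (band_iff.1 j3).2
    have j7 := A.ok_mul _ _ (A.ok_inv t j5) (L.gens_ok l hl)
    rw [force_eq, ← A.pow_eq_one_iff j7, A.el_mul _ _ (A.ok_inv t j5) (L.gens_ok l hl), A.el_inv _ j5,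
      two_eq] at j2
    rw [← A.pow_eq_one_iff j5, two_eq] at j4
    rw [← mul_inv_cancel_left (A.el t) (A.el l)]
    exact mul_mem (Subgroup.subset_closure ⟨j6, e, j4⟩) (Subgroup.subset_closure
      ⟨L.K.mul_mem (L.K.inv_mem j6) (L.el_mem hl), e, j2⟩)

/-- The centre of the Sylow subgroup is `{1, z}` and `Q` is self-centralising. -/
noncomputable def cenChk (gs qs : List ℕ) (k z : ℕ) : Bool :=
  allNF A gs (fun x => band (bor (bnot (commAll A gs x)) (bor (Nat.beq x A.one) (Nat.beq x z)))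
    (bor (bnot (commAll A qs x)) (memK A qs k x))) A.one

theorem simple_of_chk [Finite G] (K L : CSub A) {lv : List (ℕ × List ℕ)} {n m : ℕ} {cs : List (List ℕ)}
    {qs qm : List ℕ} {k : ℕ} {ts : List ℕ} {e z zm : ℕ} {steps : List (ℕ × ℕ × ℕ)}
    (H1 : sylChk A K lv n m cs = true) (H2 : locChk A K L (chainGens lv) qs qm k ts e = true)
    (H3 : cenChk A (chainGens lv) qs k z = true)
    (H4 : band (band (Nat.beq z (nf A (chainGens lv) zm)) (bnot (Nat.beq z A.one)))
      (xRun A K.test (chainGens lv) steps [z]) = true)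
    (hL : A.ok z → ∀ g ∈ K.K, g * A.el z * g⁻¹ = A.el z → g ∈ L.K)
    {S' : Subgroup K.K} (hS' : H18.SylIn 2 S' ⊤) : (groupFusionSystem S').IsSimple 2 := by
  obtain ⟨h1, h2, h3⟩ := sylChk_spec A H1
  obtain ⟨k1, k2, k3, k4, k5⟩ := locChk_spec A h1 H2
  obtain ⟨h4, h5⟩ := band_iff.1 H4
  obtain ⟨h4, h6⟩ := band_iff.1 h4
  have hz := nf_spec A _ (fun T hT => ⟨h1 T hT, A.el_mem_gen hT⟩) zm
  rw [← nbeq_iff.1 h4] at hz
  have hz1 : A.el z ≠ 1 := fun h => bnot_iff.1 h6 ((A.el_eq_one_iff hz.1).1 h)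
  have h0 : A.gen (chainGens lv) ≠ ⊥ := fun h => hz1 (by simpa [h] using hz.2)
  have hZ : ∀ x ∈ A.gen (chainGens lv), x ∈ Subgroup.centralizer (A.gen (chainGens lv) : Set G) →
      x ≠ 1 → x = A.el z := fun x hx hc hne => by
    obtain ⟨T, j1, rfl, j2⟩ := h3 _ H3 x hx
    rcases bor_iff.1 (band_iff.1 j2).1 with j | j
    · exact absurd (commAll_of A h1 j1 hc) (bnot_iff.1 j)
    · rcases bor_iff.1 j with j | j
      · exact absurd ((A.el_eq_one_iff j1).2 j) hne
      · rw [nbeq_iff.1 j]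
  have hN : ∀ g ∈ K.K, g ∈ Subgroup.normalizer (A.gen (chainGens lv) : Set G) → g ∈ L.K := by
    intro g hg hN
    obtain ⟨x, j1, j2, -, j3⟩ := exists_central_of_sc h2.isP le_rfl Subgroup.le_normalizer h0
    obtain rfl := hZ x j1 j3 j2
    refine hL hz.1 g hg (hZ _ (conj_mem_of_mem_normalizer hN j1) (fun y hy => ?_) (by simpa using j2))
    have := j3 _ (conj_mem_of_mem_normalizer' hN hy)
    calc y * (g * A.el z * g⁻¹) = g * (g⁻¹ * y * g * A.el z) * g⁻¹ := by group
      _ = _ := by rw [this]; group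
  refine simple_of_cert h2 h0 (fun T j1 j2 x j3 j4 j5 => ?_) k2 k3 k4
    (fun x hx => hN x (h2.le hx) (Subgroup.le_normalizer hx)) (fun x hx hc => ?_)
    (fun g hg j _ => hN g hg j) k5 hS'
  · obtain rfl := hZ x (j1 j3) j5 j4
    exact xRun_spec A K h1 j2 steps [z] (by simpa using ⟨hz.1, j3⟩) h5
  · obtain ⟨T, j1, rfl, j2⟩ := h3 _ H3 x hx
    rcases bor_iff.1 (band_iff.1 j2).2 with j | j
    · exact absurd (commAll_of A k1 j1 hc) (bnot_iff.1 j)
    · exact memK_spec A k1 j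

end Cfsg.Agent.H17
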