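import Mathlib
import Cfsg.Agent.H17.SimpC
import Cfsg.Agent.H17.Simp2
import Cfsg.Agent.H25.Word

/-! Simplicity of a `2`-fusion system from a multiplication table of the Sylow subgroup and a
sound test for the equality of words. -/

set_option autoImplicit false

open Cfsg
open Cfsg.Agent.H14
open Cfsg.Agent.H25 (ev ev_nil ev_cons ev_append ev_mem)

namespace Cfsg.Agent.H17

section Abs
variable {G : Type*} [Group G] [Finite G]

theorem rig_step {A : Subgroup G → Subgroup G} (hA : NFam 2 A) {S M D : Subgroup G} (hS : IsPGroup 2 S)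
    (hM : M ≤ Subgroup.normalizer (S : Set G)) (hD : D ≤ S) (hMD : ∀ h ∈ M, ∀ c ∈ D, h * c = c * h)
    {x x' : G} (ih : ∀ h ∈ M, h * x = x * h → h ∈ A S)
    (hc : ∀ h ∈ M, (∃ u ∈ M, u ∈ A S ∧ ∃ c ∈ D, h * x * h⁻¹ = u * x * u⁻¹ * c) ∨
      ∃ c ∈ D, h * x * h⁻¹ = x' * c) : M ≤ A S := by
  have fin : ∀ h ∈ M, ∀ c ∈ D, h * x * h⁻¹ = x * c → h ∈ A S := fun h hh c hc e => by
    obtain ⟨k, hk⟩ := pEl_of_mem hS (hD hc)
    have : ∀ m : ℕ, h ^ m * x = x * c ^ m * h ^ m := fun m => by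
      induction m with
      | zero => simp
      | succ m ih =>
        have e1 : h * c ^ m = c ^ m * h := hMD h hh _ (D.pow_mem hc m)
        rw [pow_succ' h, mul_assoc, ih, ← mul_assoc, ← mul_assoc, mul_inv_eq_iff_eq_mul.1 e,
          mul_assoc (x * c), e1, pow_succ' c]
        simp only [mul_assoc]
    exact hA.of_pow (hM hh) (ih _ (M.pow_mem hh _) (by rw [this, hk, mul_one]))
  have one : ∀ h ∈ M, (∃ u ∈ M, u ∈ A S ∧ ∃ c ∈ D, h * x * h⁻¹ = u * x * u⁻¹ * c) → h ∈ A S := by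
    rintro h hh ⟨u, h1, h2, c, h3, e⟩
    have := fin _ (M.mul_mem (M.inv_mem h1) hh) c h3 (by
      calc u⁻¹ * h * x * (u⁻¹ * h)⁻¹ = u⁻¹ * (h * x * h⁻¹) * u := by group
        _ = x * u⁻¹ * (c * u) := by rw [e]; group
        _ = _ := by rw [← hMD u h1 c h3]; group)
    simpa using (A S).mul_mem h2 this
  intro h hh
  rcases hc h hh with h1 | ⟨c, h1, e⟩
  · exact one h hh h1
  rcases hc _ (M.mul_mem hh hh) with h2 | ⟨c', h2, e'⟩
  · exact hA.of_pow (k := 1) (hM hh) (by rw [pow_one, sq]; exact one _ (M.mul_mem hh hh) h2)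
  have h3 := D.mul_mem (D.inv_mem h1) h2
  refine fin h hh _ h3 ?_
  calc h * x * h⁻¹ = h⁻¹ * (h * h * x * (h * h)⁻¹) * h := by group
    _ = h⁻¹ * (x' * c) * (c⁻¹ * c' * h) := by rw [e']; group
    _ = _ := by rw [← e, ← hMD h hh _ h3]; group

end Abs

/-- the word with letters `j, j + st, …` selected by the bits of `m` -/
noncomputable def nw (st n : ℕ) : ℕ → ℕ → List ℕ :=
  Nat.rec (motive := fun _ => ℕ → ℕ → List ℕ) (fun _ _ => [])
    (fun _ ih j m => force (Nat.add j st) fun j' => force (Nat.shiftRight m 1) fun m' =>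
      Bool.rec (ih j' m') (j :: ih j' m') (tb m 0)) n

theorem nw_succ (st n j m : ℕ) : nw st (n + 1) j m =
    Bool.rec (nw st n (j + st) (m >>> 1)) (j :: nw st n (j + st) (m >>> 1)) (tb m 0) := by
  show force (Nat.add j st) (fun j' => force (Nat.shiftRight m 1) fun m' =>
      (Bool.rec (nw st n j' m') (j :: nw st n j' m') (tb m 0) : List ℕ)) = _
  rw [force_eq, force_eq]; rfl

theorem nw_lt (n : ℕ) : ∀ j m, ∀ a ∈ nw 1 n j m, a < j + n := by
  induction n with
  | zero => intro j m a h; cases h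
  | succ n ih =>
    intro j m a h
    rw [nw_succ] at h
    cases e : tb m 0 <;> rw [e] at h
    · have := ih _ _ a h; omega
    · rcases List.mem_cons.1 h with h | h
      · omega
      · have := ih _ _ a h; omega

theorem nw_zero (st n : ℕ) : ∀ j, nw st n j 0 = [] := by
  induction n with
  | zero => intro j; rfl
  | succ n ih => intro j; rw [nw_succ]; exact ih _

/-- first order formulas; a quantifier binds an element and its inverse -/
inductive Fm
  | one (u : List ℕ)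
  | not (f : Fm)
  | and (f g : Fm)
  | all (f : Fm)

/-- two more values -/
def cons2 {α : Type*} (a b : α) (ρ : ℕ → α) : ℕ → α
  | 0 => a
  | 1 => b
  | i + 2 => ρ i

/-- satisfaction -/
def Fm.sat {G : Type*} [Group G] (S : Subgroup G) : Fm → (ℕ → G) → Prop
  | .one u, ρ => ev ρ u = 1
  | .not f, ρ => ¬ f.sat S ρ
  | .and f g, ρ => f.sat S ρ ∧ g.sat S ρ
  | .all f, ρ => ∀ s ∈ S, f.sat S (cons2 s s⁻¹ ρ)

theorem Fm.sat_conj {G : Type*} [Group G] {S : Subgroup G} {h : G}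
    (hh : h ∈ Subgroup.normalizer (S : Set G)) (f : Fm) :
    ∀ ρ : ℕ → G, f.sat S (fun i => h * ρ i * h⁻¹) ↔ f.sat S ρ := by
  induction f with
  | one u =>
    intro ρ
    have := H25.map_ev (MulAut.conj h).toMonoidHom ρ u
    simp only [MulEquiv.toMonoidHom_eq_coe, MonoidHom.coe_coe, MulAut.conj_apply] at this
    simp only [Fm.sat, ← this, conj_eq_one_iff]
  | not f ih => intro ρ; exact not_congr (ih ρ)
  | and f g i1 i2 => intro ρ; exact and_congr (i1 ρ) (i2 ρ)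
  | all f ih =>
    intro ρ
    have e : ∀ s : G, (fun i => h * cons2 s s⁻¹ ρ i * h⁻¹) =
        cons2 (h * s * h⁻¹) (h * s * h⁻¹)⁻¹ fun i => h * ρ i * h⁻¹ := fun s => by
      funext i
      rcases i with _ | _ | i
      · rfl
      · show h * s⁻¹ * h⁻¹ = (h * s * h⁻¹)⁻¹
        group
      · rfl
    refine ⟨fun H s hs => (ih _).1 (e s ▸ H _ (conj_mem_of_mem_normalizer hh hs)), fun H s hs => ?_⟩
    have := (ih _).2 (H _ (conj_mem_of_mem_normalizer' hh hs))
    rw [e] at this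
    simpa [mul_assoc] using this

/-- right multiplication tables and the table of inverses of a group of order `2 ^ n` -/
structure Tb where
  n : ℕ
  R : ℕ
  I : ℕ

namespace Tb
variable (T : Tb)

noncomputable def w (a : ℕ) : List ℕ := nw 1 T.n 0 a
noncomputable def r (j a : ℕ) : ℕ := H14.get T.n T.R (Nat.add (Nat.shiftLeft j T.n) a)
noncomputable def tr (u : List ℕ) : ℕ → ℕ :=
  List.rec (motive := fun _ => ℕ → ℕ) (fun a => a) (fun j _ ih a => force (T.r j a) ih) u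
noncomputable def mu (a b : ℕ) : ℕ := T.tr (T.w b) a
noncomputable def iv (a : ℕ) : ℕ := H14.get T.n T.I a
noncomputable def wr (L u : List ℕ) : ℕ → ℕ :=
  List.rec (motive := fun _ => ℕ → ℕ) (fun a => a) (fun l _ ih a => force (T.mu a (nth L l)) ih) u

noncomputable def evb (f : Fm) : List ℕ → Bool :=
  Fm.rec (motive := fun _ => List ℕ → Bool) (fun u L => Nat.beq (T.wr L u 0) 0)
    (fun _ ih L => bnot (ih L)) (fun _ _ i1 i2 L => band (i1 L) (i2 L))
    (fun _ ih L => allLt (two T.n) fun a => force a fun a => force (T.iv a) fun b => ih (a :: b :: L)) f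

noncomputable def lt (a : ℕ) : Bool := Nat.ble (Nat.succ a) (two T.n)

noncomputable def tabChk (chk : List ℕ → List ℕ → Bool) (lo hi : ℕ) : Bool :=
  allLt (Nat.sub hi lo) fun i => force (Nat.add lo i) fun a => band (Nat.beq (T.mu a (T.iv a)) 0)
    (allLt T.n fun j => chk (T.w a ++ [j]) (T.w (T.r j a)))

noncomputable def injChk (f : ℕ → ℕ) : Bool :=
  allLt (two T.n) fun a => force a fun a => force (f a) fun s => allLt a fun b => bnot (Nat.beq s (f b))

noncomputable def cenChk (z : ℕ) : Bool :=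
  band (T.lt z) (band (bnot (Nat.beq z 0)) (allLt (two T.n) fun a => force a fun a =>
    bor (anyLt T.n fun j => bnot (Nat.beq (T.r j a) (T.mu (T.r j 0) a)))
      (bor (Nat.beq a 0) (Nat.beq a z))))

noncomputable def fuse (chk : List ℕ → List ℕ → Bool) (steps : List (List ℕ × List ℕ × ℕ)) :
    List ℕ → Bool :=
  List.rec (motive := fun _ => List ℕ → Bool)
    (fun M => allLt T.n fun j => anyL M (Nat.beq (T.r j 0)))
    (fun s _ ih M => band (chk (s.1 ++ T.w (T.wr M s.2.1 0)) (T.w s.2.2 ++ s.1)) (ih (s.2.2 :: M))) steps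

noncomputable def cosm (L : List ℕ) (k x : ℕ) : ℕ := orLt (two k) fun m => two (T.wr L (nw 2 k 0 m) x)

noncomputable def rig (chk : List ℕ → List ℕ → Bool) (q : ℕ)
    (steps : List (ℕ × ℕ × Fm × List (List ℕ × ℕ))) : ℕ → List ℕ → Bool :=
  List.rec (motive := fun _ => ℕ → List ℕ → Bool)
    (fun k L => force (T.cosm L k 0) fun c => allLt T.n fun j => tb c (T.r j 0))
    (fun s _ ih k L => band (band (T.lt s.1) (T.lt s.2.1)) (band (T.evb s.2.2.1 (s.1 :: T.iv s.1 :: L))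
      (band (allL s.2.2.2 fun u => band (allL u.1 fun a => Nat.ble (Nat.succ a) q) (band (T.lt u.2)
        (band (chk (u.1 ++ T.w s.1) (T.w u.2 ++ u.1)) (allL L fun l => chk (u.1 ++ T.w l) (T.w l ++ u.1)))))
      (band (force (T.cosm L k s.1) fun c => force (T.cosm L k s.2.1) fun c' =>
        allLt (two T.n) fun y => force y fun y => bor (tb c y) (bor (tb c' y)
          (bor (bnot (T.evb s.2.2.1 (y :: T.iv y :: L))) (anyL s.2.2.2 fun u => tb (T.cosm L k u.2) y))))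
        (force (T.iv s.1) fun b => force (Nat.succ k) fun k' => ih k' (s.1 :: b :: L)))))) steps

noncomputable def memQ (qs : List ℕ) (y : ℕ) : Bool :=
  force y fun y => anyLt (two qs.length) fun m => Nat.beq y (T.wr qs (nw 1 qs.length 0 m) 0)

noncomputable def qChk (chk : List ℕ → List ℕ → Bool) (qs ns : List ℕ) (ts : List (ℕ × List ℕ)) : Bool :=
  band (allLt T.n fun j => band (chk [T.n, j] (T.w (nth ns j) ++ [T.n]))
      (allL qs fun q => T.memQ qs (T.mu (T.mu (T.r j 0) q) (T.iv (T.r j 0)))))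
    (band (allLt (two T.n) fun a => force a fun a =>
      bor (anyL qs fun q => bnot (Nat.beq (T.mu a q) (T.mu q a))) (T.memQ qs a))
    (band (band (allL qs T.lt) (chk [T.n] (ts.map Prod.fst))) (allL ts fun t =>
      band (chk (List.replicate 8 t.1) []) (allLt qs.length fun i =>
        chk (t.1 :: T.w (nth qs i)) (T.w (T.wr qs (nw 1 qs.length 0 (nth t.2 i)) 0) ++ [t.1])))))

variable {G : Type*} [Group G] (x : ℕ → G)

noncomputable def E (a : ℕ) : G := ev x (T.w a)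

structure TS : Prop where
  mul : ∀ a < 2 ^ T.n, ∀ j < T.n, T.E x a * x j = T.E x (T.r j a)
  inv : ∀ a < 2 ^ T.n, T.mu a (T.iv a) = 0
  inj : ∀ a < 2 ^ T.n, ∀ b < 2 ^ T.n, T.E x a = T.E x b → a = b

variable {T x} {chk : List ℕ → List ℕ → Bool}

theorem lt_iff {a : ℕ} : T.lt a = true ↔ a < 2 ^ T.n := by rw [lt, nble_iff, two_eq]; rfl

theorem r_lt (j a : ℕ) : T.r j a < 2 ^ T.n := get_lt _ _ _

theorem iv_lt (a : ℕ) : T.iv a < 2 ^ T.n := get_lt _ _ _

theorem w_lt {a j : ℕ} (h : j ∈ T.w a) : j < T.n := by simpa using nw_lt _ _ _ j h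

theorem E_zero : T.E x 0 = 1 := by rw [E, w, nw_zero, ev_nil]

theorem tabChk_spec (hchk : ∀ u v, chk u v = true → ev x u = ev x v) {lo hi : ℕ}
    (h : T.tabChk chk lo hi = true) (a : ℕ) (h1 : lo ≤ a) (h2 : a < hi) :
    T.mu a (T.iv a) = 0 ∧ ∀ j < T.n, T.E x a * x j = T.E x (T.r j a) := by
  have := allLt_iff.1 h (a - lo) (show a - lo < hi - lo by omega)
  rw [force_eq, show Nat.add lo (a - lo) = a from Nat.add_sub_of_le h1, band_iff, nbeq_iff,
    allLt_iff] at this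
  exact ⟨this.1, fun j hj => by simpa [E] using hchk _ _ (this.2 j hj)⟩

theorem injChk_spec {f : ℕ → ℕ} (h : T.injChk f = true)
    (hf : ∀ a b, T.E x a = T.E x b → f a = f b) :
    ∀ a < 2 ^ T.n, ∀ b < 2 ^ T.n, T.E x a = T.E x b → a = b := by
  have key : ∀ a < 2 ^ T.n, ∀ b < a, T.E x a ≠ T.E x b := fun a ha b hb e => by
    have := allLt_iff.1 h a (two_eq _ ▸ ha)
    rw [force_eq, force_eq, allLt_iff] at this
    exact bnot_iff.1 (this b hb) (nbeq_iff.2 (hf a b e))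
  intro a ha b hb e
  rcases lt_trichotomy a b with h | h | h
  · exact absurd e.symm (key b hb a h)
  · exact h
  · exact absurd e (key a ha b h)

namespace TS
variable (h : T.TS x)
include h

theorem tr_spec {u : List ℕ} (hu : ∀ j ∈ u, j < T.n) :
    ∀ a < 2 ^ T.n, T.tr u a < 2 ^ T.n ∧ T.E x (T.tr u a) = T.E x a * ev x u := by
  induction u with
  | nil => intro a ha; exact ⟨ha, (mul_one _).symm⟩
  | cons j u ih =>
    intro a ha
    rw [show T.tr (j :: u) a = T.tr u (T.r j a) from force_eq _ _, ev_cons, ← mul_assoc,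
      h.mul a ha j (hu j (by simp))]
    exact ih (fun i hi => hu i (by simp [hi])) _ (get_lt _ _ _)

theorem mu_spec {a : ℕ} (ha : a < 2 ^ T.n) (b : ℕ) :
    T.mu a b < 2 ^ T.n ∧ T.E x (T.mu a b) = T.E x a * T.E x b := h.tr_spec (fun _ => w_lt) a ha

theorem iv_spec {a : ℕ} (ha : a < 2 ^ T.n) : T.E x (T.iv a) = (T.E x a)⁻¹ := by
  refine eq_inv_of_mul_eq_one_right ?_
  rw [← (h.mu_spec ha _).2, h.inv a ha, E_zero]

theorem wr_spec (L u : List ℕ) : ∀ a < 2 ^ T.n, T.wr L u a < 2 ^ T.n ∧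
    T.E x (T.wr L u a) = T.E x a * ev (fun i => T.E x (nth L i)) u := by
  induction u with
  | nil => intro a ha; exact ⟨ha, (mul_one _).symm⟩
  | cons j u ih =>
    intro a ha
    rw [show T.wr L (j :: u) a = T.wr L u (T.mu a (nth L j)) from force_eq _ _, ev_cons, ← mul_assoc,
      ← (h.mu_spec ha _).2]
    exact ih _ (h.mu_spec ha _).1

theorem wr_zero (L u : List ℕ) : T.E x (T.wr L u 0) = ev (fun i => T.E x (nth L i)) u := by
  rw [(h.wr_spec L u 0 (by positivity)).2, E_zero, one_mul]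

theorem gen {j : ℕ} (hj : j < T.n) : T.E x (T.r j 0) = x j := by
  rw [← h.mul 0 (by positivity) j hj, E_zero, one_mul]

/-- the group of the table -/
def S : Subgroup G where
  carrier := T.E x '' {a | a < 2 ^ T.n}
  one_mem' := ⟨0, show 0 < _ by positivity, E_zero⟩
  mul_mem' := by rintro _ _ ⟨a, ha, rfl⟩ ⟨b, -, rfl⟩; exact ⟨_, (h.mu_spec ha b).1, (h.mu_spec ha b).2⟩
  inv_mem' := by rintro _ ⟨a, ha, rfl⟩; exact ⟨_, get_lt _ _ _, h.iv_spec ha⟩

theorem x_mem {j : ℕ} (hj : j < T.n) : x j ∈ h.S := ⟨_, get_lt _ _ _, h.gen hj⟩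

theorem E_mem (a : ℕ) : T.E x a ∈ h.S := ev_mem fun _ hj => h.x_mem (w_lt hj)

theorem S_le {K : Subgroup G} (hK : ∀ j < T.n, x j ∈ K) : h.S ≤ K := by
  rintro _ ⟨a, -, rfl⟩
  exact ev_mem fun j hj => hK j (w_lt hj)

theorem card_S : Nat.card h.S = 2 ^ T.n := by
  have := Set.ncard_image_of_injOn (s := {a | a < 2 ^ T.n}) (f := T.E x) fun a ha b hb => h.inj a ha b hb
  rw [show {a | a < 2 ^ T.n} = Set.Iio (2 ^ T.n) from rfl, Set.ncard_Iio_nat] at this
  exact this

theorem isP : IsPGroup 2 h.S := IsPGroup.of_card h.card_S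

theorem cons_eq {a : ℕ} (ha : a < 2 ^ T.n) (L : List ℕ) : (fun i => T.E x (nth (a :: T.iv a :: L) i)) =
    cons2 (T.E x a) (T.E x a)⁻¹ fun i => T.E x (nth L i) := by
  funext i
  rcases i with _ | _ | i
  · rfl
  · exact h.iv_spec ha
  · rfl

theorem evb_iff (f : Fm) : ∀ L, T.evb f L = true ↔ f.sat h.S fun i => T.E x (nth L i) := by
  induction f with
  | one u =>
    intro L
    refine nbeq_iff.trans ⟨fun e => ?_, fun e => ?_⟩
    · show ev _ u = 1
      rw [← h.wr_zero, e, E_zero]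
    · exact h.inj _ (h.wr_spec L u 0 (by positivity)).1 0 (by positivity)
        (by rw [h.wr_zero, E_zero]; exact e)
  | not f ih => intro L; exact bnot_iff.trans (not_congr (ih L))
  | and f g i1 i2 => intro L; exact band_iff.trans (and_congr (i1 L) (i2 L))
  | all f ih =>
    intro L
    refine allLt_iff.trans ⟨?_, fun H a ha => ?_⟩
    · rintro H _ ⟨a, ha, rfl⟩
      have := H a (two_eq _ ▸ ha)
      rw [force_eq, force_eq] at this
      exact h.cons_eq ha L ▸ (ih _).1 this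
    · rw [force_eq, force_eq]
      exact (ih _).2 (h.cons_eq (two_eq _ ▸ ha) L ▸ H _ (h.E_mem a))

theorem nth_mem' {K : Subgroup G} {L : List ℕ} (hL : ∀ l ∈ L, T.E x l ∈ K) (u : List ℕ) :
    ev (fun i => T.E x (nth L i)) u ∈ K := ev_mem fun i _ => by
  rcases nth_mem_or L i with e | e
  · exact hL _ e
  · rw [e, E_zero]; exact K.one_mem

theorem cosm_spec {K : Subgroup G} {L : List ℕ} (hL : ∀ l ∈ L, T.E x l ∈ K) {k a y : ℕ}
    (ha : a < 2 ^ T.n) (hy : tb (T.cosm L k a) y = true) : ∃ c ∈ K, T.E x y = T.E x a * c := by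
  rw [tb_eq, cosm, testBit_orLt] at hy
  obtain ⟨m, -, hm⟩ := hy
  rw [testBit_two, decide_eq_true_iff] at hm
  exact ⟨_, h.nth_mem' hL _, hm ▸ (h.wr_spec L _ a ha).2⟩

theorem cen_spec {z : ℕ} (H : T.cenChk z = true) : T.E x z ≠ 1 ∧
    ∀ s ∈ h.S, s ∈ Subgroup.centralizer (h.S : Set G) → s ≠ 1 → s = T.E x z := by
  obtain ⟨h1, H⟩ := band_iff.1 H
  obtain ⟨h2, H⟩ := band_iff.1 H
  refine ⟨fun e => bnot_iff.1 h2 (nbeq_iff.2 (h.inj _ (lt_iff.1 h1) 0 (by positivity)
    (e.trans E_zero.symm))), ?_⟩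
  rintro _ ⟨a, ha, rfl⟩ hc hne
  have := allLt_iff.1 H a (two_eq _ ▸ ha)
  rw [force_eq, bor_iff, bor_iff, anyLt_iff, nbeq_iff, nbeq_iff] at this
  rcases this with ⟨j, hj, e⟩ | rfl | rfl
  · refine absurd (nbeq_iff.2 (h.inj _ (get_lt _ _ _) _ (h.mu_spec (get_lt _ _ _) a).1 ?_)) (bnot_iff.1 e)
    show T.E x (T.r j a) = T.E x (T.mu (T.r j 0) a)
    rw [← h.mul a ha j hj, (h.mu_spec (r_lt _ _) a).2, h.gen hj, hc _ (h.x_mem hj)]
  · exact absurd E_zero hne
  · rfl

variable (hchk : ∀ u v, chk u v = true → ev x u = ev x v)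
include hchk

omit h in
theorem chk_conj {u : List ℕ} {a b : ℕ} (H : chk (u ++ T.w a) (T.w b ++ u) = true) :
    ev x u * T.E x a * (ev x u)⁻¹ = T.E x b := by
  have := hchk _ _ H
  rw [ev_append, ev_append] at this
  exact mul_inv_eq_iff_eq_mul.2 this

theorem fuse_spec {X : Set G} (hX : PCl 2 X) (steps : List (List ℕ × List ℕ × ℕ)) :
    ∀ M, (∀ a ∈ M, T.E x a ∈ hX.sub h.isP) → T.fuse chk steps M = true → h.S ≤ hX.sub h.isP := by
  induction steps with
  | nil =>
    intro M hM H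
    refine h.S_le fun j hj => ?_
    obtain ⟨a, ha, e⟩ := anyL_iff.1 (allLt_iff.1 H j hj)
    rw [← h.gen hj, nbeq_iff.1 e]
    exact hM a ha
  | cons s steps ih =>
    intro M hM H
    obtain ⟨h1, h2⟩ := band_iff.1 H
    refine ih _ (List.forall_mem_cons.2 ⟨⟨h.E_mem _, ?_⟩, hM⟩) h2
    rw [← chk_conj hchk h1, h.wr_zero]
    exact hX.conj _ _ (h.nth_mem' hM _).2

variable [Finite G] {A : Subgroup G → Subgroup G} (hA : NFam 2 A)
include hA

theorem rig_spec {q : ℕ} (hq : ∀ j < q, x j ∈ A h.S) (steps : List (ℕ × ℕ × Fm × List (List ℕ × ℕ))) :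
    ∀ k L, T.rig chk q steps k L = true →
      Subgroup.normalizer (h.S : Set G) ⊓ Subgroup.centralizer (T.E x '' {l | l ∈ L}) ≤ A h.S := by
  induction steps with
  | nil =>
    intro k L H g hg
    refine hA.cent _ fun s hs => ?_
    refine (Subgroup.mem_centralizer_singleton_iff.1
      (h.S_le (K := Subgroup.centralizer {g}) (fun j hj => ?_) hs))
    have H' : allLt T.n (fun j => tb (T.cosm L k 0) (T.r j 0)) = true :=
      (force_eq (T.cosm L k 0) fun c => allLt T.n fun j => tb c (T.r j 0)).symm.trans H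
    obtain ⟨c, hc, e⟩ := h.cosm_spec (K := Subgroup.centralizer {g}) (fun l hl =>
      Subgroup.mem_centralizer_singleton_iff.2 (hg.2 _ ⟨l, hl, rfl⟩)) (by positivity) (allLt_iff.1 H' j hj)
    rw [← h.gen hj, e, E_zero, one_mul]
    exact hc
  | cons s steps ih =>
    intro k L H
    obtain ⟨h1, H⟩ := band_iff.1 H
    obtain ⟨h2, H⟩ := band_iff.1 H
    obtain ⟨h3, H⟩ := band_iff.1 H
    obtain ⟨h4, h5⟩ := band_iff.1 H
    simp only [force_eq] at h4
    rw [force_eq, force_eq] at h5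
    have h6 := lt_iff.1 (band_iff.1 h1).1
    set M := Subgroup.normalizer (h.S : Set G) ⊓ Subgroup.centralizer (T.E x '' {l | l ∈ L})
    have hL : ∀ l ∈ L, T.E x l ∈ h.S ⊓ Subgroup.centralizer (M : Set G) := fun l hl =>
      ⟨h.E_mem l, fun g hg => (hg.2 _ ⟨l, hl, rfl⟩).symm⟩
    refine rig_step hA h.isP inf_le_left (D := h.S ⊓ Subgroup.centralizer (M : Set G)) inf_le_left
      (fun g hg c hc => hc.2 g hg) (x := T.E x s.1) (x' := T.E x s.2.1)
      (fun g hg e => ih _ _ h5 ⟨hg.1, ?_⟩) fun g hg => ?_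
    · rintro _ ⟨l, hl, rfl⟩
      rcases List.mem_cons.1 hl with rfl | hl
      · exact e.symm
      rcases List.mem_cons.1 hl with rfl | hl
      · rw [h.iv_spec h6]; exact (Commute.inv_right e).symm
      · exact hg.2 _ ⟨l, hl, rfl⟩
    obtain ⟨y, hy, e⟩ := conj_mem_of_mem_normalizer hg.1 (h.E_mem s.1)
    have h7 := allLt_iff.1 h4 y (two_eq _ ▸ hy)
    rw [← e]
    rcases bor_iff.1 h7 with j | j
    · exact Or.inl ⟨1, M.one_mem, (A _).one_mem, by simpa using h.cosm_spec hL h6 j⟩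
    rcases bor_iff.1 j with j | j
    · exact Or.inr (h.cosm_spec hL (lt_iff.1 (band_iff.1 h1).2) j)
    rcases bor_iff.1 j with j | j
    · refine absurd ((h.evb_iff _ _).2 ?_) (bnot_iff.1 j)
      have := (Fm.sat_conj hg.1 _ _).2 (h.cons_eq h6 L ▸ (h.evb_iff _ _).1 h2)
      rw [h.cons_eq hy]
      convert this using 1
      funext i
      rcases i with _ | _ | i
      · exact e
      · show (T.E x y)⁻¹ = g * (T.E x s.1)⁻¹ * g⁻¹
        rw [e]; group
      · have := (h.nth_mem' hL [i]).2 g hg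
        rw [ev_cons, ev_nil, mul_one] at this
        exact eq_mul_inv_iff_mul_eq.2 this.symm
    · obtain ⟨u, hu, j⟩ := anyL_iff.1 j
      obtain ⟨j1, j2⟩ := band_iff.1 (allL_iff.1 h3 u hu)
      obtain ⟨j2, j3⟩ := band_iff.1 j2
      obtain ⟨j3, j4⟩ := band_iff.1 j3
      have j5 : ev x u.1 ∈ A h.S := ev_mem fun a ha => hq a (nble_iff.1 (allL_iff.1 j1 a ha))
      refine Or.inl ⟨_, ⟨hA.le _ j5, ?_⟩, j5, chk_conj hchk j3 ▸ h.cosm_spec hL (lt_iff.1 j2) j⟩
      rintro _ ⟨l, hl, rfl⟩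
      exact (mul_inv_eq_iff_eq_mul.1 (chk_conj hchk (allL_iff.1 j4 l hl))).symm

theorem q_spec (hS : H18.SylIn 2 h.S ⊤) {qs ns : List ℕ} {ts : List (ℕ × List ℕ)}
    (H : T.qChk chk qs ns ts = true) : x T.n ∈ A h.S := by
  obtain ⟨h1, H⟩ := band_iff.1 H
  obtain ⟨h2, H⟩ := band_iff.1 H
  obtain ⟨h3, h4⟩ := band_iff.1 H
  obtain ⟨h3, h5⟩ := band_iff.1 h3
  set Q := Subgroup.closure (T.E x '' {q | q ∈ qs})
  have hq : ∀ q ∈ qs, T.E x q ∈ Q := fun q hq => Subgroup.subset_closure ⟨q, hq, rfl⟩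
  have hm : ∀ y, T.memQ qs y = true → T.E x y ∈ Q := fun y hy => by
    rw [memQ, force_eq, anyLt_iff] at hy
    obtain ⟨m, -, e⟩ := hy
    rw [nbeq_iff.1 e, h.wr_zero]
    exact h.nth_mem' hq _
  have hn : ∀ g, (∀ q ∈ qs, g * T.E x q * g⁻¹ ∈ Q) → g ∈ Subgroup.normalizer (Q : Set G) := fun g hg =>
    H18.mem_normalizer_of_conj_mem fun _ hx => (Subgroup.closure_le
      (Q.comap (MulAut.conj g).toMonoidHom)).2 (by rintro _ ⟨q, k, rfl⟩; exact hg q k) hx
  have hQ : Q ≤ h.S := (Subgroup.closure_le _).2 (by rintro _ ⟨q, -, rfl⟩; exact h.E_mem q)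
  refine hA.up Q _ h.isP hQ (pCent_of_normal hS hQ (h.S_le fun j hj => hn _ fun q k => ?_) ?_) _ ?_ ?_
  · have := hm _ (allL_iff.1 (band_iff.1 (allLt_iff.1 h1 j hj)).2 q k)
    rwa [(h.mu_spec (h.mu_spec (r_lt _ _) q).1 _).2, (h.mu_spec (r_lt _ _) q).2,
      h.iv_spec (r_lt _ _), h.gen hj] at this
  · rintro _ ⟨a, ha, rfl⟩ hc
    have := allLt_iff.1 h2 a (two_eq _ ▸ ha)
    rw [force_eq, bor_iff, anyL_iff] at this
    rcases this with ⟨q, k, e⟩ | e
    · have k' := lt_iff.1 (allL_iff.1 h3 q k)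
      refine absurd (nbeq_iff.2 (h.inj _ (h.mu_spec ha q).1 _ (h.mu_spec k' a).1 ?_)) (bnot_iff.1 e)
      rw [(h.mu_spec ha q).2, (h.mu_spec k' a).2, hc _ (hq q k)]
    · exact hm a e
  · have e := hchk _ _ h5
    rw [ev_cons, ev_nil, mul_one] at e
    rw [e]
    refine ev_mem fun a ha => ?_
    obtain ⟨t, ht, rfl⟩ := List.mem_map.1 ha
    obtain ⟨j1, j2⟩ := band_iff.1 (allL_iff.1 h4 t ht)
    refine hA.pel _ _ (hn _ fun q k => ?_) ⟨3, by simpa [ev, pow_succ, mul_assoc] using hchk _ _ j1⟩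
    obtain ⟨i, hi, rfl⟩ : ∃ i < qs.length, nth qs i = q := by
      clear * - k
      induction qs with
      | nil => cases k
      | cons a l ih =>
        rcases List.mem_cons.1 k with rfl | k
        · exact ⟨0, by simp, rfl⟩
        · obtain ⟨i, hi, e⟩ := ih k
          exact ⟨i + 1, by simpa using hi, e⟩
    have := chk_conj hchk (u := [t.1]) (allLt_iff.1 j2 i hi)
    rw [ev_cons, ev_nil, mul_one, h.wr_zero] at this
    exact this ▸ h.nth_mem' hq _
  · refine H18.mem_normalizer_of_conj_mem fun _ hx =>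
      h.S_le (K := h.S.comap (MulAut.conj (x T.n)).toMonoidHom) (fun j hj => ?_) hx
    have := hchk _ _ (band_iff.1 (allLt_iff.1 h1 j hj)).1
    simp only [ev_append, ev_cons, ev_nil, mul_one] at this
    show x T.n * x j * (x T.n)⁻¹ ∈ h.S
    rw [this, mul_inv_cancel_right]
    exact h.E_mem _

omit hA in
theorem simple {m : ℕ} (hG : Nat.card G = 2 ^ T.n * m) (hm : m % 2 = 1) {z : ℕ}
    (H1 : T.cenChk z = true) {fs : List (List ℕ × List ℕ × ℕ)} (H2 : T.fuse chk fs [z] = true)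
    {q : ℕ} {rs : List (ℕ × ℕ × Fm × List (List ℕ × ℕ))} (H3 : T.rig chk q rs 0 [] = true)
    (H4 : q = T.n ∨ q = T.n + 1 ∧ ∃ qs ns ts, T.qChk chk qs ns ts = true)
    {S' : Subgroup G} (hS' : H18.SylIn 2 S' ⊤) : (groupFusionSystem S').IsSimple 2 := by
  have hS : H18.SylIn 2 h.S ⊤ := sylIn_of_card le_top h.isP h.card_S.ge (Subgroup.card_top.trans hG) hm
  obtain ⟨h1, h2⟩ := h.cen_spec H1
  refine simple_equiv (MulEquiv.refl _) hS hS' (simple_of_crit hS (fun e => h1 ?_)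
    (fun X hX y k1 k2 _ k4 k5 s hs => ?_) fun A hA g hg => ?_)
  · exact Subgroup.mem_bot.1 (e ▸ h.E_mem z)
  · exact (h.fuse_spec hchk hX fs [z] (by simpa using ⟨h.E_mem z, h2 y k4 k5 k2 ▸ k1⟩) H2 hs).2
  · refine h.rig_spec hchk hA (fun j hj => ?_) rs 0 [] H3 ⟨hg, by rintro _ ⟨_, ⟨⟩, -⟩⟩
    rcases H4 with rfl | ⟨rfl, qs, ns, ts, H4⟩
    · exact hA.sylow h.isP (h.x_mem hj)
    · rcases Nat.lt_succ_iff_lt_or_eq.1 hj with hj | rfl
      · exact hA.sylow h.isP (h.x_mem hj)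
      · exact h.q_spec hchk hA hS H4

end TS
end Tb

end Cfsg.Agent.H17
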