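import Mathlib
import Cfsg.Agent.H17.SimpD
import Cfsg.Agent.H15.Cover

/-! Tables of Sylow subgroups from power-conjugate relations and one regular orbit. -/

set_option autoImplicit false

open Cfsg
open Cfsg.Agent.H14
open Cfsg.Agent.H25 (ev ev_nil ev_cons ev_append ev_mem map_ev)
open Cfsg.Agent.H15 (TabAct okW eqOn okW_iff)

namespace Cfsg.Agent.H17

variable {G : Type*} [Group G]

theorem pc_card_le [Finite G] (x : ℕ → G) (n : ℕ)
    (h : ∀ i < n, ∀ j ≤ i, ∃ w : List ℕ, (∀ a ∈ w, j < a ∧ a < n) ∧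
      x i * x j = (if i = j then 1 else x j) * ev x w) (d : ℕ) (hd : d ≤ n) :
    Nat.card (Subgroup.closure (x '' Set.Ico (n - d) n)) ≤ 2 ^ d := by
  induction d with
  | zero => simp
  | succ d ih =>
    have ih := ih (by omega)
    set P := Subgroup.closure (x '' Set.Ico (n - d) n) with hP
    set g := x (n - (d + 1)) with hg
    have hw : ∀ w : List ℕ, (∀ a ∈ w, n - (d + 1) < a ∧ a < n) → ev x w ∈ P := fun w hw =>
      ev_mem fun a ha => Subgroup.subset_closure ⟨a, ⟨by have := (hw a ha).1; omega, (hw a ha).2⟩, rfl⟩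
    have h1 : g ∈ Subgroup.normalizer (P : Set G) := by
      refine (Subgroup.inv_mem_iff _).1 (H18.mem_normalizer_of_conj_mem fun y hy => ?_)
      refine ((Subgroup.closure_le (P.comap (MulAut.conj g⁻¹).toMonoidHom)).2 ?_) hy
      rintro _ ⟨i, hi, rfl⟩
      obtain ⟨w, a, b⟩ := h i hi.2 (n - (d + 1)) (by have := hi.1; omega)
      rw [if_neg (by have := hi.1; omega)] at b
      show g⁻¹ * x i * g⁻¹⁻¹ ∈ P
      rw [inv_inv, mul_assoc, b, inv_mul_cancel_left]
      exact hw w a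
    have h2 : g * g ∈ P := by
      obtain ⟨w, a, b⟩ := h (n - (d + 1)) (by omega) _ le_rfl
      rw [if_pos rfl, one_mul] at b
      exact b ▸ hw w a
    have h3 : (Subgroup.closure (x '' Set.Ico (n - (d + 1)) n) : Set G) ⊆ P ∪ (g * ·) '' P := by
      intro y hy
      have : y ∈ P ⊔ Subgroup.zpowers g := by
        refine ((Subgroup.closure_le _).2 ?_) hy
        rintro _ ⟨i, hi, rfl⟩
        rcases hi.1.eq_or_lt with e | e
        · exact Subgroup.mem_sup_right (e ▸ Subgroup.mem_zpowers _)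
        · exact Subgroup.mem_sup_left (Subgroup.subset_closure ⟨i, ⟨by omega, hi.2⟩, rfl⟩)
      exact (mem_or_of_sq h1 h2 this).imp id fun c => ⟨_, c, mul_inv_cancel_left _ _⟩
    have h4 := (Set.ncard_le_ncard h3).trans (Set.ncard_union_le _ _)
    have h5 := Set.ncard_image_le (f := (g * ·)) (s := (P : Set G))
    have h6 : (P : Set G).ncard ≤ 2 ^ d := ih
    exact h4.trans (by rw [pow_succ]; omega)

namespace Tb
variable (T : Tb)

/-- the power-conjugate relations -/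
noncomputable def pcAt (chk : List ℕ → List ℕ → Bool) (i : ℕ) : Bool :=
  allLt (Nat.succ i) fun j => force j fun j =>
    force (Nat.shiftLeft (Nat.shiftRight (T.r j (T.r i 0)) (Nat.succ j)) (Nat.succ j)) fun m =>
      band (allL (T.w m) (Nat.blt j)) (chk [i, j] (Bool.rec (j :: T.w m) (T.w m) (Nat.beq i j)))

/-- equality of words, first at one point -/
noncomputable def chkP (ap : ℕ → ℕ → ℕ) (L v : ℕ) (bs u w : List ℕ) : Bool :=
  bor (band (band (okW T.n u) (okW T.n w)) (eqOn ap L [v] u w)) (eqOn ap L bs u w)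

/-- the images of a point determine the number -/
noncomputable def decChk (ap : ℕ → ℕ → ℕ) (v : ℕ) (D : ℕ → ℕ) : Bool :=
  allLt (two T.n) fun a => force a fun a => force (H15.tr ap (T.w a) v) fun y => Nat.beq (D y) a

variable {T}

theorem chkP_spec [Finite G] {X : Type*} [MulAction G X] {A : TabAct G X} {bs : List ℕ} (hb : A.Base ⊤ bs)
    (hL : T.n ≤ A.L) (H1 : ∀ i < T.n, T.pcAt (eqOn A.ap A.L bs) i = true) {v : ℕ} (hv : v < A.n)
    {D : ℕ → ℕ} (H2 : T.decChk A.ap v D = true) :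
    (∀ u w, T.chkP A.ap A.L v bs u w = true → ev A.e u = ev A.e w) ∧
      ∀ a < 2 ^ T.n, ∀ b < 2 ^ T.n, T.E A.e a = T.E A.e b → a = b := by
  have hc := pc_card_le A.e T.n (fun i hi j hj => by
    have := allLt_iff.1 (H1 i hi) j (Nat.lt_succ_of_le hj)
    rw [force_eq, force_eq, band_iff] at this
    refine ⟨_, fun a ha => ⟨Nat.blt_eq.mp (allL_iff.1 this.1 a ha), w_lt ha⟩, ?_⟩
    have e := hb.eq this.2
    split_ifs with c
    · rw [nbeq_iff.2 c] at e
      simpa [H15.lprod, ev] using e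
    · rw [Bool.eq_false_iff.2 (mt nbeq_iff.1 c)] at e
      simpa [H15.lprod, ev] using e) T.n le_rfl
  rw [Nat.sub_self] at hc
  set K := Subgroup.closure (A.e '' Set.Ico 0 T.n)
  have hK : ∀ u : List ℕ, (∀ a ∈ u, a < T.n) → ev A.e u ∈ K := fun u hu =>
    ev_mem fun a ha => Subgroup.subset_closure ⟨a, ⟨Nat.zero_le _, hu a ha⟩, rfl⟩
  have h1 : ∀ a < 2 ^ T.n, ∀ b < 2 ^ T.n, (T.E A.e a)⁻¹ • A.c v = (T.E A.e b)⁻¹ • A.c v → a = b := by
    intro a ha b hb e
    have t1 := A.tr_spec (w := T.w a) (okW_iff.2 fun j hj => (w_lt hj).trans_le hL) hv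
    have t2 := A.tr_spec (w := T.w b) (okW_iff.2 fun j hj => (w_lt hj).trans_le hL) hv
    have d1 := allLt_iff.1 H2 a (by rwa [two_eq])
    have d2 := allLt_iff.1 H2 b (by rwa [two_eq])
    rw [force_eq, force_eq, nbeq_iff] at d1 d2
    rw [← d1, ← d2, A.inj _ t1.1 _ t2.1 (t1.2.symm.trans (e.trans t2.2))]
  have h2 : Function.Surjective fun a : Fin (2 ^ T.n) => (⟨T.E A.e a, hK _ fun _ => w_lt⟩ : K) :=
    (Function.Injective.bijective_of_nat_card_le (fun a b e => Fin.ext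
      (h1 _ a.2 _ b.2 (by rw [show T.E A.e a = T.E A.e b from Subtype.ext_iff.1 e]))) (by simpa using hc)).2
  refine ⟨fun u w H => ?_, fun a ha b hb e => h1 a ha b hb (by rw [e])⟩
  rcases bor_iff.1 H with H | H
  · simp only [band_iff, okW_iff, eqOn, Bool.and_eq_true, allL_iff, nbeq_iff] at H
    obtain ⟨a, ha⟩ := h2 ⟨_, hK u H.1.1⟩
    obtain ⟨b, hb⟩ := h2 ⟨_, hK w H.1.2⟩
    have ha : T.E A.e a = ev A.e u := Subtype.ext_iff.1 ha
    have hb : T.E A.e b = ev A.e w := Subtype.ext_iff.1 hb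
    rw [← ha, ← hb, h1 _ a.2 _ b.2 (by
      rw [ha, hb]
      exact (A.tr_spec (okW_iff.2 H.2.1.1) hv).2.trans ((congrArg A.c (H.2.2 v (by simp))).trans
        (A.tr_spec (okW_iff.2 H.2.1.2) hv).2.symm))]
  · exact hb.eq H

theorem ts_of_map {G' : Type*} [Group G'] {f : G →* G'} (hf : Function.Injective f) {x : ℕ → G}
    {y : ℕ → G'} (h : ∀ l, f (x l) = y l) {chk : List ℕ → List ℕ → Bool}
    (h1 : (∀ u w, chk u w = true → ev y u = ev y w) ∧
      ∀ a < 2 ^ T.n, ∀ b < 2 ^ T.n, T.E y a = T.E y b → a = b)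
    (H : ∀ a < 2 ^ T.n, ∃ lo hi, lo ≤ a ∧ a < hi ∧ T.tabChk chk lo hi = true) :
    T.TS x ∧ ∀ u w, chk u w = true → ev x u = ev x w := by
  have e : ∀ u, f (ev x u) = ev y u := fun u => by rw [map_ev, funext h]
  have h2 : ∀ u w, chk u w = true → ev x u = ev x w := fun u w c => hf (by rw [e, e, h1.1 u w c])
  refine ⟨⟨fun a ha => ?_, fun a ha => ?_, fun a ha b hb c => h1.2 a ha b hb ?_⟩, h2⟩
  · obtain ⟨lo, hi, a1, a2, a3⟩ := H a ha
    exact (tabChk_spec h2 a3 a a1 a2).2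
  · obtain ⟨lo, hi, a1, a2, a3⟩ := H a ha
    exact (tabChk_spec h2 a3 a a1 a2).1
  · exact (e _).symm.trans ((congrArg f c).trans (e _))

end Tb

end Cfsg.Agent.H17
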